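import Cfsg.Agent.Lib.LAEven56.JComp.Split

/-!
# How the components inside `L ∈ jOvergroups T` act on each other's modules

Owner: helper56.
-/

set_option autoImplicit false
set_option linter.style.haveILetI false
set_option linter.unusedSectionVars false

open Cfsg
open scoped commutatorElement

namespace Cfsg.Agent.Lib.LAEven56.JComp

open Cfsg.Agent.Lib

variable {G : Type*} [Group G]

/-- The elements normalising `Q` and centralising `c` modulo `Q`. -/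
def relCent (Q : Subgroup G) (c : G) : Subgroup G where
  carrier := {u | u ∈ Subgroup.normalizer (Q : Set G) ∧ ⁅u, c⁆ ∈ Q}
  one_mem' := ⟨one_mem _, by simp⟩
  mul_mem' := by
    rintro u v ⟨hu, hu'⟩ ⟨hv, hv'⟩
    refine ⟨mul_mem hu hv, ?_⟩
    rw [show ⁅u * v, c⁆ = u * ⁅v, c⁆ * u⁻¹ * ⁅u, c⁆ by simp only [commutatorElement_def]; group]
    exact Q.mul_mem ((Subgroup.mem_normalizer_iff.1 hu _).1 hv') hu'
  inv_mem' := by
    rintro u ⟨hu, hu'⟩
    refine ⟨inv_mem hu, ?_⟩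
    rw [show ⁅u⁻¹, c⁆ = u⁻¹ * ⁅u, c⁆⁻¹ * u by simp only [commutatorElement_def]; group]
    have := (Subgroup.mem_normalizer_iff.1 (inv_mem hu) _).1 (Q.inv_mem hu')
    simpa using this

theorem mem_relCent {Q : Subgroup G} {c u : G} :
    u ∈ relCent Q c ↔ u ∈ Subgroup.normalizer (Q : Set G) ∧ ⁅u, c⁆ ∈ Q := Iff.rfl

theorem self_le_relCent {Q : Subgroup G} {c : G} (hc : c ∈ Subgroup.normalizer (Q : Set G)) :
    Q ≤ relCent Q c := fun q hq => ⟨Subgroup.le_normalizer hq, by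
      rw [commutatorElement_def, show q * c * q⁻¹ * c⁻¹ = q * (c * q⁻¹ * c⁻¹) by group]
      exact Q.mul_mem hq ((Subgroup.mem_normalizer_iff.1 hc _).1 (Q.inv_mem hq))⟩

variable [Finite G] {T K L R : Subgroup G}

theorem eq_of_fixed_free {W X : Subgroup G} (hW : Nat.card W = 4) {d : G}
    (hfree : ∀ w ∈ W, d * w = w * d → w = 1) (hX : X ≤ W) {u : G} (hu : u ∈ X) (hu1 : u ≠ 1)
    (hdu : d * u * d⁻¹ ∈ X) : X = W := by
  by_contra hne
  have h2 := eq_one_or_of_fixed hW (lt_of_le_of_ne hX hne)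
  classical
  haveI := Fintype.ofFinite X
  rw [Nat.card_eq_fintype_card] at h2
  have hne2 : d * u * d⁻¹ ≠ u := fun e => hu1 (hfree u (hX hu) (mul_inv_eq_iff_eq_mul.1 e))
  have hne1 : d * u * d⁻¹ ≠ 1 := fun e => hu1 (conj_eq_one_iff.1 e)
  have h3 : ({1, ⟨u, hu⟩, ⟨_, hdu⟩} : Finset X).card = 3 :=
    Finset.card_eq_three.2 ⟨1, ⟨u, hu⟩, ⟨_, hdu⟩, fun e => hu1 (congrArg Subtype.val e).symm,
      fun e => hne1 (congrArg Subtype.val e).symm, fun e => hne2 (congrArg Subtype.val e).symm, rfl⟩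
  have := h3 ▸ Finset.card_le_univ _
  omega

namespace LocalData

/-- An element of `J(T)` centralises or inverts a line. -/
theorem line_cases (D : LocalData T L R) {u c : G} (hu : IsLine T L R u) (hc : c ∈ jT T)
    (hcL : c ∈ L) : ⁅u, c⁆ ∈ Cfsg.pCoreOf 2 L ∨ ∃ q ∈ Cfsg.pCoreOf 2 L, c * u * c⁻¹ = u⁻¹ * q := by
  set Q := Cfsg.pCoreOf 2 L
  have huN : u ∈ Subgroup.normalizer (Q : Set G) := CharP.le_normalizer_pCoreOf 2 L (D.le hu.1)
  have h1 : c * u * c⁻¹ ∈ ((Subgroup.zpowers u ⊔ Q : Subgroup G) : Set G) := hu.2.2 c hc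
  rw [Subgroup.coe_mul_of_left_le_normalizer_right _ _ (Subgroup.zpowers_le.2 huN)] at h1
  obtain ⟨e, ⟨n, rfl⟩, q, hq, he⟩ := h1
  have he' : u ^ n * q = c * u * c⁻¹ := he
  have h3 : (u ^ (3 : ℤ)) ∈ Q := by exact_mod_cast D.cube u hu.1
  have hsplit : u ^ n = u ^ (n % 3) * (u ^ (3 : ℤ)) ^ (n / 3) := by
    rw [← zpow_mul, ← zpow_add, Int.emod_add_mul_ediv]
  rw [hsplit, mul_assoc] at he'
  have hq' : (u ^ (3 : ℤ)) ^ (n / 3) * q ∈ Q := Q.mul_mem (Q.zpow_mem h3 _) hq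
  set q' := (u ^ (3 : ℤ)) ^ (n / 3) * q
  have hn : n % 3 = 0 ∨ n % 3 = 1 ∨ n % 3 = 2 := by omega
  rcases hn with h | h | h <;> rw [h] at he'
  · exfalso
    rw [zpow_zero, one_mul] at he'
    exact hu.2.1 ((Subgroup.mem_normalizer_iff.1 (CharP.le_normalizer_pCoreOf 2 L hcL) u).2 (he' ▸ hq'))
  · left
    rw [zpow_one] at he'
    rw [show ⁅u, c⁆ = u * (c * u * c⁻¹)⁻¹ by rw [commutatorElement_def]; group, ← he',
      show u * (u * q')⁻¹ = u * q'⁻¹ * u⁻¹ by group]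
    exact (Subgroup.mem_normalizer_iff.1 huN _).1 (Q.inv_mem hq')
  · right
    refine ⟨u ^ (3 : ℤ) * q', Q.mul_mem h3 hq', ?_⟩
    rw [← he']
    group

theorem sq_mem (D : LocalData T L R) (hL : L ∈ Cfsg.jOvergroups T) {c : G} (hc : c ∈ jT T) :
    c * c ∈ Cfsg.pCoreOf 2 L := by
  set Q := Cfsg.pCoreOf 2 L
  have hcL := LocalData.jT_le hL hc
  have hcN : c ∈ Subgroup.normalizer (Q : Set G) := CharP.le_normalizer_pCoreOf 2 L hcL
  have hR : R ≤ relCent Q (c * c) := by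
    refine D.gen.trans (sup_le (self_le_relCent (mul_mem hcN hcN)) ((Subgroup.closure_le _).2 ?_))
    intro u hu
    have huN : u ∈ Subgroup.normalizer (Q : Set G) := CharP.le_normalizer_pCoreOf 2 L (D.le hu.1)
    refine ⟨huN, ?_⟩
    rcases D.line_cases hu hc hcL with h | ⟨q, hq, h⟩
    · rw [show ⁅u, c * c⁆ = ⁅u, c⁆ * (c * ⁅u, c⁆ * c⁻¹) by simp only [commutatorElement_def]; group]
      exact Q.mul_mem h ((Subgroup.mem_normalizer_iff.1 hcN _).1 h)
    · have e : c * c * u * (c * c)⁻¹ = q⁻¹ * u * (c * q * c⁻¹) := by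
        calc c * c * u * (c * c)⁻¹ = c * (c * u * c⁻¹) * c⁻¹ := by group
          _ = c * (u⁻¹ * q) * c⁻¹ := by rw [h]
          _ = (c * u * c⁻¹)⁻¹ * (c * q * c⁻¹) := by group
          _ = (u⁻¹ * q)⁻¹ * (c * q * c⁻¹) := by rw [h]
          _ = _ := by group
      rw [show ⁅u, c * c⁆ = u * (c * c * u * (c * c)⁻¹)⁻¹ by
          rw [commutatorElement_def]; generalize c * c = z; group, e,
        show u * (q⁻¹ * u * (c * q * c⁻¹))⁻¹ = u * (c * q * c⁻¹)⁻¹ * u⁻¹ * q by group]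
      exact Q.mul_mem ((Subgroup.mem_normalizer_iff.1 huN _).1
        (Q.inv_mem ((Subgroup.mem_normalizer_iff.1 hcN q).1 hq))) hq
  refine D.cent _ (mul_mem hc hc) fun r hr => ?_
  exact (CharP.comm_mem_symm _).1 (hR hr).2

theorem comm_mem (D : LocalData T L R) (hL : L ∈ Cfsg.jOvergroups T) {c c' : G} (hc : c ∈ jT T)
    (hc' : c' ∈ jT T) : ⁅c, c'⁆ ∈ Cfsg.pCoreOf 2 L := by
  rw [show ⁅c, c'⁆ = (c * c') * (c * c') * (c'⁻¹ * (c * c)⁻¹ * c'⁻¹⁻¹) * (c' * c')⁻¹ by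
    rw [commutatorElement_def]; group]
  exact mul_mem (mul_mem (D.sq_mem hL (mul_mem hc hc'))
    ((Subgroup.mem_normalizer_iff.1 (CharP.le_normalizer_pCoreOf 2 L
      (L.inv_mem (LocalData.jT_le hL hc'))) _).1 (inv_mem (D.sq_mem hL hc))))
    (inv_mem (D.sq_mem hL hc'))

/-- A `J(T)`-invariant subgroup of `R` above `O₂(L)` contains a line. -/
theorem exists_line_le (D : LocalData T L R) (hL : L ∈ Cfsg.jOvergroups T) {M0 : Subgroup G}
    (hQ : Cfsg.pCoreOf 2 L ≤ M0) (hR : M0 ≤ R) (hne : ¬ M0 ≤ Cfsg.pCoreOf 2 L)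
    (hJ : jT T ≤ Subgroup.normalizer (M0 : Set G)) : ∃ x ∈ M0, IsLine T L R x := by
  set Q := Cfsg.pCoreOf 2 L
  obtain ⟨M, hMM0, hM⟩ := (Set.toFinite {M : Subgroup G | Q ≤ M ∧ M ≤ M0 ∧ ¬ M ≤ Q ∧
    jT T ≤ Subgroup.normalizer (M : Set G)}).exists_le_minimal (a := M0) ⟨hQ, le_rfl, hne, hJ⟩
  obtain ⟨hQM, -, hMQ, hJM⟩ := hM.1
  obtain ⟨x, hx, hxQ⟩ := SetLike.not_le_iff_exists.1 hMQ
  have hRN : ∀ {u : G}, u ∈ R → u ∈ Subgroup.normalizer (Q : Set G) := fun hu =>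
    CharP.le_normalizer_pCoreOf 2 L (D.le hu)
  refine ⟨x, hMM0 hx, hR (hMM0 hx), hxQ, fun c hc => ?_⟩
  have hcL := LocalData.jT_le hL hc
  have hcN : c ∈ Subgroup.normalizer (Q : Set G) := CharP.le_normalizer_pCoreOf 2 L hcL
  set F := M ⊓ relCent Q c with hF
  have hJF : jT T ≤ Subgroup.normalizer (F : Set G) := by
    refine Subgroup.le_normalizer_iff.2 fun c' hc' y hy => ?_
    have hy' : c' * y * c'⁻¹ ∈ M := (Subgroup.mem_normalizer_iff.1 (hJM hc') y).1 hy.1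
    refine ⟨hy', hRN (hR (hMM0 hy')), ?_⟩
    have hc'N : c' ∈ Subgroup.normalizer (Q : Set G) :=
      CharP.le_normalizer_pCoreOf 2 L (LocalData.jT_le hL hc')
    have e : ⁅c' * y * c'⁻¹, c⁆ = c' * ⁅y, c'⁻¹ * c * c'⁆ * c'⁻¹ := by
      simp only [commutatorElement_def]; group
    rw [e]
    refine (Subgroup.mem_normalizer_iff.1 hc'N _).1 ?_
    have e2 : c'⁻¹ * c * c' = ⁅c'⁻¹, c⁆ * c := by rw [commutatorElement_def]; group
    rw [e2, show ⁅y, ⁅c'⁻¹, c⁆ * c⁆ = ⁅y, ⁅c'⁻¹, c⁆⁆ * (⁅c'⁻¹, c⁆ * ⁅y, c⁆ * ⁅c'⁻¹, c⁆⁻¹) by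
      simp only [commutatorElement_def]; group]
    have hq := D.comm_mem hL (inv_mem hc') hc
    refine Q.mul_mem ?_ (Q.mul_mem (Q.mul_mem hq hy.2.2) (Q.inv_mem hq))
    rw [commutatorElement_def]
    exact Q.mul_mem ((Subgroup.mem_normalizer_iff.1 (hRN (hR (hMM0 hy.1))) _).1 hq) (Q.inv_mem hq)
  by_cases hFQ : F ≤ Q
  · -- `c` inverts `M`
    set x' := c * x * c⁻¹ with hx'
    have hx'M : x' ∈ M := (Subgroup.mem_normalizer_iff.1 (hJM hc) x).1 hx
    have hy : x * x' ∈ F := by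
      refine ⟨M.mul_mem hx hx'M, hRN (hR (hMM0 (M.mul_mem hx hx'M))), ?_⟩
      have hcc := D.sq_mem hL hc
      have e : c * (x * x') * c⁻¹ = x' * ((c * c) * x * (c * c)⁻¹) := by rw [hx']; group
      have hab := D.abelian (Subgroup.commutator_mem_commutator (hR (hMM0 hx)) (hR (hMM0 hx'M)))
      rw [show ⁅x * x', c⁆ = (x * x') * (c * (x * x') * c⁻¹)⁻¹ by rw [commutatorElement_def]; group, e,
        show x * x' * (x' * (c * c * x * (c * c)⁻¹))⁻¹ = ⁅x, x'⁆ * (x' * ⁅x, c * c⁆ * x'⁻¹) by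
          simp only [commutatorElement_def]; generalize c * c = z; group]
      refine Q.mul_mem hab ((Subgroup.mem_normalizer_iff.1 (hRN (hR (hMM0 hx'M))) _).1 ?_)
      rw [commutatorElement_def]
      exact Q.mul_mem ((Subgroup.mem_normalizer_iff.1 (hRN (hR (hMM0 hx))) _).1 hcc) (Q.inv_mem hcc)
    have : x' = x⁻¹ * (x * x') := by group
    change x' ∈ _
    rw [this]
    exact mul_mem (Subgroup.mem_sup_left (inv_mem (Subgroup.mem_zpowers x)))
      (Subgroup.mem_sup_right (hFQ hy))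
  · have hFM : M ≤ F := hM.2 ⟨le_inf hQM (self_le_relCent hcN), inf_le_left.trans hMM0, hFQ, hJF⟩ inf_le_left
    have h := (hFM hx).2.2
    have e : c * x * c⁻¹ = ⁅x, c⁆⁻¹ * x := by rw [commutatorElement_def]; group
    rw [e]
    exact mul_mem (Subgroup.mem_sup_right (Q.inv_mem h)) (Subgroup.mem_sup_left (Subgroup.mem_zpowers x))

/-- A 2-element normalising a component and fixing its line centralises its module. -/
theorem centralizes_wOf (hL : L ∈ Cfsg.jOvergroups T) (hK : Cfsg.IsJComponent T K)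
    (hKL : K ≤ L) {b d : G} (hbp : IsPGroup 2 (Subgroup.zpowers b))
    (hbK : b ∈ Subgroup.normalizer (K : Set G)) (hd : d ∈ K) (hd3 : d ^ 3 = 1)
    (hgen : Cfsg.pCoreOf 2 K ⊔ Subgroup.zpowers d = K) (hdb : ⁅d, b⁆ ∈ Cfsg.pCoreOf 2 L) :
    b ∈ Subgroup.centralizer (Cfsg.wOf K : Set G) := by
  haveI : Fact (Nat.Prime 2) := ⟨Nat.prime_two⟩
  have hp := preComp_of hL.1.2.1 hK
  set W := Cfsg.wOf K with hW
  have hWne : W ≠ ⊥ := fun e => by
    have := hK.2.2.2.2.1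
    rw [← hW, e, Subgroup.card_bot] at this
    omega
  obtain ⟨u, hu, hu1⟩ := (Subgroup.bot_or_exists_ne_one _).resolve_left
    (PLocal.fixOn_ne_bot ((Subgroup.zpowers_le.2 hbK).trans (normalizer_le_normalizer_wOf K))
      (PLocal.pActsOn_of_isPGroup hbp) (PGroups.elemAb_isPGroup hp.wOf_elemAb) hWne)
  obtain ⟨huW, huf⟩ := PLocal.mem_fixOn.1 hu
  have hbu : b * u = u * b := huf b (Subgroup.mem_zpowers b)
  have hdW : d ∈ Subgroup.normalizer (W : Set G) :=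
    Subgroup.le_normalizer.trans (normalizer_le_normalizer_wOf K) hd
  have hu' : d * u * d⁻¹ ∈ W := (Subgroup.mem_normalizer_iff.1 hdW u).1 huW
  set q := ⁅b, d⁆ with hq
  have hqK : q ∈ K := by
    rw [hq, commutatorElement_def]
    exact K.mul_mem ((Subgroup.mem_normalizer_iff.1 hbK d).1 hd) (K.inv_mem hd)
  have hqQ : q ∈ Cfsg.pCoreOf 2 L := (CharP.comm_mem_symm _).1 hdb
  have hqc := Subgroup.mem_centralizer_iff.1 (hp.core_centralizes_wOf (core_inf_le hKL ⟨hqK, hqQ⟩))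
    (d * u * d⁻¹) hu'
  have e : b * (d * u * d⁻¹) * b⁻¹ = d * u * d⁻¹ := by
    calc b * (d * u * d⁻¹) * b⁻¹ = q * d * (b * u * b⁻¹) * (q * d)⁻¹ := by
          rw [hq, commutatorElement_def]; group
      _ = q * (d * u * d⁻¹) * q⁻¹ := by rw [hbu]; group
      _ = _ := by rw [← hqc]; group
  have hall := eq_of_fixed_free hK.2.2.2.2.1 (hp.no_fixed hd hd3 hgen)
    (inf_le_left : W ⊓ Subgroup.centralizer ({b} : Set G) ≤ W)
    ⟨huW, Subgroup.mem_centralizer_singleton_iff.2 hbu.symm⟩ hu1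
    ⟨hu', Subgroup.mem_centralizer_singleton_iff.2 (mul_inv_eq_iff_eq_mul.1 e).symm⟩
  exact Subgroup.mem_centralizer_iff.2 fun v hv =>
    Subgroup.mem_centralizer_singleton_iff.1 (inf_eq_left.1 hall hv)

theorem wOf_le_omegaCore (D : LocalData T L R) (hG : ZNHyp G) (hL : L ∈ Cfsg.jOvergroups T)
    (hK : Cfsg.IsJComponent T K) (hKL : K ≤ L) :
    Cfsg.wOf K ≤ Cfsg.omegaCenterOf (Cfsg.pCoreOf 2 L) := by
  have hp := preComp_of hL.1.2.1 hK
  obtain ⟨d, hd, hd3, hgen, -, -⟩ := D.exists_line hL hK hKL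
  intro w hw
  refine PGroups.mem_omegaOne_of_pow ⟨D.comp_core_le hL hK hKL
    ((hp.wOf_le_omega.trans (PLocal.omegaCenterOf_le _)) hw), ?_⟩ (hp.wOf_elemAb.2 w hw)
  refine Subgroup.mem_centralizer_iff.2 fun q hq => ?_
  refine (Subgroup.mem_centralizer_iff.1 (centralizes_wOf hL hK hKL
    ((CharP.isPGroup_pCoreOf 2 L).to_le (Subgroup.zpowers_le.2 hq))
    (core_le_normalizer hG hL hK hKL hq) hd hd3 hgen ?_) w hw).symm
  rw [commutatorElement_def]
  exact mul_mem ((Subgroup.mem_normalizer_iff.1 (CharP.le_normalizer_pCoreOf 2 L (hKL hd)) q).1 hq)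
    (inv_mem hq)

theorem omegaCore_le_jT (D : LocalData T L R) (hL : L ∈ Cfsg.jOvergroups T) :
    Cfsg.omegaCenterOf (Cfsg.pCoreOf 2 L) ≤ jT T := by
  obtain ⟨A, hA, hAQ⟩ := D.coreMax
  intro v hv
  refine PGroups.le_thompsonSubgroupOf hA (mem_of_bound hA.2.1 hA.1 le_rfl hA.2.2
    (((PLocal.omegaCenterOf_le _).trans (LocalData.core_le_T hL)) hv)
    ((PLocal.omegaCenterOf_elemAb _).2 v hv) fun a ha => ?_)
  exact (Subgroup.mem_centralizer_iff.1 (PLocal.le_centralizer_omegaCenterOf _ (hAQ ha)) v hv).symm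

/-- Distinct components centralise each other's modules. -/
theorem comp_centralizes (D : LocalData T L R) (hG : ZNHyp G) (hL : L ∈ Cfsg.jOvergroups T)
    {K' : Subgroup G} (hK : Cfsg.IsJComponent T K) (hKL : K ≤ L) (hK' : Cfsg.IsJComponent T K')
    (hKL' : K' ≤ L) (hne : K ≠ K') {d : G} (hd : d ∈ K) (hd3 : d ^ 3 = 1)
    (hline : IsLine T L R d) (hsup : K ⊔ Cfsg.pCoreOf 2 L = Subgroup.zpowers d ⊔ Cfsg.pCoreOf 2 L) :
    d ∈ Subgroup.centralizer (Cfsg.wOf K' : Set G) := by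
  obtain ⟨d', hd', hd3', hgen', hline', hsup'⟩ := D.exists_line hL hK' hKL'
  obtain ⟨b, hb, hdb, hdb'⟩ := D.sep d d' hline hline' fun e =>
    hne (eq_of_sup_eq hG hL hK hKL hK' hKL' (by rw [hsup, hsup', e]))
  have hp' := preComp_of hL.1.2.1 hK'
  have hbC := centralizes_wOf hL hK' hKL' (hp'.isPGroup_jT.to_le (Subgroup.zpowers_le.2 hb))
    (hp'.le_normalizer hb) hd' hd3' hgen' hdb'
  obtain ⟨q, hq, hqe⟩ := (D.line_cases hline hb (LocalData.jT_le hL hb)).resolve_left hdb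
  have hdW : d ∈ Subgroup.normalizer (Cfsg.wOf K' : Set G) :=
    normalizer_le_normalizer_wOf K' (D.le_normalizer_of_comp hG hL hK' hKL' hline.1)
  refine Subgroup.mem_centralizer_iff.2 fun w hw => ?_
  set v := d * w * d⁻¹ with hv
  have hvW : v ∈ Cfsg.wOf K' := (Subgroup.mem_normalizer_iff.1 hdW w).1 hw
  have hqw : q * w = w * q := (Subgroup.mem_centralizer_iff.1
    (PLocal.le_centralizer_omegaCenterOf _ hq) w (D.wOf_le_omegaCore hG hL hK' hKL' hw)).symm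
  have hbv : b * v = v * b := (Subgroup.mem_centralizer_iff.1 hbC v hvW).symm
  have hbw : b * w = w * b := (Subgroup.mem_centralizer_iff.1 hbC w hw).symm
  have h1 : d⁻¹ * w * d = v := by
    calc d⁻¹ * w * d = d⁻¹ * (w * q) * q⁻¹ * d := by group
      _ = d⁻¹ * (q * w) * q⁻¹ * d := by rw [hqw]
      _ = (d⁻¹ * q) * w * (d⁻¹ * q)⁻¹ := by group
      _ = (b * d * b⁻¹) * w * (b * d * b⁻¹)⁻¹ := by rw [hqe]
      _ = b * d * (b⁻¹ * (w * b)) * d⁻¹ * b⁻¹ := by group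
      _ = b * d * (b⁻¹ * (b * w)) * d⁻¹ * b⁻¹ := by rw [hbw]
      _ = b * v * b⁻¹ := by rw [hv]; group
      _ = v := by rw [hbv, mul_inv_cancel_right]
  have hsq : (d * d) * w = w * (d * d) := by
    calc (d * d) * w = d * (d * w * d⁻¹) * d := by group
      _ = d * (d⁻¹ * w * d) * d := by rw [← hv, h1]
      _ = _ := by group
  have hd4 : (d * d) * (d * d) = d := by
    rw [show d * d * (d * d) = d ^ 3 * d by rw [pow_succ, pow_two]; simp only [mul_assoc], hd3, one_mul]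
  have h4 := (show Commute (d * d) w from hsq).mul_left (show Commute (d * d) w from hsq)
  rw [hd4] at h4
  exact h4.eq.symm

theorem comp_conj (D : LocalData T L R) (hG : ZNHyp G) (hL : L ∈ Cfsg.jOvergroups T)
    (hK : Cfsg.IsJComponent T K) (hKL : K ≤ L) {g : G} (hg : g ∈ L) :
    Cfsg.IsJComponent T (K.map (MulAut.conj g).toMonoidHom) ∧
      K.map (MulAut.conj g).toMonoidHom ≤ L := by
  refine ⟨?_, fun _ ⟨k, hk, hkk⟩ => hkk ▸ L.mul_mem (L.mul_mem hg (hKL hk)) (L.inv_mem hg)⟩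
  have hn : R ⊔ (L ⊓ Subgroup.normalizer (jT T : Set G)) ≤ L := sup_le D.le inf_le_left
  have h' : g ∈ ((((L ⊓ Subgroup.normalizer (jT T : Set G)) ⊔ R) : Subgroup G) : Set G) :=
    sup_comm R _ ▸ D.le_sup_normalizer hL hg
  rw [Subgroup.coe_mul_of_left_le_normalizer_right _ R (inf_le_left.trans D.norm)] at h'
  obtain ⟨n, hn', r, hr, rfl⟩ := h'
  rw [show K.map (MulAut.conj (n * r)).toMonoidHom =
      (K.map (MulAut.conj r).toMonoidHom).map (MulAut.conj n).toMonoidHom by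
    rw [Subgroup.map_map]; congr 1; ext x; simp [mul_assoc]]
  rw [mem_normalizer_iff_map.1 (D.le_normalizer_of_comp hG hL hK hKL hr)]
  exact isJComponent_map_of_normalizes hn'.2 hK

end LocalData

end Cfsg.Agent.Lib.LAEven56.JComp
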