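import Cfsg.Agent.Lib.LAEven56.JComp.Single

/-!
# Adjacent vertices and the first step: two neighbours of one vertex commute

Owner: helper56.
-/

set_option autoImplicit false
set_option linter.style.haveILetI false
set_option linter.unusedSectionVars false

open Cfsg
open scoped commutatorElement

namespace Cfsg.Agent.Lib.LAEven56.JComp

open Cfsg.Agent.Lib

variable {G : Type*} [Group G] [Finite G] {T K L K' L' : Subgroup G}

/-- `Ω₁Z(O₂(L))`. -/
abbrev vC (L : Subgroup G) : Subgroup G := Cfsg.omegaCenterOf (Cfsg.pCoreOf 2 L)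

theorem map_vC (g : G) (L : Subgroup G) :
    (vC L).map (MulAut.conj g).toMonoidHom = vC (L.map (MulAut.conj g).toMonoidHom) := by
  change (PLocal.omegaCenterOf 2 (Cfsg.pCoreOf 2 L)).map _ = _
  rw [PLocal.map_omegaCenterOf _ (MulAut.conj g).injective,
    CosetGraph.SylowIn.pCoreOf_map 2 L (MulAut.conj g).toMonoidHom (MulAut.conj g).injective]
  rfl

theorem le_normalizer_vC (L : Subgroup G) : L ≤ Subgroup.normalizer (vC L : Set G) := fun g hg => by
  rw [mem_normalizer_iff_map, map_vC, mem_normalizer_iff_map.1 (Subgroup.le_normalizer hg)]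

theorem vC_sq {x : G} (hx : x ∈ vC L) : x * x = 1 := by
  rw [← pow_two]; exact (PLocal.omegaCenterOf_elemAb _).2 x hx

theorem vC_comm {x y : G} (hx : x ∈ vC L) (hy : y ∈ vC L) : x * y = y * x :=
  PGroups.elemAb_comm (PLocal.omegaCenterOf_elemAb _) hx hy

/-- The elements of a four group. -/
theorem four_cases {W : Subgroup G} (hW : Nat.card W = 4) {v w : G} (hw : w ∈ W) (hw1 : w ≠ 1)
    (hww : w * w = 1) (hv : v ∈ W) (hv1 : v ≠ 1) (hvw : v ≠ w) {x : G} (hx : x ∈ W) :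
    x = 1 ∨ x = w ∨ x = v ∨ x = v * w := by
  by_contra hc
  push Not at hc
  obtain ⟨h1, h2, h3, h4⟩ := hc
  classical
  haveI := Fintype.ofFinite W
  rw [Nat.card_eq_fintype_card] at hW
  have n1 : v * w ≠ 1 := fun e => hvw ((eq_inv_of_mul_eq_one_left e).trans (inv_eq_of_mul_eq_one_right hww))
  have n2 : v * w ≠ w := fun e => hv1 (mul_right_cancel (e.trans (one_mul w).symm))
  have n3 : v * w ≠ v := fun e => hw1 (mul_eq_left.1 e)
  have h5 : ({1, ⟨w, hw⟩, ⟨v, hv⟩, ⟨v * w, W.mul_mem hv hw⟩, ⟨x, hx⟩} : Finset W).card = 5 := by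
    repeat' rw [Finset.card_insert_of_notMem]
    all_goals simp [Subtype.ext_iff, hw1.symm, hv1.symm, h1.symm, n1.symm, hvw.symm, h2.symm,
      h3.symm, n2.symm, n3.symm, h4.symm]
  have := h5 ▸ Finset.card_le_univ _
  omega

theorem conj_prod {u b b2 e s : G} (hub : u * b * u⁻¹ = b2 * e) (hub2 : u * b2 * u⁻¹ = b * e)
    (hee : e * e = 1) (heb : b * e = e * b) (hB : b2 * b * b2⁻¹ = b * s) (hs : b2 * s = s * b2) :
    u * (b * b2) * u⁻¹ = b * b2 * s := by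
  calc u * (b * b2) * u⁻¹ = (u * b * u⁻¹) * (u * b2 * u⁻¹) := by group
    _ = b2 * (e * b) * e := by rw [hub, hub2]; group
    _ = b2 * b * (e * e) := by rw [← heb]; group
    _ = b * (s * b2) := by rw [hee, mul_one, mul_inv_eq_iff_eq_mul.1 hB, mul_assoc]
    _ = _ := by rw [← hs, mul_assoc]

theorem exists_third {W : Subgroup G} (hW : Nat.card W = 4) {w : G} (hw : w ∈ W) :
    ∃ v ∈ W, v ≠ 1 ∧ v ≠ w := by
  by_contra hc
  push Not at hc
  have hle : W ≤ Subgroup.zpowers w := fun v hv => by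
    rcases eq_or_ne v 1 with rfl | h
    · exact one_mem _
    · exact hc v hv h ▸ Subgroup.mem_zpowers w
  classical
  haveI := Fintype.ofFinite W
  rw [Nat.card_eq_fintype_card] at hW
  have h := Finset.card_le_card (s := (Finset.univ : Finset W)) (t := {1, ⟨w, hw⟩}) fun v _ => by
    rcases eq_or_ne (v : G) 1 with h | h
    · simp [Subtype.ext_iff, h]
    · simp [Subtype.ext_iff, hc v v.2 h]
  have := Finset.card_le_two (a := (1 : W)) (b := ⟨w, hw⟩)
  rw [Finset.card_univ] at h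
  omega

namespace Vertex

theorem normalizer_core_eq (v : Vertex T K L) : Subgroup.normalizer (Cfsg.pCoreOf 2 L : Set G) = L :=
  v.maximal.2 _ (isTwoLocal_normalizer (CharP.isPGroup_pCoreOf 2 L) (pCoreOf_ne_bot_of_twoLocal v.maximal.1))
    (CharP.le_normalizer_pCoreOf 2 L)

theorem inf_centralizer_vC_le (v : Vertex T K L) (hG : ZNHyp G) :
    L ⊓ Subgroup.centralizer (vC L : Set G) ≤ Subgroup.normalizer (T : Set G) := by
  obtain ⟨S, hS, hloc⟩ := localHyp hG v.mem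
  set V := PLocal.omegaCenterOf 2 (Cfsg.pCore 2 ↥L)
  have hVmap : V.map L.subtype = vC L := PLocal.map_omegaCenterOf _ L.subtype_injective _
  rintro g ⟨hgL, hgV⟩
  have hgc : (⟨g, hgL⟩ : L) ∈ Subgroup.centralizer (V : Set L) := Subgroup.mem_centralizer_iff.2
    fun x hx => Subtype.ext (Subgroup.mem_centralizer_iff.1 hgV x (hVmap ▸ ⟨x, hx, rfl⟩))
  have h := hloc.cent hgc
  rw [mem_normalizer_iff_map]
  refine Subgroup.eq_of_le_of_card_ge ?_ (Subgroup.card_map_of_injective (MulAut.conj g).injective).ge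
  rw [← hS]
  rintro _ ⟨_, ⟨t, ht, rfl⟩, rfl⟩
  exact ⟨(⟨g, hgL⟩ : L) * t * (⟨g, hgL⟩ : L)⁻¹, (Subgroup.mem_normalizer_iff.1 h t).1 ht, by simp⟩

end Vertex

namespace Pair

theorem vC_le (p : Pair T K L K' L') : vC L ≤ T :=
  (PLocal.omegaCenterOf_le _).trans (LocalData.core_le_T p.left.mem)

theorem wOf_le_vC (p : Pair T K L K' L') (hG : ZNHyp G) : Cfsg.wOf K ≤ vC L :=
  le_sup_left.trans (p.omegaCore_eq hG).ge

theorem cK_le_vC (p : Pair T K L K' L') (hG : ZNHyp G) : cK T K ≤ vC L :=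
  le_sup_right.trans (p.omegaCore_eq hG).ge

theorem cK_eq_inf (p : Pair T K L K' L') (hG : ZNHyp G) :
    cK T K = vC L ⊓ Subgroup.centralizer (K : Set G) := by
  refine le_antisymm (le_inf (p.cK_le_vC hG) inf_le_right) ?_
  rintro x ⟨hxV, hxC⟩
  have hp := preComp_of p.left.two p.left.comp
  obtain ⟨d, hd, -, hd3, hgen⟩ := hp.exists_three
  have hx : x ∈ ((Cfsg.wOf K ⊔ cK T K : Subgroup G) : Set G) := p.omegaCore_eq hG ▸ hxV
  rw [Subgroup.coe_mul_of_left_le_normalizer_right _ _ (fun w hw => Subgroup.centralizer_le_normalizer _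
    (Subgroup.mem_centralizer_iff.2 fun z hz => (zJ_comm (show z ∈ cK T K from hz).1 ((split p.left.two p.left.comp).1 hw)).symm))] at hx
  obtain ⟨w, hw, c, hc, rfl⟩ := hx
  have h1 : d * (w * c) = (w * c) * d := Subgroup.mem_centralizer_iff.1 hxC d hd
  have h2 : Commute d ((w * c) * c⁻¹) := (show Commute d (w * c) from h1).mul_right
    (show Commute d c from Subgroup.mem_centralizer_iff.1 hc.2 d hd).inv_right
  rw [mul_inv_cancel_right] at h2
  rw [hp.no_fixed hd hd3 hgen w hw h2]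
  simpa using hc

theorem le_centralizer_cK (p : Pair T K L K' L') (hG : ZNHyp G) :
    L ≤ Subgroup.centralizer (cK T K : Set G) := by
  intro g hg
  have hgN : g ∈ Subgroup.normalizer (cK T K : Set G) := by
    rw [p.cK_eq_inf hG]
    exact Subgroup.inf_normalizer_le_normalizer_inf ⟨le_normalizer_vC L hg,
      Balance.normalizer_le_normalizer_centralizer _ (p.local_le_normalizer hG hg)⟩
  refine Subgroup.mem_centralizer_iff.2 fun c hc => ?_
  rcases eq_or_ne c 1 with rfl | hc1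
  · simp
  rcases eq_one_or_eq_of_card_two p.card_cK_le hc hc1 ((Subgroup.mem_normalizer_iff.1 hgN c).1 hc) with e | e
  · exact absurd (conj_eq_one_iff.1 e) hc1
  · exact (mul_inv_eq_iff_eq_mul.1 e).symm

theorem local_eq_centralizer (p : Pair T K L K' L') (hG : ZNHyp G) {c : G} (hc : c ∈ cK T K) (hc1 : c ≠ 1) :
    Subgroup.centralizer ({c} : Set G) = L :=
  le_antisymm (p.left.centralizer_le hc hc1) fun _ hg => Subgroup.mem_centralizer_singleton_iff.2
    (Subgroup.mem_centralizer_iff.1 (p.le_centralizer_cK hG hg) c hc).symm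

/-- Modulo the normaliser of `T`, `L` is generated by `d`. -/
theorem sylow_cases (p : Pair T K L K' L') (hG : ZNHyp G) {d : G} (hd : d ∈ K) (hd3 : d ^ 3 = 1)
    (hgen : Cfsg.pCoreOf 2 K ⊔ Subgroup.zpowers d = K) {g : G} (hg : g ∈ L) :
    ∃ i : G, (i = 1 ∨ i = d ∨ i = d * d) ∧ i⁻¹ * g ∈ Subgroup.normalizer (T : Set G) := by
  have hT := p.left.two
  have hK := p.left.comp
  have hp := preComp_of hT hK
  have hTZ := p.centralizes_zJ hG
  obtain ⟨w, hw, hw1, -⟩ := exists_wZ hT hK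
  have hW4 := hp.card_wOf (wOf_ne_bot hK)
  have hww := hp.wOf_sq w hw.2
  have hLW : L ≤ Subgroup.normalizer (Cfsg.wOf K : Set G) :=
    (p.local_le_normalizer hG).trans (normalizer_le_normalizer_wOf K)
  have hdL : d ∈ L := p.left.le hd
  set w1 := d * w * d⁻¹ with hw1d
  have hd3' : d * d * d = 1 := by rw [← pow_two, ← pow_succ, hd3]
  have hw1W : w1 ∈ Cfsg.wOf K := (Subgroup.mem_normalizer_iff.1 (hLW hdL) w).1 hw.2
  have hw11 : w1 ≠ 1 := fun e => hw1 (conj_eq_one_iff.1 e)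
  have hw1w : w1 ≠ w := fun e => hw1 (hp.no_fixed hd hd3 hgen w hw.2 (mul_inv_eq_iff_eq_mul.1 e))
  set w2 := d * d * w * (d * d)⁻¹ with hw2d
  have hw2' : w2 = d * w1 * d⁻¹ := by rw [hw2d, hw1d]; simp [mul_assoc]
  have hgW : g * w * g⁻¹ ∈ Cfsg.wOf K := (Subgroup.mem_normalizer_iff.1 (hLW hg) w).1 hw.2
  obtain ⟨i, hi, hiw⟩ : ∃ i : G, (i = 1 ∨ i = d ∨ i = d * d) ∧ g * w * g⁻¹ = i * w * i⁻¹ := by
    rcases four_cases hW4 hw.2 hw1 hww hw1W hw11 hw1w hgW with e | e | e | e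
    · exact absurd (conj_eq_one_iff.1 e) hw1
    · exact ⟨1, Or.inl rfl, by simpa using e⟩
    · exact ⟨d, Or.inr (Or.inl rfl), e⟩
    · refine ⟨d * d, Or.inr (Or.inr rfl), e.trans ?_⟩
      have hw2W : w2 ∈ Cfsg.wOf K := hw2' ▸ (Subgroup.mem_normalizer_iff.1 (hLW hdL) w1).1 hw1W
      rcases four_cases hW4 hw.2 hw1 hww hw1W hw11 hw1w hw2W with f | f | f | f
      · exact absurd (conj_eq_one_iff.1 f) hw1
      · exfalso
        refine hw1w ?_
        have f' : d * w2 * d⁻¹ = d * w * d⁻¹ := by rw [f]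
        rw [show d * w2 * d⁻¹ = (d * d * d) * w * (d * d * d)⁻¹ by rw [hw2d]; simp [mul_assoc], hd3'] at f'
        exact f'.symm.trans (by group)
      · exfalso
        exact hw1w (mul_left_cancel (mul_right_cancel (hw2'.symm.trans f)))
      · exact f.symm
  refine ⟨i, hi, ?_⟩
  have hiL : i ∈ L := by rcases hi with rfl | rfl | rfl <;> first | exact one_mem _ | exact hdL | exact mul_mem hdL hdL
  set h := i⁻¹ * g
  have hhL : h ∈ L := mul_mem (inv_mem hiL) hg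
  have hhw : h * w * h⁻¹ = w := by
    rw [show h * w * h⁻¹ = i⁻¹ * (g * w * g⁻¹) * i by simp [h, mul_assoc], hiw]; group
  -- elements fixing `w` normalise `T`
  have key : ∀ y ∈ L, y ∈ Subgroup.centralizer (Cfsg.wOf K : Set G) → y ∈ Subgroup.normalizer (T : Set G) := by
    intro y hy hyW
    refine p.left.inf_centralizer_vC_le hG ⟨hy, ?_⟩
    have hle : Cfsg.wOf K ⊔ cK T K ≤ Subgroup.centralizer ({y} : Set G) := sup_le
      (fun u hu => Subgroup.mem_centralizer_singleton_iff.2 (Subgroup.mem_centralizer_iff.1 hyW u hu))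
      (fun u hu => Subgroup.mem_centralizer_singleton_iff.2
        (Subgroup.mem_centralizer_iff.1 (p.le_centralizer_cK hG hy) u hu))
    rw [← p.omegaCore_eq hG] at hle
    exact Subgroup.mem_centralizer_iff.2 fun u hu => Subgroup.mem_centralizer_singleton_iff.1 (hle hu)
  by_cases hhC : h ∈ Subgroup.centralizer (Cfsg.wOf K : Set G)
  · exact key h hhL hhC
  obtain ⟨v, hv, hhv⟩ := exists_not_commute hhC
  have hhw' := mul_inv_eq_iff_eq_mul.1 hhw
  have hv1 : v ≠ 1 := fun e => hhv (by rw [e]; simp)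
  have hvw : v ≠ w := fun e => hhv (e ▸ hhw')
  obtain ⟨A, hA⟩ := exists_mover hT hK
  obtain ⟨a, haA, haC⟩ := SetLike.not_le_iff_exists.1 hA.moves
  have haT : a ∈ T := hA.mem.1 haA
  have haw := zJ_conj hTZ hw.1 haT
  have h1 := (conj_cases hW4 hw.2 hw1 hv hv1 hvw (hLW hhL) hhw).resolve_left
    fun e => hhv (mul_inv_eq_iff_eq_mul.1 e)
  have h2 := (conj_cases hW4 hw.2 hw1 hv hv1 hvw (hLW (p.left.mem.1.1 haT)) haw).resolve_left
    fun e => haC (mem_centralizer_of_two hW4 hw.2 hw1 hv hv1 hvw (mul_inv_eq_iff_eq_mul.1 haw)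
      (mul_inv_eq_iff_eq_mul.1 e))
  have h3 : a⁻¹ * h ∈ Subgroup.centralizer (Cfsg.wOf K : Set G) := by
    refine mem_centralizer_of_two hW4 hw.2 hw1 hv hv1 hvw
      (((show Commute a w from mul_inv_eq_iff_eq_mul.1 haw).inv_left.mul_left hhw').eq)
      (mul_inv_eq_iff_eq_mul.1 ?_)
    calc a⁻¹ * h * v * (a⁻¹ * h)⁻¹ = a⁻¹ * (h * v * h⁻¹) * a := by group
      _ = a⁻¹ * (a * v * a⁻¹) * a := by rw [h1, h2]
      _ = v := by group
  have := mul_mem (Subgroup.le_normalizer haT) (key _ (mul_mem (inv_mem (p.left.mem.1.1 haT)) hhL) h3)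
  rwa [mul_inv_cancel_left] at this

/-- If the two `V`s commute, `w ∈ Ω₁Z(T) ∩ W_K` is centralised by `K'`. -/
theorem wZ_le_cK_of_comm (p : Pair T K L K' L') (hG : ZNHyp G)
    (hc : vC L' ≤ Subgroup.centralizer (vC L : Set G)) : wZ T K ≤ cK T K' := by
  intro w hw
  rcases eq_or_ne w 1 with rfl | hw1
  · exact one_mem _
  by_contra hwc
  have hAC : Cfsg.wOf K ≤ Subgroup.centralizer (Cfsg.wOf K' : Set G) :=
    ((p.wOf_le_vC hG).trans (Subgroup.le_centralizer_iff.1 hc)).trans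
      (Subgroup.centralizer_le (SetLike.coe_subset_coe.2 (p.symm.wOf_le_vC hG)))
  have h1 := p.centralizer_inf_le hG p.left.comp (p.le_normalizer hG) hw hw1 hwc hAC
  have h2 : Cfsg.pCoreOf 2 L' ≤ Cfsg.pCoreOf 2 L := by
    rw [← p.symm.inf_centralizer_eq hG, ← p.inf_centralizer_eq hG]
    exact le_inf inf_le_left h1
  have h3 : Cfsg.pCoreOf 2 L' = Cfsg.pCoreOf 2 L := Subgroup.eq_of_le_of_card_ge h2 (by
    have := p.card_eq_two_mul_core hG
    have := p.symm.card_eq_two_mul_core hG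
    omega)
  exact p.ne (by rw [← p.left.normalizer_core_eq, ← p.right.normalizer_core_eq, h3])

/-- Data around an edge with commuting `V`s. -/
theorem exists_edge (p : Pair T K L K' L') (hG : ZNHyp G)
    (hc : vC L' ≤ Subgroup.centralizer (vC L : Set G)) :
    ∃ s r : G, (s ∈ wZ T K ∧ s ≠ 1 ∧ s ∈ cK T K') ∧ (r ∈ wZ T K' ∧ r ≠ 1 ∧ r ∈ cK T K) ∧ s ≠ r := by
  obtain ⟨s, hs, hs1, hsK⟩ := exists_wZ p.left.two p.left.comp
  obtain ⟨r, hr, hr1, hrK⟩ := exists_wZ p.left.two p.right.comp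
  have h1 := p.wZ_le_cK_of_comm hG hc hs
  have h2 := p.symm.wZ_le_cK_of_comm hG (Subgroup.le_centralizer_iff.1 hc) hr
  exact ⟨s, r, ⟨hs, hs1, h1⟩, ⟨hr, hr1, h2⟩, fun e => hs1 (p.cK_disjoint (e ▸ h2) h1)⟩

theorem vC_le_core (p : Pair T K L K' L') (hG : ZNHyp G)
    (hc : vC L' ≤ Subgroup.centralizer (vC L : Set G)) : vC L' ≤ Cfsg.pCoreOf 2 L := by
  rw [← p.inf_centralizer_eq hG]
  exact le_inf p.symm.vC_le (hc.trans (Subgroup.centralizer_le (SetLike.coe_subset_coe.2 (p.wOf_le_vC hG))))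

/-- The conjugate of an element of `W_{K'}` under `d ∈ K`. -/
theorem commute_conj_of_commute (p : Pair T K L K' L') (hG : ZNHyp G)
    (hc : vC L' ≤ Subgroup.centralizer (vC L : Set G)) {d : G} (hd : d ∈ K)
    {r r1 : G} (hr : r ∈ wZ T K') (hr0 : r ≠ 1) (hrK : r ∈ cK T K)
    (hr1 : r1 ∈ Cfsg.wOf K') (hr11 : r1 ≠ 1) (hr1r : r1 ≠ r)
    (hcom : (d * r1 * d⁻¹) * r1 = r1 * (d * r1 * d⁻¹)) :
    (vC L').map (MulAut.conj d).toMonoidHom ≤ Subgroup.centralizer (vC L' : Set G) := by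
  have hT := p.left.two
  have hp' := preComp_of hT p.right.comp
  obtain ⟨w, hw, hw1, hwK'⟩ : ∃ w, w ∈ wZ T K ∧ w ≠ 1 ∧ w ∈ cK T K' := by
    obtain ⟨s, r, hs, -, -⟩ := p.exists_edge hG hc
    exact ⟨s, hs⟩
  have hrV : r ∈ vC L' := p.symm.wOf_le_vC hG hr.2
  have hr1V : r1 ∈ vC L' := p.symm.wOf_le_vC hG hr1
  have hwV : w ∈ vC L := p.wOf_le_vC hG hw.2
  have hwdV : d * w * d⁻¹ ∈ vC L :=
    (Subgroup.mem_normalizer_iff.1 (le_normalizer_vC L (p.left.le hd)) w).1 hwV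
  have hdr : d * r * d⁻¹ = r := conj_eq_of_comm (Subgroup.mem_centralizer_iff.1 hrK.2 d hd).symm
  have hgenle : ∀ X : Subgroup G, r ∈ X → r1 ∈ X → w ∈ X → vC L' ≤ X := by
    intro X h1 h2 h3
    rw [show vC L' = Cfsg.wOf K' ⊔ cK T K' from p.symm.omegaCore_eq hG]
    refine sup_le (fun x hx => ?_) fun x hx => ?_
    · rcases four_cases (hp'.card_wOf (wOf_ne_bot p.right.comp)) hr.2 hr0 (hp'.wOf_sq r hr.2) hr1 hr11 hr1r hx
        with rfl | rfl | rfl | rfl
      · exact one_mem _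
      · exact h1
      · exact h2
      · exact mul_mem h2 h1
    · rcases eq_one_or_eq_of_card_two p.symm.card_cK_le hwK' hw1 hx with rfl | rfl
      · exact one_mem _
      · exact h3
  have hcVV : ∀ {a b : G}, a ∈ vC L → b ∈ vC L' → a * b = b * a := fun ha hb =>
    Subgroup.mem_centralizer_iff.1 (hc hb) _ ha
  -- each generator of the conjugate
  have h1 : d * r * d⁻¹ ∈ Subgroup.centralizer (vC L' : Set G) := by
    rw [hdr]; exact Subgroup.mem_centralizer_iff.2 fun b hb => vC_comm hb hrV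
  have h2 : d * r1 * d⁻¹ ∈ Subgroup.centralizer (vC L' : Set G) := by
    have hle : vC L' ≤ Subgroup.centralizer ({d * r1 * d⁻¹} : Set G) := by
      refine hgenle _ ?_ ?_ ?_ <;> refine Subgroup.mem_centralizer_singleton_iff.2 ?_
      · have h := congrArg (fun z => d * z * d⁻¹) (vC_comm hrV hr1V)
        simp only [← conj_mul, hdr] at h
        exact h
      · exact hcom.symm
      · have hw' : d⁻¹ * w * d ∈ vC L := by
          have := (Subgroup.mem_normalizer_iff.1 (le_normalizer_vC L (L.inv_mem (p.left.le hd))) w).1 hwV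
          rwa [inv_inv] at this
        have h := congrArg (fun z => d * z * d⁻¹) (hcVV hw' hr1V)
        simp only [← conj_mul, show d * (d⁻¹ * w * d) * d⁻¹ = w by group] at h
        exact h
    exact Subgroup.mem_centralizer_iff.2 fun b hb => Subgroup.mem_centralizer_singleton_iff.1 (hle hb)
  have h3 : d * w * d⁻¹ ∈ Subgroup.centralizer (vC L' : Set G) :=
    Subgroup.mem_centralizer_iff.2 fun b hb => (hcVV hwdV hb).symm
  rw [Subgroup.map_le_iff_le_comap]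
  exact hgenle _ h1 h2 h3

/-- The three conjugates of a moved element. -/
theorem triangle (p : Pair T K L K' L') (hG : ZNHyp G)
    (hc : vC L' ≤ Subgroup.centralizer (vC L : Set G)) {d : G} (hd : d ∈ K) (hd3 : d ^ 3 = 1)
    {r r1 : G} (hr : r ∈ wZ T K') (hr0 : r ≠ 1) (hrK : r ∈ cK T K)
    (hr1 : r1 ∈ Cfsg.wOf K') (hr11 : r1 ≠ 1) (hr1r : r1 ≠ r)
    (hne : (d * r1 * d⁻¹) * r1 ≠ r1 * (d * r1 * d⁻¹)) :
    let u1 := d * r1 * d⁻¹
    let u2 := d * u1 * d⁻¹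
    u1 ∈ Cfsg.pCoreOf 2 L ∧ u2 ∈ Cfsg.pCoreOf 2 L ∧ u1 * r1 * u1⁻¹ = r1 * r ∧ u2 * u1 * u2⁻¹ = u1 * r ∧
      u1 * u2 ∈ Cfsg.pCoreOf 2 L' ∧ (u1 * u2) * (u1 * u2) = r ∧
      ∀ y ∈ Cfsg.pCoreOf 2 L, y * u1 * y⁻¹ = u1 ∨ y * u1 * y⁻¹ = u1 * r := by
  intro u1 u2
  have hT := p.left.two
  have hTZ := p.centralizes_zJ hG
  have hp' := preComp_of hT p.right.comp
  have hW4 := hp'.card_wOf (wOf_ne_bot p.right.comp)
  have hQT := LocalData.core_le_T p.left.mem
  have hdQ := CharP.le_normalizer_pCoreOf 2 L (p.left.le hd)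
  have hr1Q : r1 ∈ Cfsg.pCoreOf 2 L := p.vC_le_core hG hc (p.symm.wOf_le_vC hG hr1)
  have hu1Q : u1 ∈ Cfsg.pCoreOf 2 L := (Subgroup.mem_normalizer_iff.1 hdQ r1).1 hr1Q
  have hu2Q : u2 ∈ Cfsg.pCoreOf 2 L := (Subgroup.mem_normalizer_iff.1 hdQ u1).1 hu1Q
  have hNW : T ≤ Subgroup.normalizer (Cfsg.wOf K' : Set G) :=
    (p.symm.le_normalizer hG).trans (normalizer_le_normalizer_wOf K')
  have hdr : d * r * d⁻¹ = r := conj_eq_of_comm (Subgroup.mem_centralizer_iff.1 hrK.2 d hd).symm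
  have hact : ∀ t ∈ T, t * r1 * t⁻¹ = r1 ∨ t * r1 * t⁻¹ = r1 * r := fun t ht =>
    conj_cases hW4 hr.2 hr0 hr1 hr11 hr1r (hNW ht) (zJ_conj hTZ hr.1 ht)
  have hA : u1 * r1 * u1⁻¹ = r1 * r := (hact u1 (hQT hu1Q)).resolve_left
    fun e => hne (mul_inv_eq_iff_eq_mul.1 e)
  have hB : u2 * u1 * u2⁻¹ = u1 * r := by
    have h := congrArg (fun z => d * z * d⁻¹) hA
    change d * (u1 * r1 * u1⁻¹) * d⁻¹ = d * (r1 * r) * d⁻¹ at h
    rw [show d * (u1 * r1 * u1⁻¹) * d⁻¹ = u2 * u1 * u2⁻¹ by simp [u2, u1, mul_assoc],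
      show d * (r1 * r) * d⁻¹ = (d * r1 * d⁻¹) * (d * r * d⁻¹) by group, hdr] at h
    exact h
  have hd3' : d * d * d = 1 := by rw [← pow_two, ← pow_succ, hd3]
  have hC : r1 * u2 * r1⁻¹ = u2 * r := by
    have h := congrArg (fun z => d * z * d⁻¹) hB
    change d * (u2 * u1 * u2⁻¹) * d⁻¹ = d * (u1 * r) * d⁻¹ at h
    rw [show d * (u2 * u1 * u2⁻¹) * d⁻¹ =
        ((d * d * d) * r1 * (d * d * d)⁻¹) * u2 * ((d * d * d) * r1 * (d * d * d)⁻¹)⁻¹ by
          simp [u2, u1, mul_assoc],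
      show d * (u1 * r) * d⁻¹ = u2 * (d * r * d⁻¹) by simp [u2, mul_assoc], hdr, hd3'] at h
    simpa using h
  have hr1sq : r1 * r1 = 1 := hp'.wOf_sq r1 hr1
  have hrsq : r * r = 1 := hp'.wOf_sq r hr.2
  have hu2sq : u2 * u2 = 1 := by
    calc u2 * u2 = d * (d * (r1 * r1) * d⁻¹) * d⁻¹ := by simp [u2, u1, mul_assoc]
      _ = 1 := by rw [hr1sq]; group
  have hu2r1 : u2 * r1 * u2⁻¹ = r1 * r := (hact u2 (hQT hu2Q)).resolve_left fun e => by
    have h2 : r1 * u2 * r1⁻¹ = u2 := conj_eq_of_comm (mul_inv_eq_iff_eq_mul.1 e)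
    rw [hC] at h2
    exact hr0 (mul_eq_left.1 h2)
  have hur : ∀ t ∈ T, t * r * t⁻¹ = r := fun t ht => zJ_conj hTZ hr.1 ht
  have hxT : u1 * u2 ∈ T := mul_mem (hQT hu1Q) (hQT hu2Q)
  refine ⟨hu1Q, hu2Q, hA, hB, ?_, ?_, fun y hy => ?_⟩
  · rw [← p.symm.inf_centralizer_eq hG]
    refine ⟨hxT, mem_centralizer_of_two hW4 hr.2 hr0 hr1 hr11 hr1r
      (mul_inv_eq_iff_eq_mul.1 (hur _ hxT)) (mul_inv_eq_iff_eq_mul.1 ?_)⟩
    calc u1 * u2 * r1 * (u1 * u2)⁻¹ = u1 * (u2 * r1 * u2⁻¹) * u1⁻¹ := by group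
      _ = (u1 * r1 * u1⁻¹) * (u1 * r * u1⁻¹) := by rw [hu2r1]; group
      _ = r1 := by rw [hA, hur _ (hQT hu1Q), mul_assoc, hrsq, mul_one]
  · have h1 : u2 * u1 = u1 * r * u2 := mul_inv_eq_iff_eq_mul.1 hB
    have h2 : u1 * u1 = 1 := by
      calc u1 * u1 = d * (r1 * r1) * d⁻¹ := by simp [u1, mul_assoc]
        _ = 1 := by rw [hr1sq]; group
    calc u1 * u2 * (u1 * u2) = u1 * (u2 * u1) * u2 := by group
      _ = (u1 * u1) * r * (u2 * u2) := by rw [h1]; group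
      _ = r := by rw [h2, hu2sq]; group
  · have hy' : d⁻¹ * y * d ∈ Cfsg.pCoreOf 2 L := by
      have := (Subgroup.mem_normalizer_iff.1 (inv_mem hdQ) y).1 hy
      rwa [inv_inv] at this
    have e : y * u1 * y⁻¹ = d * ((d⁻¹ * y * d) * r1 * (d⁻¹ * y * d)⁻¹) * d⁻¹ := by simp [u1, mul_assoc]
    rw [e]
    rcases hact _ (hQT hy') with h | h <;> rw [h]
    · exact Or.inl rfl
    · refine Or.inr ?_
      rw [show d * (r1 * r) * d⁻¹ = (d * r1 * d⁻¹) * (d * r * d⁻¹) by group, hdr]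

/-- **Two neighbours of one vertex commute.** -/
theorem commute_conj (p : Pair T K L K' L') (hG : ZNHyp G)
    (hc : vC L' ≤ Subgroup.centralizer (vC L : Set G)) {d : G} (hd : d ∈ K) (hd3 : d ^ 3 = 1) :
    (vC L').map (MulAut.conj d).toMonoidHom ≤ Subgroup.centralizer (vC L' : Set G) := by
  have hT := p.left.two
  have hTZ := p.centralizes_zJ hG
  obtain ⟨s, r, ⟨hs, hs0, hsK'⟩, ⟨hr, hr0, hrK⟩, hsr⟩ := p.exists_edge hG hc
  have hp := preComp_of hT p.left.comp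
  have hp' := preComp_of hT p.right.comp
  obtain ⟨r1, hr1, hr11, hr1r⟩ := exists_third (hp'.card_wOf (wOf_ne_bot p.right.comp)) hr.2
  obtain ⟨s1, hs1, hs11, hs1s⟩ := exists_third (hp.card_wOf (wOf_ne_bot p.left.comp)) hs.2
  by_cases hcom : (d * r1 * d⁻¹) * r1 = r1 * (d * r1 * d⁻¹)
  · exact p.commute_conj_of_commute hG hc hd hr hr0 hrK hr1 hr11 hr1r hcom
  exfalso
  obtain ⟨hu1Q, hu2Q, hA, -, hxQ', hxsq, hact⟩ := p.triangle hG hc hd hd3 hr hr0 hrK hr1 hr11 hr1r hcom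
  set u1 := d * r1 * d⁻¹ with hu1
  set u2 := d * u1 * d⁻¹
  set Q := Cfsg.pCoreOf 2 L
  set Q' := Cfsg.pCoreOf 2 L'
  have hu1T : u1 ∈ T := LocalData.core_le_T p.left.mem hu1Q
  have hu1C : u1 ∉ Subgroup.centralizer (Cfsg.wOf K' : Set G) := fun h =>
    hcom (Subgroup.mem_centralizer_iff.1 h r1 hr1).symm
  have hu1sq : u1 * u1 = 1 := by
    calc u1 * u1 = d * (r1 * r1) * d⁻¹ := by rw [hu1]; group
      _ = 1 := by rw [hp'.wOf_sq r1 hr1]; group
  have hu1i : u1⁻¹ = u1 := inv_eq_of_mul_eq_one_right hu1sq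
  have hact' : ∀ y ∈ Q, u1 * y * u1⁻¹ = y ∨ u1 * y * u1⁻¹ = y * r := by
    intro y hy
    have hyr : y * r = r * y := (mul_inv_eq_iff_eq_mul.1 (zJ_conj hTZ hr.1 (LocalData.core_le_T p.left.mem hy)))
    rcases hact y hy with e | e
    · exact Or.inl (conj_eq_of_comm (mul_inv_eq_iff_eq_mul.1 e))
    · refine Or.inr ?_
      rw [hu1i]
      calc u1 * y * u1 = u1 * (u1 * r * y) := by rw [mul_assoc, mul_inv_eq_iff_eq_mul.1 e]
        _ = (u1 * u1) * (r * y) := by group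
        _ = y * r := by rw [hu1sq, one_mul, hyr]
  -- `u₁` inverts `d'`
  obtain ⟨d', hd', hd'Q, hd'3, hgen'⟩ := hp'.exists_three
  have hd3' : d' * d' * d' = 1 := by rw [← pow_two, ← pow_succ, hd'3]
  obtain ⟨q, hq, hinv⟩ : ∃ q ∈ Cfsg.pCoreOf 2 K', u1 * d' * u1⁻¹ = d' * d' * q := by
    obtain ⟨n, q, hq, e⟩ := PreComp.exists_zpow_mul hd' hgen'
      ((Subgroup.mem_normalizer_iff.1 (p.symm.le_normalizer hG hu1T) d').1 hd')
    rcases zpow_cases_of_cube hd'3 n with h | h | h <;> rw [h] at e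
    · exfalso
      rw [one_mul] at e
      exact hd'Q ((Subgroup.mem_normalizer_iff.1
        (normalizer_le_normalizer_pCoreOf 2 K' (p.symm.le_normalizer hG hu1T)) d').2 (e ▸ hq))
    · exfalso
      refine hu1C (mem_centralizer_of_two (hp'.card_wOf (wOf_ne_bot p.right.comp)) hr.2 hr0
        ((Subgroup.mem_normalizer_iff.1 (normalizer_le_normalizer_wOf K' (Subgroup.le_normalizer hd')) r).1 hr.2)
        (fun h => hr0 (conj_eq_one_iff.1 h))
        (fun h => hr0 (hp'.no_fixed hd' hd'3 hgen' r hr.2 (mul_inv_eq_iff_eq_mul.1 h)))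
        (mul_inv_eq_iff_eq_mul.1 (zJ_conj hTZ hr.1 hu1T)) (mul_inv_eq_iff_eq_mul.1 ?_))
      calc u1 * (d' * r * d'⁻¹) * u1⁻¹ = (u1 * d' * u1⁻¹) * (u1 * r * u1⁻¹) * (u1 * d' * u1⁻¹)⁻¹ := by group
        _ = d' * (q * r * q⁻¹) * d'⁻¹ := by rw [e, zJ_conj hTZ hr.1 hu1T]; group
        _ = _ := by rw [conj_eq_of_comm (Subgroup.mem_centralizer_iff.1 (hp'.core_centralizes_wOf hq) r hr.2)]
    · exact ⟨q, hq, e⟩
  have hqT : q ∈ T := by
    obtain ⟨R', D'⟩ := exists_localData hG p.right.mem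
    exact LocalData.core_le_T p.right.mem (D'.comp_core_le p.right.mem p.right.comp p.right.le hq)
  have hu1V : ∀ z ∈ vC L, u1 * z * u1⁻¹ = z := fun z hz =>
    conj_eq_of_comm (Subgroup.mem_centralizer_iff.1 (PLocal.le_centralizer_omegaCenterOf Q hu1Q) z hz)
  have hVQ' : vC L ≤ Q' := p.symm.vC_le_core hG (Subgroup.le_centralizer_iff.1 hc)
  have hd'Q' := CharP.le_normalizer_pCoreOf 2 L' (p.right.le hd')
  have hdr' : ∀ z, u1 * (d' * z * d'⁻¹) * u1⁻¹ = d' * d' * (q * (u1 * z * u1⁻¹) * q⁻¹) * (d' * d')⁻¹ := by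
    intro z
    calc u1 * (d' * z * d'⁻¹) * u1⁻¹ = (u1 * d' * u1⁻¹) * (u1 * z * u1⁻¹) * (u1 * d' * u1⁻¹)⁻¹ := by group
      _ = _ := by rw [hinv]; group
  by_cases hcom' : (d' * s1 * d'⁻¹) * s1 = s1 * (d' * s1 * d'⁻¹)
  · -- the neighbours of `L'` commute
    have hVc := p.symm.commute_conj_of_commute hG (Subgroup.le_centralizer_iff.1 hc) hd' hs hs0 hsK'
      hs1 hs11 hs1s hcom'
    set f := (MulAut.conj d').toMonoidHom
    have hV1Q : (vC L).map f ≤ Q := by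
      intro z hz
      change z ∈ Cfsg.pCoreOf 2 L
      rw [← p.inf_centralizer_eq hG]
      refine ⟨LocalData.core_le_T p.right.mem ?_,
        Subgroup.centralizer_le (SetLike.coe_subset_coe.2 (p.wOf_le_vC hG)) (hVc hz)⟩
      obtain ⟨z0, hz0, rfl⟩ := hz
      exact (Subgroup.mem_normalizer_iff.1 hd'Q' z0).1 (hVQ' hz0)
    have hrV' : r ∈ vC L' := p.symm.wOf_le_vC hG hr.2
    set N1 := (vC L).map f ⊔ vC L'
    have hV2 : ∀ z ∈ vC L, d' * d' * z * (d' * d')⁻¹ ∈ N1 := by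
      intro z hz
      have hz'' : q⁻¹ * z * q ∈ vC L := by
        have := (Subgroup.mem_normalizer_iff.1 (le_normalizer_vC L (L.inv_mem (p.left.mem.1.1 hqT))) z).1 hz
        rwa [inv_inv] at this
      have e : d' * d' * z * (d' * d')⁻¹ = u1 * (d' * (q⁻¹ * z * q) * d'⁻¹) * u1⁻¹ := by
        rw [hdr', hu1V _ hz'']; group
      rw [e]
      have hy : d' * (q⁻¹ * z * q) * d'⁻¹ ∈ (vC L).map f := ⟨_, hz'', rfl⟩
      rcases hact' _ (hV1Q hy) with h | h <;> rw [h]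
      · exact Subgroup.mem_sup_left hy
      · exact mul_mem (Subgroup.mem_sup_left hy) (Subgroup.mem_sup_right hrV')
    have hN1 : N1 = (vC L ⊔ vC L').map f := by
      rw [Subgroup.map_sup, mem_normalizer_iff_map.1 (le_normalizer_vC L' (p.right.le hd'))]
    have hV1N : (vC L).map f ≤ vC L ⊔ vC L' := by
      rintro _ ⟨z, hz, rfl⟩
      have h := hV2 z hz
      rw [hN1] at h
      obtain ⟨m, hm, hmz⟩ := h
      have hm' : m = d' * z * d'⁻¹ := by
        have h' : d' * m * d'⁻¹ = d' * d' * z * (d' * d')⁻¹ := hmz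
        rw [show d' * d' * z * (d' * d')⁻¹ = d' * (d' * z * d'⁻¹) * d'⁻¹ by group] at h'
        exact mul_left_cancel (mul_right_cancel h')
      change d' * z * d'⁻¹ ∈ _
      rw [← hm']
      exact hm
    have hV2N : ∀ z ∈ vC L, d' * d' * z * (d' * d')⁻¹ ∈ vC L ⊔ vC L' := fun z hz =>
      sup_le hV1N le_sup_right (hV2 z hz)
    have hinv2 : d'⁻¹ = d' * d' := inv_eq_of_mul_eq_one_right (by rw [← mul_assoc]; exact hd3')
    set y := d' * (u1 * u2) * d'⁻¹
    have hxQ : u1 * u2 ∈ Q := mul_mem hu1Q hu2Q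
    have hyQ' : y ∈ Q' := (Subgroup.mem_normalizer_iff.1 hd'Q' _).1 hxQ'
    have hyQ : y ∈ Q := by
      change y ∈ Cfsg.pCoreOf 2 L
      rw [← p.inf_centralizer_eq hG]
      refine ⟨LocalData.core_le_T p.right.mem hyQ',
        Subgroup.mem_centralizer_iff.2 fun z hz => ?_⟩
      have hzN : d'⁻¹ * z * d' ∈ vC L ⊔ vC L' := by
        have := hV2N z (p.wOf_le_vC hG hz)
        rwa [← hinv2, inv_inv] at this
      have hle : vC L ⊔ vC L' ≤ Subgroup.centralizer ({u1 * u2} : Set G) := sup_le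
        (fun a ha => Subgroup.mem_centralizer_singleton_iff.2
          (Subgroup.mem_centralizer_iff.1 (PLocal.le_centralizer_omegaCenterOf _ hxQ) a ha))
        (fun a ha => Subgroup.mem_centralizer_singleton_iff.2
          (Subgroup.mem_centralizer_iff.1 (PLocal.le_centralizer_omegaCenterOf _ hxQ') a ha))
      have h := Subgroup.mem_centralizer_singleton_iff.1 (hle hzN)
      calc z * y = d' * ((d'⁻¹ * z * d') * (u1 * u2)) * d'⁻¹ := by simp [y, mul_assoc]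
        _ = d' * ((u1 * u2) * (d'⁻¹ * z * d')) * d'⁻¹ := by rw [h]
        _ = y * z := by simp [y, mul_assoc]
    have hy2 : y * y = d' * r * d'⁻¹ := by
      calc y * y = d' * ((u1 * u2) * (u1 * u2)) * d'⁻¹ := by simp [y, mul_assoc]
        _ = _ := by rw [hxsq]
    have hy2u : (y * y) * u1 * (y * y)⁻¹ = u1 := by
      have hyr : y * r * y⁻¹ = r := zJ_conj hTZ hr.1 (LocalData.core_le_T p.left.mem hyQ)
      have hrr : r * r = 1 := hp'.wOf_sq r hr.2
      rw [show y * y * u1 * (y * y)⁻¹ = y * (y * u1 * y⁻¹) * y⁻¹ by group]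
      rcases hact y hyQ with h | h <;> rw [h]
      · exact h
      · rw [show y * (u1 * r) * y⁻¹ = (y * u1 * y⁻¹) * (y * r * y⁻¹) by group, h, hyr, mul_assoc, hrr, mul_one]
    rw [hy2] at hy2u
    exact hu1C (mem_centralizer_of_two (hp'.card_wOf (wOf_ne_bot p.right.comp)) hr.2 hr0
      ((Subgroup.mem_normalizer_iff.1 (normalizer_le_normalizer_wOf K' (Subgroup.le_normalizer hd')) r).1 hr.2)
      (fun h => hr0 (conj_eq_one_iff.1 h))
      (fun h => hr0 (hp'.no_fixed hd' hd'3 hgen' r hr.2 (mul_inv_eq_iff_eq_mul.1 h)))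
      (mul_inv_eq_iff_eq_mul.1 (zJ_conj hTZ hr.1 hu1T)) (mul_inv_eq_iff_eq_mul.1 hy2u).symm)
  · -- the symmetric triangle
    obtain ⟨hbQ', hb2Q', -, hB, hyQ, -, -⟩ := p.symm.triangle hG (Subgroup.le_centralizer_iff.1 hc)
      hd' hd'3 hs hs0 hsK' hs1 hs11 hs1s hcom'
    set b := d' * s1 * d'⁻¹ with hb
    set b2 := d' * b * d'⁻¹ with hb2
    have hs1V : s1 ∈ vC L := p.wOf_le_vC hG hs1
    have hqs : q * s1 * q⁻¹ = s1 ∨ q * s1 * q⁻¹ = s1 * s :=
      conj_cases (hp.card_wOf (wOf_ne_bot p.left.comp)) hs.2 hs0 hs1 hs11 hs1s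
        (normalizer_le_normalizer_wOf K (p.le_normalizer hG hqT)) (zJ_conj hTZ hs.1 hqT)
    have hds : d' * s * d'⁻¹ = s := conj_eq_of_comm (Subgroup.mem_centralizer_iff.1 hsK'.2 d' hd').symm
    have hus : u1 * s * u1⁻¹ = s := zJ_conj hTZ hs.1 hu1T
    have hss : s * s = 1 := hp.wOf_sq s hs.2
    obtain ⟨e, he, hub⟩ : ∃ e, (e = 1 ∨ e = s) ∧ u1 * b * u1⁻¹ = b2 * e := by
      rw [hb, hdr', hu1V s1 hs1V, hb2, hb]
      rcases hqs with h | h <;> rw [h]
      · exact ⟨1, Or.inl rfl, by simp [mul_assoc]⟩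
      · refine ⟨s, Or.inr rfl, ?_⟩
        rw [show d' * d' * (s1 * s) * (d' * d')⁻¹ = (d' * (d' * s1 * d'⁻¹) * d'⁻¹) * (d' * (d' * s * d'⁻¹) * d'⁻¹) by
          simp [mul_assoc], hds, hds]
    have hue : u1 * e * u1⁻¹ = e := by rcases he with rfl | rfl <;> [simp; exact hus]
    have hee : e * e = 1 := by rcases he with rfl | rfl <;> [simp; exact hss]
    have hbT : ∀ t ∈ T, t * e = e * t := fun t ht => by
      rcases he with rfl | rfl
      · simp
      · exact mul_inv_eq_iff_eq_mul.1 (zJ_conj hTZ hs.1 ht)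
    have hub2 : u1 * b2 * u1⁻¹ = b * e := by
      have h : u1 * (u1 * b * u1⁻¹) * u1⁻¹ = u1 * (b2 * e) * u1⁻¹ := by rw [hub]
      rw [show u1 * (u1 * b * u1⁻¹) * u1⁻¹ = (u1 * u1) * b * (u1 * u1)⁻¹ by group, hu1sq,
        show u1 * (b2 * e) * u1⁻¹ = (u1 * b2 * u1⁻¹) * (u1 * e * u1⁻¹) by group, hue] at h
      calc u1 * b2 * u1⁻¹ = (u1 * b2 * u1⁻¹ * e) * e := by rw [mul_assoc _ e e, hee, mul_one]
        _ = b * e := by rw [← h]; group
    have hbT' : b ∈ T := LocalData.core_le_T p.right.mem hbQ'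
    have hb2T : b2 ∈ T := LocalData.core_le_T p.right.mem hb2Q'
    have huy : u1 * (b * b2) * u1⁻¹ = b * b2 * s :=
      conj_prod hub hub2 hee (hbT b hbT') hB (mul_inv_eq_iff_eq_mul.1 (zJ_conj hTZ hs.1 hb2T))
    rcases hact' _ hyQ with h | h <;> rw [huy] at h
    · exact hs0 (mul_eq_left.1 h)
    · exact hsr (mul_left_cancel h)

end Pair

end Cfsg.Agent.Lib.LAEven56.JComp
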