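import Cfsg.Prelude.Def_JComponents
import Cfsg.Agent.Lib.PLocal.Thompson
import Cfsg.Agent.Lib.PGroups.Thompson
import Cfsg.Agent.Lib.CharP.Basic
import Cfsg.Agent.Lib.CosetGraph.SylowIn

/-!
# `J(T)`-components in ZN-groups of local characteristic 2: basic facts

Owner: helper56.
-/

set_option autoImplicit false
set_option linter.style.haveILetI false
set_option linter.unusedSectionVars false

open Cfsg
open scoped commutatorElement

namespace Cfsg.Agent.Lib.LAEven56.JComp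

open Cfsg.Agent.Lib
open Cfsg.Agent.Lib.CosetGraph.SylowIn (IsSylowIn)

variable {G : Type*} [Group G]

/-- The standing hypotheses. -/
structure ZNHyp (G : Type*) [Group G] : Prop where
  char2 : Cfsg.IsCharacteristicTwoType G
  solv : ∀ N : Subgroup G, Cfsg.IsTwoLocal N → Group.IsSolvable ↥N
  z : ∀ S : Sylow 2 G, Subgroup.centralizer (Cfsg.omegaCenterOf (S : Subgroup G) : Set G) ≤
    Subgroup.normalizer ((S : Subgroup G) : Set G)

/-- The Thompson subgroup at the prime 2. -/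
abbrev jT (T : Subgroup G) : Subgroup G := Cfsg.thompsonSubgroupOf 2 T

/-- The subgroup generated by the elements of odd order. -/
def oddGen (K : Subgroup G) : Subgroup G := Subgroup.closure {g : G | g ∈ K ∧ Odd (orderOf g)}

theorem oddGen_le (K : Subgroup G) : oddGen K ≤ K :=
  (Subgroup.closure_le _).2 fun _ hg => hg.1

theorem mem_oddGen {K : Subgroup G} {g : G} (hg : g ∈ K) (ho : Odd (orderOf g)) : g ∈ oddGen K :=
  Subgroup.subset_closure ⟨hg, ho⟩

theorem oddGen_mono {K K' : Subgroup G} (h : K ≤ K') : oddGen K ≤ oddGen K' :=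
  Subgroup.closure_mono fun _ hg => show _ ∈ _ ∧ _ from ⟨h hg.1, hg.2⟩

theorem oddGen_le_of_forall {K N : Subgroup G} (h : ∀ g ∈ K, Odd (orderOf g) → g ∈ N) :
    oddGen K ≤ N := (Subgroup.closure_le _).2 fun g hg => h g hg.1 hg.2

theorem oddGen_idem (K : Subgroup G) : oddGen (oddGen K) = oddGen K :=
  le_antisymm (oddGen_le _) (oddGen_le_of_forall fun _ hg ho => mem_oddGen (mem_oddGen hg ho) ho)

theorem map_oddGen {H : Type*} [Group H] (f : G →* H) (hf : Function.Injective f) (K : Subgroup G) :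
    (oddGen K).map f = oddGen (K.map f) := by
  rw [oddGen, MonoidHom.map_closure, oddGen]
  congr 1
  ext y
  constructor
  · rintro ⟨x, ⟨hx, ho⟩, rfl⟩
    exact ⟨⟨x, hx, rfl⟩, by rwa [orderOf_injective f hf]⟩
  · rintro ⟨⟨x, hx, rfl⟩, ho⟩
    exact ⟨x, ⟨hx, by rwa [orderOf_injective f hf] at ho⟩, rfl⟩

theorem map_wOf {H : Type*} [Group H] (f : G →* H) (hf : Function.Injective f) (K : Subgroup G) :
    (Cfsg.wOf K).map f = Cfsg.wOf (K.map f) := by
  rw [Cfsg.wOf, Subgroup.map_commutator, Cfsg.wOf]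
  congr 1
  change (PLocal.omegaCenterOf 2 (Cfsg.pCoreOf 2 K)).map f = _
  rw [PLocal.map_omegaCenterOf f hf, CosetGraph.SylowIn.pCoreOf_map 2 K f hf]
  rfl

theorem mem_normalizer_iff_map {K : Subgroup G} {g : G} :
    g ∈ Subgroup.normalizer (K : Set G) ↔ K.map (MulAut.conj g).toMonoidHom = K :=
  Subgroup.mem_normalizer_iff_map_conj_eq

theorem normalizer_le_normalizer_oddGen (K : Subgroup G) :
    Subgroup.normalizer (K : Set G) ≤ Subgroup.normalizer (oddGen K : Set G) := fun g hg => by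
  rw [mem_normalizer_iff_map] at hg ⊢
  rw [map_oddGen _ (MulAut.conj g).injective, hg]

theorem normalizer_le_normalizer_wOf (K : Subgroup G) :
    Subgroup.normalizer (K : Set G) ≤ Subgroup.normalizer (Cfsg.wOf K : Set G) := fun g hg => by
  rw [mem_normalizer_iff_map] at hg ⊢
  rw [map_wOf _ (MulAut.conj g).injective, hg]

theorem normalizer_le_normalizer_pCoreOf (p : ℕ) (K : Subgroup G) :
    Subgroup.normalizer (K : Set G) ≤ Subgroup.normalizer (Cfsg.pCoreOf p K : Set G) := fun g hg => by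
  rw [mem_normalizer_iff_map] at hg ⊢
  rw [CosetGraph.SylowIn.pCoreOf_map p K _ (MulAut.conj g).injective, hg]

variable [Finite G]

theorem odd_orderOf_coprime {g : G} : Odd (orderOf g) ↔ (orderOf g).Coprime 2 :=
  (Nat.coprime_two_right).symm

theorem eq_one_of_odd {P : Subgroup G} (hP : IsPGroup 2 P) {g : G} (hg : g ∈ P)
    (ho : Odd (orderOf g)) : g = 1 :=
  CharP.eq_one_of_coprime_of_mem hP hg (odd_orderOf_coprime.1 ho)

/-- Odd-order elements of `K P` lie in `K` when the 2-group `P` normalises `K`. -/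
theorem odd_mem_of_mem_sup {K P : Subgroup G} (hP : P ≤ Subgroup.normalizer (K : Set G))
    (hP2 : IsPGroup 2 P) {x : G} (hx : x ∈ K ⊔ P) (ho : Odd (orderOf x)) : x ∈ K := by
  have hn : (K.subgroupOf (K ⊔ P)).Normal :=
    Subgroup.normal_subgroupOf_of_le_normalizer (sup_le Subgroup.le_normalizer hP)
  set π := QuotientGroup.mk' (K.subgroupOf (K ⊔ P)) with hπ
  have hmap : (P.subgroupOf (K ⊔ P)).map π = ⊤ := by
    rw [← Subgroup.map_top_of_surjective π (QuotientGroup.mk'_surjective _),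
      ← Subgroup.subgroupOf_self (K ⊔ P), Subgroup.subgroupOf_sup le_sup_left le_sup_right,
      Subgroup.map_sup, hπ, QuotientGroup.map_mk'_self, bot_sup_eq]
  have hq : IsPGroup 2 ((P.subgroupOf (K ⊔ P)).map π) := (hP2.comap_subtype).map π
  rw [hmap] at hq
  have h1 : π ⟨x, hx⟩ = 1 := by
    refine CharP.eq_one_of_coprime_of_mem hq (Subgroup.mem_top _) ?_
    refine Nat.Coprime.coprime_dvd_left (orderOf_map_dvd π _) ?_
    rw [Subgroup.orderOf_mk]
    exact odd_orderOf_coprime.1 ho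
  exact (QuotientGroup.eq_one_iff (N := K.subgroupOf (K ⊔ P)) (⟨x, hx⟩ : ↥(K ⊔ P))).1 h1

theorem oddGen_sup_eq {K P : Subgroup G} (hP : P ≤ Subgroup.normalizer (K : Set G))
    (hP2 : IsPGroup 2 P) (hK : oddGen K = K) : oddGen (K ⊔ P) = K :=
  le_antisymm (oddGen_le_of_forall fun _ hg ho => odd_mem_of_mem_sup hP hP2 hg ho)
    (hK.symm.le.trans (oddGen_mono le_sup_left))

/-! ### Sylow 2-subgroups of subgroups -/

theorem isSylowIn_of_two {T L : Subgroup G} (h : Cfsg.IsSylowTwoIn T L) : IsSylowIn 2 T L := by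
  haveI : Fact (Nat.Prime 2) := ⟨Nat.prime_two⟩
  have hidx : ¬ 2 ∣ (T.subgroupOf L).index :=
    fun hd => (Nat.not_even_iff_odd.2 h.2.2) (even_iff_two_dvd.2 hd)
  have h1 := CosetGraph.SylowIn.isSylowIn_map_sylow ((h.2.1.comap_subtype (K := L)).toSylow hidx)
  have h2 : (T.subgroupOf L).map L.subtype = T := Subgroup.map_subgroupOf_eq_of_le h.1
  exact h2 ▸ h1

theorem isSylowTwoIn_of {T L : Subgroup G} (h : IsSylowIn 2 T L) : Cfsg.IsSylowTwoIn T L := by
  haveI : Fact (Nat.Prime 2) := ⟨Nat.prime_two⟩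
  obtain ⟨S, rfl⟩ := h.exists_sylow
  refine ⟨Subgroup.map_subtype_le _, S.isPGroup'.map _, ?_⟩
  rw [Subgroup.relIndex, show ((S : Subgroup L).map L.subtype).subgroupOf L = (S : Subgroup L) from
    Subgroup.comap_map_eq_self_of_injective L.subtype_injective _, ← Nat.not_even_iff_odd,
    even_iff_two_dvd]
  exact S.not_dvd_index

theorem exists_sylowTwoIn {P L : Subgroup G} (hP : IsPGroup 2 P) (hPL : P ≤ L) :
    ∃ T, Cfsg.IsSylowTwoIn T L ∧ P ≤ T := by
  haveI : Fact (Nat.Prime 2) := ⟨Nat.prime_two⟩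
  obtain ⟨T, hT, hle⟩ := CosetGraph.SylowIn.IsSylowIn.exists_le hP hPL
  exact ⟨T, isSylowTwoIn_of hT, hle⟩

theorem sylowTwoIn_max {T L P : Subgroup G} (h : Cfsg.IsSylowTwoIn T L) (hP : IsPGroup 2 P)
    (hTP : T ≤ P) (hPL : P ≤ L) : P = T := by
  haveI : Fact (Nat.Prime 2) := ⟨Nat.prime_two⟩
  obtain ⟨T', hT', hle⟩ := exists_sylowTwoIn hP hPL
  refine le_antisymm (hle.trans ?_) hTP
  refine le_of_eq (Subgroup.eq_of_le_of_card_ge (hTP.trans hle) ?_).symm
  rw [(isSylowIn_of_two h).card_eq, (isSylowIn_of_two hT').card_eq]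

theorem mem_sylowTwoIn_of_normalizer {T L : Subgroup G} (h : Cfsg.IsSylowTwoIn T L) {x : G}
    (hxL : x ∈ L) {k : ℕ} (hx : x ^ 2 ^ k = 1) (hxT : x ∈ Subgroup.normalizer (T : Set G)) : x ∈ T := by
  haveI : Fact (Nat.Prime 2) := ⟨Nat.prime_two⟩
  have hp : IsPGroup 2 (Subgroup.zpowers x) := by
    rw [isPGroup_iff_pow_pow_eq_one]
    rintro ⟨y, m, rfl⟩
    refine ⟨k, Subtype.ext ?_⟩
    change (x ^ m) ^ 2 ^ k = 1
    rw [← zpow_natCast, ← zpow_mul, mul_comm, zpow_mul, zpow_natCast, hx, one_zpow]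
  have h2 := sylowTwoIn_max h (hp.to_sup_of_normal_right' h.2.1 (Subgroup.zpowers_le.2 hxT)) le_sup_right
    (sup_le (Subgroup.zpowers_le.2 hxL) h.1)
  exact h2 ▸ Subgroup.mem_sup_left (Subgroup.mem_zpowers x)

/-! ### The Thompson subgroup -/

/-- Every elementary abelian subgroup of `P` has order at most that of a largest one in `T`. -/
def IsBoundedBy (P T : Subgroup G) : Prop :=
  ∀ A ∈ PGroups.maxElemAbIn 2 T, ∀ B : Subgroup G, B ≤ P → Cfsg.IsElementaryAbelian 2 B →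
    Nat.card B ≤ Nat.card A

theorem maxElemAbelianOrder_eq {T A : Subgroup G} (hA : A ∈ PGroups.maxElemAbIn 2 T) :
    Cfsg.maxElemAbelianOrder T = Nat.card A := by
  unfold Cfsg.maxElemAbelianOrder
  have himg : ((fun A : Subgroup ↥T => Nat.card ↥A) '' Cfsg.maxElementaryAbelianSubgroups 2 ↥T) =
      {Nat.card A} := by
    have hA' : A.subgroupOf T ∈ Cfsg.maxElementaryAbelianSubgroups 2 ↥T := by
      refine ⟨PGroups.elemAb_subgroupOf hA.2.1 T, fun B hB => ?_⟩
      have h := hA.2.2 _ (Subgroup.map_subtype_le B) (PGroups.elemAb_map T.subtype hB)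
      rwa [Subgroup.card_map_of_injective T.subtype_injective,
        ← Nat.card_congr (Subgroup.subgroupOfEquivOfLe hA.1).toEquiv] at h
    have hcard : Nat.card (A.subgroupOf T) = Nat.card A :=
      Nat.card_congr (Subgroup.subgroupOfEquivOfLe hA.1).toEquiv
    refine Set.eq_singleton_iff_unique_mem.2 ⟨⟨_, hA', hcard⟩, ?_⟩
    rintro _ ⟨B, hB, rfl⟩
    exact (le_antisymm (hA'.2 B hB.1) (hB.2 _ hA'.1)).trans hcard
  rw [himg, csSup_singleton]

theorem isBoundedBy_iff {P T : Subgroup G} :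
    IsBoundedBy P T ↔ Cfsg.maxElemAbelianOrder P ≤ Cfsg.maxElemAbelianOrder T := by
  obtain ⟨B, hB⟩ := PGroups.maxElemAbIn_nonempty 2 P
  obtain ⟨A, hA⟩ := PGroups.maxElemAbIn_nonempty 2 T
  rw [maxElemAbelianOrder_eq hB, maxElemAbelianOrder_eq hA]
  refine ⟨fun h => h A hA B hB.1 hB.2.1, fun h A' hA' B' hB' hBe => ?_⟩
  exact ((hB.2.2 B' hB' hBe).trans h).trans (hA'.2.2 A hA.1 hA.2.1)

theorem maxElemAbelianOrder_mono {P T : Subgroup G} (h : jT T ≤ P) :
    Cfsg.maxElemAbelianOrder T ≤ Cfsg.maxElemAbelianOrder P := by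
  obtain ⟨B, hB⟩ := PGroups.maxElemAbIn_nonempty 2 P
  obtain ⟨A, hA⟩ := PGroups.maxElemAbIn_nonempty 2 T
  rw [maxElemAbelianOrder_eq hB, maxElemAbelianOrder_eq hA]
  exact hB.2.2 A ((PGroups.le_thompsonSubgroupOf hA).trans h) hA.2.1

theorem map_maxElemAbelianOrder (g : G) (T : Subgroup G) :
    Cfsg.maxElemAbelianOrder (T.map (MulAut.conj g).toMonoidHom) = Cfsg.maxElemAbelianOrder T := by
  obtain ⟨A, hA⟩ := PGroups.maxElemAbIn_nonempty 2 T
  have hA' : A.map (MulAut.conj g).toMonoidHom ∈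
      PGroups.maxElemAbIn 2 (T.map (MulAut.conj g).toMonoidHom) := by
    rw [PGroups.map_maxElemAbIn _ (MulAut.conj g).injective]
    exact ⟨A, hA, rfl⟩
  rw [maxElemAbelianOrder_eq hA', maxElemAbelianOrder_eq hA,
    Subgroup.card_map_of_injective (MulAut.conj g).injective]

theorem jT_le_of_bounded {P T : Subgroup G} (h : jT T ≤ P) (hb : IsBoundedBy P T) : jT T ≤ jT P := by
  rw [jT, PGroups.thompsonSubgroupOf_eq]
  refine sSup_le fun A hA => PGroups.le_thompsonSubgroupOf ?_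
  exact ⟨(PGroups.le_thompsonSubgroupOf hA).trans h, hA.2.1, hb A hA⟩

theorem card_jT_map (g : G) (T : Subgroup G) :
    Nat.card (jT (T.map (MulAut.conj g).toMonoidHom)) = Nat.card (jT T) := by
  rw [jT, ← PGroups.thompsonSubgroupOf_conj, Subgroup.card_map_of_injective (MulAut.conj g).injective]

/-- A Sylow 2-subgroup of `L` bounds every subgroup of `L`. -/
theorem isBoundedBy_of_le {T L : Subgroup G} (hT : Cfsg.IsSylowTwoIn T L) {P : Subgroup G}
    (hPL : P ≤ L) : IsBoundedBy P T := by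
  haveI : Fact (Nat.Prime 2) := ⟨Nat.prime_two⟩
  intro A hA B hBP hB
  obtain ⟨T', hT', hBT'⟩ := exists_sylowTwoIn (PGroups.elemAb_isPGroup hB) (hBP.trans hPL)
  obtain ⟨g, -, rfl⟩ := (isSylowIn_of_two hT).exists_conj (isSylowIn_of_two hT')
  have h := hA.2.2 (B.map (MulAut.conj g⁻¹).toMonoidHom) ?_ (PGroups.elemAb_conj _ hB)
  · rwa [Subgroup.card_map_of_injective (MulAut.conj g⁻¹).injective] at h
  · rintro _ ⟨b, hb, rfl⟩
    obtain ⟨t, ht, rfl⟩ := hBT' hb
    simpa [mul_assoc] using ht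

theorem card_jT_eq_of_sylow {T T' L : Subgroup G} (hT : Cfsg.IsSylowTwoIn T L)
    (hT' : Cfsg.IsSylowTwoIn T' L) : Nat.card (jT T') = Nat.card (jT T) := by
  haveI : Fact (Nat.Prime 2) := ⟨Nat.prime_two⟩
  obtain ⟨g, -, rfl⟩ := (isSylowIn_of_two hT).exists_conj (isSylowIn_of_two hT')
  exact card_jT_map g T

theorem jT_eq_of_sylow {T T' L : Subgroup G} (hT : Cfsg.IsSylowTwoIn T L)
    (hT' : Cfsg.IsSylowTwoIn T' L) (h : jT T ≤ T') : jT T' = jT T :=
  (Subgroup.eq_of_le_of_card_ge (jT_le_of_bounded h (isBoundedBy_of_le hT hT'.1))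
    (card_jT_eq_of_sylow hT hT').le).symm

/-- A 2-subgroup of `L` containing `J(T)` has Thompson subgroup `J(T)`. -/
theorem jT_eq_of_le {T L P : Subgroup G} (hT : Cfsg.IsSylowTwoIn T L) (hP : IsPGroup 2 P)
    (hPL : P ≤ L) (h : jT T ≤ P) : jT P = jT T := by
  obtain ⟨T', hT', hle⟩ := exists_sylowTwoIn hP hPL
  have h1 := jT_eq_of_sylow hT hT' (h.trans hle)
  rw [← h1] at h ⊢
  exact PGroups.thompsonSubgroupOf_eq_of_le hle h

theorem normalizer_le_normalizer_jT (P : Subgroup G) :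
    Subgroup.normalizer (P : Set G) ≤ Subgroup.normalizer (jT P : Set G) :=
  PGroups.normalizer_le_normalizer_thompson P

/-- `Q` normalises `K` when it normalises `J` and `K` normalises `Q`. -/
theorem le_normalizer_comp {K J Q : Subgroup G} (hKJ : ⁅K, J⁆ = K) (hJ2 : IsPGroup 2 J)
    (hK : oddGen K = K) (hKQ : K ≤ Subgroup.normalizer (Q : Set G))
    (hQJ : Q ≤ Subgroup.normalizer (J : Set G)) : Q ≤ Subgroup.normalizer (K : Set G) := by
  have hJK : J ≤ Subgroup.normalizer (K : Set G) :=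
    Subgroup.le_normalizer_iff_commutator_le_left.2 hKJ.le
  set D := ⨆ k : K, J.map (MulAut.conj (k : G)).toMonoidHom with hD
  have hJD : J ≤ D := fun j hj => Subgroup.mem_iSup_of_mem (1 : K) ⟨j, hj, by simp⟩
  have hDeq : D = K ⊔ J := by
    refine le_antisymm (iSup_le fun k => ?_) (sup_le ?_ hJD)
    · rintro _ ⟨j, hj, rfl⟩
      exact mul_mem (mul_mem (Subgroup.mem_sup_left k.2) (Subgroup.mem_sup_right hj))
        (inv_mem (Subgroup.mem_sup_left k.2))
    · conv_lhs => rw [← hKJ]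
      rw [Subgroup.commutator_le]
      intro k hk j hj
      rw [commutatorElement_def]
      exact D.mul_mem (Subgroup.mem_iSup_of_mem ⟨k, hk⟩ ⟨j, hj, rfl⟩) (D.inv_mem (hJD hj))
  intro q hq
  have hqD : q ∈ Subgroup.normalizer (D : Set G) := by
    rw [mem_normalizer_iff_map, hD, Subgroup.map_iSup]
    refine iSup_congr fun k => ?_
    have hq' : (k : G)⁻¹ * q * k ∈ Q := by
      have := (Subgroup.mem_normalizer_iff.1 (hKQ (inv_mem k.2)) q).1 hq
      simpa using this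
    have h1 := mem_normalizer_iff_map.1 (hQJ hq')
    conv_rhs => rw [← h1]
    rw [Subgroup.map_map, Subgroup.map_map]
    refine congrArg (fun f => Subgroup.map f J) (MonoidHom.ext fun x => ?_)
    simp [mul_assoc]
  rw [hDeq] at hqD
  exact oddGen_sup_eq hJK hJ2 hK ▸ normalizer_le_normalizer_oddGen _ hqD

/-! ### Local subgroups in a ZN-group -/

theorem isTwoLocal_normalizer {P : Subgroup G} (hP : IsPGroup 2 P) (hP1 : P ≠ ⊥) :
    Cfsg.IsTwoLocal (Subgroup.normalizer (P : Set G)) := ⟨P, hP, hP1, rfl⟩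

theorem pCoreOf_ne_bot_of_twoLocal {L : Subgroup G} (hL : Cfsg.IsTwoLocal L) :
    Cfsg.pCoreOf 2 L ≠ ⊥ := by
  obtain ⟨P, hP, hP1, rfl⟩ := hL
  exact fun h => hP1 (le_bot_iff.1 (h ▸ CharP.le_pCoreOf hP Subgroup.le_normalizer le_rfl))

theorem ZNHyp.centralizer_pCoreOf_le (hG : ZNHyp G) {L : Subgroup G} (hL : Cfsg.IsTwoLocal L) :
    Subgroup.centralizer (Cfsg.pCoreOf 2 L : Set G) ≤ Cfsg.pCoreOf 2 L := by
  obtain ⟨P, hP, hP1, rfl⟩ := hL
  have h1 := (CosetGraph.SylowIn.charP_iff 2 _).1 (hG.char2.2 P hP hP1)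
  refine le_trans (le_inf ?_ le_rfl) h1
  exact (Subgroup.centralizer_le (SetLike.coe_subset_coe.2
    (CharP.le_pCoreOf hP Subgroup.le_normalizer le_rfl))).trans (Subgroup.centralizer_le_normalizer _)

theorem ZNHyp.jOver_core_ne_bot (hG : ZNHyp G) {T L : Subgroup G} (hL : L ∈ Cfsg.jOvergroups T) :
    Cfsg.pCoreOf 2 L ≠ ⊥ := by
  intro h
  have h2 := hL.2.2
  rw [h] at h2
  have htop : (⊤ : Subgroup G) ≤ ⊥ := le_trans (fun x _ => Subgroup.mem_centralizer_iff.2 fun y hy => by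
    rw [Subgroup.mem_bot.1 (show y ∈ (⊥ : Subgroup G) from hy)]; simp) h2
  have hb := hG.char2.1
  rw [show Nat.card G = Nat.card (⊤ : Subgroup G) from Subgroup.card_top.symm, le_bot_iff.1 htop,
    Subgroup.card_bot] at hb
  exact absurd hb (by decide)

theorem ZNHyp.jOver_solvable (hG : ZNHyp G) {T L : Subgroup G} (hL : L ∈ Cfsg.jOvergroups T) :
    Group.IsSolvable ↥L := by
  haveI := hG.solv _ (isTwoLocal_normalizer (CharP.isPGroup_pCoreOf 2 L) (hG.jOver_core_ne_bot hL))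
  exact Group.isSolvable_of_isSolvable_injective
    (f := Subgroup.inclusion (CharP.le_normalizer_pCoreOf 2 L)) (Subgroup.inclusion_injective _)

end Cfsg.Agent.Lib.LAEven56.JComp
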