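import Mathlib

/-!
# Lifting a product of `S₃`'s through a central extension of odd order

Owner: helper56.
-/

set_option autoImplicit false
set_option linter.style.haveILetI false
set_option linter.unusedSectionVars false

open scoped Pointwise

namespace Cfsg.Agent.Lib.LAEven56.JComp

variable {F H : Type*} [Group F] [Group H]

/-- The configuration: `N` is mapped onto `(⨆ R i) J̄` with kernel `Z` central in `N` and of odd order. -/
structure ExtHyp {ι : Type*} (ψ : F →* H) (N J : Subgroup F) (b : ι → F) (R : ι → Subgroup H) :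
    Prop where
  le : J ≤ N
  normal : N.Normal
  inj : ∀ x ∈ J, ψ x = 1 → x = 1
  central : ∀ z ∈ N, ψ z = 1 → ∀ n ∈ N, z * n = n * z
  odd : ∀ z ∈ N, ψ z = 1 → z * z = 1 → z = 1
  comm : ∀ x ∈ J, ∀ y ∈ J, x * y = y * x
  sq : ∀ x ∈ J, x * x = 1
  gen : J ≤ Subgroup.closure (Set.range b)
  mem : ∀ i, b i ∈ J
  card : ∀ i, Nat.card (R i) = 3
  inv : ∀ i, ∀ r ∈ R i, ψ (b i) * r * (ψ (b i))⁻¹ = r⁻¹
  cent : ∀ i j, i ≠ j → ∀ r ∈ R j, ψ (b i) * r = r * ψ (b i)
  Rcomm : ∀ i j, i ≠ j → ∀ r ∈ R i, ∀ s ∈ R j, r * s = s * r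
  image : N.map ψ = (⨆ i, R i) ⊔ J.map ψ
  faithful : ∀ x ∈ J, (∀ i, ∀ r ∈ R i, ψ x * r = r * ψ x) → x = 1
  minimal : ∀ K : Subgroup F, K.Normal → J ≤ K → N ≤ K
  cover : N ⊔ Subgroup.normalizer (J : Set F) = ⊤

variable {ι : Type*} {ψ : F →* H} {N J : Subgroup F} {b : ι → F} {R : ι → Subgroup H}

namespace ExtHyp

variable (h : ExtHyp ψ N J b R)
include h

theorem binv (i : ι) : (b i)⁻¹ = b i := inv_eq_of_mul_eq_one_right (h.sq _ (h.mem i))

theorem cube (i : ι) {r : H} (hr : r ∈ R i) : r ^ 3 = 1 := by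
  have h1 : (⟨r, hr⟩ : R i) ^ Nat.card (R i) = 1 := pow_card_eq_one'
  rw [h.card i] at h1
  exact congrArg Subtype.val h1

theorem exists_gen (i : ι) : ∃ r ∈ R i, r ≠ 1 ∧ R i = Subgroup.zpowers r := by
  have hne : R i ≠ ⊥ := fun h' => by
    have := h.card i
    rw [h', Subgroup.card_bot] at this
    omega
  obtain ⟨r, hr, hr1⟩ := (Subgroup.bot_or_exists_ne_one _).resolve_left hne
  haveI : Fact (Nat.card (R i)).Prime := ⟨by rw [h.card i]; norm_num⟩
  refine ⟨r, hr, hr1, le_antisymm (fun x hx => ?_) (Subgroup.zpowers_le.2 hr)⟩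
  obtain ⟨k, hk⟩ := mem_zpowers_of_prime_card (G := R i) rfl
    (show (⟨r, hr⟩ : R i) ≠ 1 from fun e => hr1 (congrArg Subtype.val e)) (g' := ⟨x, hx⟩)
  exact ⟨k, congrArg Subtype.val hk⟩

theorem exists_lift (i : ι) {r : H} (hr : r ∈ R i) : ∃ x ∈ N, ψ x = r := by
  have h1 : r ∈ N.map ψ := h.image ▸ Subgroup.mem_sup_left (Subgroup.mem_iSup_of_mem i hr)
  exact h1

theorem image_conj (i : ι) {x : F} : ψ (b i * x * (b i)⁻¹) = ψ (b i) * ψ x * (ψ (b i))⁻¹ := by
  rw [map_mul, map_mul, map_inv]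

/-- Lifts of different `R i` commute. -/
theorem comm_lift {i j : ι} {x y : F} (hx : x ∈ N) (hy : y ∈ N) (hxi : ψ x ∈ R i) (hyj : ψ y ∈ R j) :
    x * y = y * x := by
  haveI := h.normal
  rcases eq_or_ne i j with rfl | hij
  · obtain ⟨r, hr, -, hgen⟩ := h.exists_gen i
    obtain ⟨x₀, hx₀, hx₀r⟩ := h.exists_lift i hr
    have key : ∀ w ∈ N, ψ w ∈ R i → ∃ (k : ℤ) (z : F), z ∈ N ∧ ψ z = 1 ∧ w = x₀ ^ k * z := by
      intro w hw hwi
      rw [hgen] at hwi
      obtain ⟨k, hk⟩ := hwi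
      refine ⟨k, (x₀ ^ k)⁻¹ * w, N.mul_mem (N.inv_mem (N.zpow_mem hx₀ k)) hw, ?_, by group⟩
      rw [map_mul, map_inv, map_zpow, hx₀r]
      rw [← hk]
      exact inv_mul_cancel _
    obtain ⟨k, z, hz, hz1, rfl⟩ := key x hx hxi
    obtain ⟨l, w, hw, hw1, rfl⟩ := key y hy hyj
    have e1 : Commute z (x₀ ^ l) := h.central z hz hz1 _ (N.zpow_mem hx₀ l)
    have e2 : Commute (x₀ ^ k) w := (h.central w hw hw1 _ (N.zpow_mem hx₀ k)).symm
    have e3 : Commute z w := h.central z hz hz1 _ hw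
    exact (((Commute.refl x₀).zpow_zpow k l).mul_right e2).mul_left (e1.mul_right e3)
  set z := x * y * x⁻¹ * y⁻¹ with hz
  have hzN : z ∈ N := N.mul_mem (N.mul_mem (N.mul_mem hx hy) (N.inv_mem hx)) (N.inv_mem hy)
  have hz1 : ψ z = 1 := by
    rw [hz, map_mul, map_mul, map_mul, map_inv, map_inv, h.Rcomm i j hij _ hxi _ hyj]
    group
  set c := b i with hc
  have hcN : c ∈ N := h.le (h.mem i)
  set u := c * x * c⁻¹ * x with hu
  set v := c * y * c⁻¹ * y⁻¹ with hv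
  have huN : u ∈ N := N.mul_mem (N.mul_mem (N.mul_mem hcN hx) (N.inv_mem hcN)) hx
  have hvN : v ∈ N := N.mul_mem (N.mul_mem (N.mul_mem hcN hy) (N.inv_mem hcN)) (N.inv_mem hy)
  have hu1 : ψ u = 1 := by
    rw [hu, map_mul, h.image_conj, h.inv i _ hxi, inv_mul_cancel]
  have hv1 : ψ v = 1 := by
    rw [hv, map_mul, h.image_conj, h.cent i j hij _ hyj, mul_inv_cancel_right, map_inv,
      mul_inv_cancel]
  have ex : c * x * c⁻¹ = u * x⁻¹ := by rw [hu]; group
  have ey : c * y * c⁻¹ = v * y := by rw [hv]; group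
  have e1 : c * z * c⁻¹ = z := by
    rw [← h.central z hzN hz1 c hcN, mul_inv_cancel_right]
  have e2 : c * z * c⁻¹ = x⁻¹ * y * x * y⁻¹ := by
    calc c * z * c⁻¹ = (c * x * c⁻¹) * (c * y * c⁻¹) * (c * x * c⁻¹)⁻¹ * (c * y * c⁻¹)⁻¹ := by
          rw [hz]; group
      _ = u * (x⁻¹ * v) * y * x * u⁻¹ * y⁻¹ * v⁻¹ := by rw [ex, ey]; group
      _ = u * v * (x⁻¹ * y * x) * u⁻¹ * y⁻¹ * v⁻¹ := by
          rw [← h.central v hvN hv1 _ (N.inv_mem hx)]; group
      _ = v * (u * (x⁻¹ * y * x)) * u⁻¹ * y⁻¹ * v⁻¹ := by rw [h.central u huN hu1 v hvN]; group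
      _ = v * (x⁻¹ * y * x * y⁻¹) * v⁻¹ := by
          rw [h.central u huN hu1 _ (N.mul_mem (N.mul_mem (N.inv_mem hx) hy) hx)]; group
      _ = x⁻¹ * y * x * y⁻¹ := by
          rw [h.central v hvN hv1 _ (N.mul_mem (N.mul_mem (N.mul_mem (N.inv_mem hx) hy) hx)
            (N.inv_mem hy))]; group
  have e3 : z * (x⁻¹ * y * x * y⁻¹) = 1 := by
    have := h.central z hzN hz1 _ (N.inv_mem hx)
    calc z * (x⁻¹ * y * x * y⁻¹) = (z * x⁻¹) * (y * x * y⁻¹) := by group
      _ = x⁻¹ * z * (y * x * y⁻¹) := by rw [this]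
      _ = 1 := by rw [hz]; group
  rw [← e2, e1] at e3
  have := h.odd z hzN hz1 e3
  calc x * y = z * (y * x) := by rw [hz]; group
    _ = y * x := by rw [this, one_mul]

/-- An involution acting trivially on a lift modulo the kernel centralises it. -/
theorem fixed_lift {c x : F} (hc : c ∈ J) (hx : x ∈ N) (hcx : ψ c * ψ x = ψ x * ψ c) :
    c * x * c⁻¹ = x := by
  set z := c * x * c⁻¹ * x⁻¹ with hz
  have hcN := h.le hc
  have hzN : z ∈ N := N.mul_mem (N.mul_mem (N.mul_mem hcN hx) (N.inv_mem hcN)) (N.inv_mem hx)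
  have hz1 : ψ z = 1 := by
    rw [hz, map_mul, map_mul, map_mul, map_inv, map_inv, hcx]
    group
  have e1 : c * x * c⁻¹ = z * x := by rw [hz]; group
  have ci : c⁻¹ = c := inv_eq_of_mul_eq_one_right (h.sq c hc)
  have e2 : x = z * (z * x) := by
    calc x = (c * c) * x * (c * c)⁻¹ := by rw [h.sq c hc]; group
      _ = c * (z * x) * c⁻¹ := by rw [← e1]; group
      _ = (c * z) * x * c⁻¹ := by group
      _ = z * (c * x * c⁻¹) := by rw [← h.central z hzN hz1 c hcN]; group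
      _ = z * (z * x) := by rw [e1]
  have : z * z = 1 := by
    have := congrArg (· * x⁻¹) e2
    simpa [mul_assoc] using this.symm
  rw [e1, h.odd z hzN hz1 this, one_mul]

theorem exists_g (i : ι) : ∃ g ∈ N, ψ g ∈ R i ∧ g ≠ 1 ∧ g ^ 3 = 1 ∧ b i * g * (b i)⁻¹ = g⁻¹ ∧
    (∀ x ∈ N, ψ x ∈ R i → x * b i * x⁻¹ * (b i)⁻¹ ∈ Subgroup.zpowers g) ∧
    (∀ r ∈ R i, ∃ k : ℤ, ψ (g ^ k) = r) := by
  haveI := h.normal
  obtain ⟨r, hr, hr1, hgen⟩ := h.exists_gen i
  obtain ⟨x₀, hx₀, hx₀r⟩ := h.exists_lift i hr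
  set c := b i with hcdef
  have hcN : c ∈ N := h.le (h.mem i)
  have ci : c⁻¹ = c := h.binv i
  set g := x₀ * c * x₀⁻¹ * c⁻¹ with hgdef
  have hψg : ψ g = r ^ 2 := by
    rw [hgdef, mul_assoc, mul_assoc x₀, map_mul, ← mul_assoc c, h.image_conj, map_inv, hx₀r,
      h.inv i _ (inv_mem hr), inv_inv, pow_two]
  have hr3 := h.cube i hr
  have hgN : g ∈ N := N.mul_mem (N.mul_mem (N.mul_mem hx₀ hcN) (N.inv_mem hx₀)) (N.inv_mem hcN)
  have hg1 : g ≠ 1 := fun e => hr1 (by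
    rw [e, map_one] at hψg
    calc r = r ^ 3 * (r ^ 2)⁻¹ := by group
      _ = 1 := by rw [hr3, ← hψg]; simp)
  have hginv : c * g * c⁻¹ = g⁻¹ := by
    calc c * g * c⁻¹ = c * (x₀ * c * x₀⁻¹) * (c⁻¹ * c⁻¹) := by rw [hgdef]; group
      _ = c * (x₀ * c * x₀⁻¹) := by rw [← mul_inv_rev, h.sq c (h.mem i)]; simp
      _ = c * (x₀ * c⁻¹ * x₀⁻¹) := by rw [ci]
      _ = g⁻¹ := by rw [hgdef]; group
  have hg3 : g ^ 3 = 1 := by
    refine h.odd _ (N.pow_mem hgN 3) (by rw [map_pow, hψg, ← pow_mul, pow_mul', hr3, one_pow]) ?_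
    have hz : ψ (g ^ 3) = 1 := by rw [map_pow, hψg, ← pow_mul, pow_mul', hr3, one_pow]
    have e1 : c * g ^ 3 * c⁻¹ = g ^ 3 := by
      rw [← h.central _ (N.pow_mem hgN 3) hz c hcN, mul_inv_cancel_right]
    have e2 : c * g ^ 3 * c⁻¹ = (g⁻¹) ^ 3 := by rw [← conj_pow, hginv]
    rw [e1, inv_pow] at e2
    calc g ^ 3 * g ^ 3 = g ^ 3 * (g ^ 3)⁻¹ := by rw [← e2]
      _ = 1 := mul_inv_cancel _
  refine ⟨g, hgN, hψg ▸ pow_mem hr 2, hg1, hg3, hginv, fun x hx hxi => ?_, fun s hs => ?_⟩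
  · rw [hgen] at hxi
    obtain ⟨k, hk⟩ := hxi
    set z := (x₀ ^ k)⁻¹ * x with hzdef
    have hzN : z ∈ N := N.mul_mem (N.inv_mem (N.zpow_mem hx₀ k)) hx
    have hz1 : ψ z = 1 := by
      rw [hzdef, map_mul, map_inv, map_zpow, hx₀r]
      rw [← hk]
      exact inv_mul_cancel _
    have hxz : x = x₀ ^ k * z := by rw [hzdef]; group
    have hcx : c * x₀⁻¹ * c⁻¹ = x₀⁻¹ * g := by rw [hgdef]; group
    have hcomm : Commute x₀⁻¹ g := by
      refine h.comm_lift (i := i) (j := i) (N.inv_mem hx₀) hgN ?_ (hψg ▸ pow_mem hr 2)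
      rw [map_inv, hx₀r]
      exact inv_mem hr
    refine ⟨k, ?_⟩
    calc g ^ k = x₀ ^ k * ((x₀⁻¹) ^ k * g ^ k) := by group
      _ = x₀ ^ k * (c * x₀⁻¹ * c⁻¹) ^ k := by rw [hcx, hcomm.mul_zpow]
      _ = x₀ ^ k * (c * (x₀ ^ k)⁻¹ * c⁻¹) := by rw [conj_zpow, inv_zpow]
      _ = x₀ ^ k * (z * c) * z⁻¹ * (x₀ ^ k)⁻¹ * c⁻¹ := by
          rw [h.central z hzN hz1 c hcN]; group
      _ = x * c * x⁻¹ * c⁻¹ := by rw [hxz]; group
  · rw [hgen] at hs
    obtain ⟨k, hk⟩ := hs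
    refine ⟨-k, ?_⟩
    rw [map_zpow, hψg, ← hk]
    change (r ^ 2) ^ (-k) = r ^ k
    have e : r ^ 2 = r⁻¹ := eq_inv_of_mul_eq_one_left (by rw [← pow_succ]; exact hr3)
    rw [e, inv_zpow, zpow_neg, inv_inv]

/-- The lifted structure. -/
theorem lift [Finite ι] : ∃ g : ι → F,
    (∀ i, g i ^ 3 = 1 ∧ g i ≠ 1 ∧ b i * g i * (b i)⁻¹ = (g i)⁻¹ ∧
      (∀ j, j ≠ i → b i * g j * (b i)⁻¹ = g j)) ∧
    (∀ i, ∀ c ∈ J, c * g i * c⁻¹ ∈ Subgroup.zpowers (g i)) ∧
    (∀ x ∈ Subgroup.closure (Set.range g), ∀ y ∈ Subgroup.closure (Set.range g), x * y = y * x) ∧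
    (Subgroup.closure (Set.range g)).Normal ∧
    Subgroup.closure (Set.range g) ⊔ J = N ∧
    (∀ x ∈ J, (∀ i, x * g i = g i * x) → x = 1) ∧
    (∀ x ∈ Subgroup.closure (Set.range g), x ≠ 1 →
      (∀ c ∈ J, c * x * c⁻¹ ∈ Subgroup.zpowers x) → ∃ i, Subgroup.zpowers x = Subgroup.zpowers (g i)) := by
  classical
  haveI := h.normal
  choose g hgN hgR hg1 hg3 hgi hgc hgs using h.exists_g
  have hfix : ∀ i j, j ≠ i → ∀ x ∈ N, ψ x ∈ R j → b i * x * (b i)⁻¹ = x := fun i j hij x hx hxj =>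
    h.fixed_lift (h.mem i) hx (h.cent i j (Ne.symm hij) _ hxj)
  have hJg : ∀ i, ∀ c ∈ J, c * g i * c⁻¹ ∈ Subgroup.zpowers (g i) := by
    intro i c hc
    suffices hle : J ≤ Subgroup.normalizer ((Subgroup.zpowers (g i) : Subgroup F) : Set F) from
      (Subgroup.mem_normalizer_iff.1 (hle hc) _).1 (Subgroup.mem_zpowers _)
    refine h.gen.trans ((Subgroup.closure_le _).2 ?_)
    rintro _ ⟨j, rfl⟩
    have hmem : ∀ y ∈ Subgroup.zpowers (g i), b j * y * (b j)⁻¹ ∈ Subgroup.zpowers (g i) := by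
      rintro _ ⟨k, rfl⟩
      change b j * g i ^ k * (b j)⁻¹ ∈ _
      rw [← conj_zpow]
      refine zpow_mem ?_ k
      rcases eq_or_ne j i with rfl | hji
      · rw [hgi]; exact inv_mem (Subgroup.mem_zpowers _)
      · rw [hfix j i (Ne.symm hji) _ (hgN i) (hgR i)]; exact Subgroup.mem_zpowers _
    rw [SetLike.mem_coe, Subgroup.mem_normalizer_iff]
    refine fun y => ⟨hmem y, fun hy => ?_⟩
    have h2 := hmem _ hy
    rwa [h.binv, show b j * (b j * y * b j) * b j = (b j * b j) * y * (b j * b j) by group,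
      h.sq _ (h.mem j), one_mul, mul_one] at h2
  set Rf := Subgroup.closure (Set.range g) with hRf
  have hgmem : ∀ i, g i ∈ Rf := fun i => Subgroup.subset_closure ⟨i, rfl⟩
  have hcomm : ∀ x ∈ Rf, ∀ y ∈ Rf, x * y = y * x := by
    intro x hx y hy
    have h1 : Rf ≤ Subgroup.centralizer (Rf : Set F) := by
      rw [hRf, Subgroup.closure_le]
      rintro _ ⟨i, rfl⟩
      refine Subgroup.mem_centralizer_iff.2 fun y hy => ?_
      induction hy using Subgroup.closure_induction with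
      | mem w hw =>
        obtain ⟨j, rfl⟩ := hw
        exact h.comm_lift (hgN j) (hgN i) (hgR j) (hgR i)
      | one => simp
      | mul u v _ _ hu hv => exact ((Commute.mul_left (hu : Commute u _) hv) : Commute _ _)
      | inv u _ hu => exact (Commute.inv_left hu : Commute _ _)
    exact (Subgroup.mem_centralizer_iff.1 (h1 hx) y hy).symm
  have hJn : J ≤ Subgroup.normalizer (Rf : Set F) := by
    refine Subgroup.le_normalizer_iff.2 fun c hc x hx => ?_
    induction hx using Subgroup.closure_induction with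
    | mem w hw =>
      obtain ⟨i, rfl⟩ := hw
      exact Subgroup.zpowers_le.2 (hgmem i) (hJg i c hc)
    | one => simp
    | mul u v _ _ hu hv => simpa [mul_assoc] using Rf.mul_mem hu hv
    | inv u _ hu => simpa [mul_assoc] using Rf.inv_mem hu
  have hRN : Rf ⊔ J ≤ N := sup_le ((Subgroup.closure_le _).2 (by rintro _ ⟨i, rfl⟩; exact hgN i)) h.le
  -- the kernel centralises everything
  have hdec : ∀ n ∈ N, ∃ z a, (z ∈ N ∧ ψ z = 1) ∧ a ∈ Rf ⊔ J ∧ n = z * a := by
    intro n hn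
    have h1 : ψ n ∈ (Rf ⊔ J).map ψ := by
      have h2 : ψ n ∈ N.map ψ := ⟨n, hn, rfl⟩
      rw [h.image] at h2
      refine sup_le (iSup_le fun i r hr => ?_) (Subgroup.map_mono le_sup_right) h2
      obtain ⟨k, hk⟩ := hgs i r hr
      exact ⟨g i ^ k, Subgroup.mem_sup_left (zpow_mem (hgmem i) k), hk⟩
    obtain ⟨a, ha, hae⟩ := h1
    exact ⟨n * a⁻¹, a, ⟨N.mul_mem hn (N.inv_mem (hRN ha)), by rw [map_mul, map_inv, hae,
      mul_inv_cancel]⟩, ha, by group⟩
  have hn1 : N ≤ Subgroup.normalizer (Rf : Set F) := by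
    intro n hn
    obtain ⟨z, a, ⟨hz, hz1⟩, ha, rfl⟩ := hdec n hn
    refine mul_mem ?_ (sup_le Subgroup.le_normalizer hJn ha)
    refine Subgroup.centralizer_le_normalizer _ (Subgroup.mem_centralizer_iff.2 fun x hx => ?_)
    exact (h.central z hz hz1 x (hRN (Subgroup.mem_sup_left hx))).symm
  have hn2 : N ≤ Subgroup.normalizer ((Rf ⊔ J : Subgroup F) : Set F) := by
    intro n hn
    obtain ⟨z, a, ⟨hz, hz1⟩, ha, rfl⟩ := hdec n hn
    refine mul_mem ?_ (Subgroup.le_normalizer ha)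
    refine Subgroup.centralizer_le_normalizer _ (Subgroup.mem_centralizer_iff.2 fun x hx => ?_)
    exact (h.central z hz hz1 x (hRN hx)).symm
  -- elements normalising `J` permute the pieces
  have hNJ : Subgroup.normalizer (J : Set F) ≤ Subgroup.normalizer (Rf : Set F) := by
    refine Subgroup.le_normalizer_iff.2 fun m hm x hx => ?_
    induction hx using Subgroup.closure_induction with
    | mem w hw =>
      obtain ⟨i, rfl⟩ := hw
      have e2 : g i = b i * g i * (b i)⁻¹ * (g i)⁻¹ := by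
        rw [hgi i]
        calc g i = g i ^ 3 * ((g i)⁻¹ * (g i)⁻¹) := by group
          _ = _ := by rw [hg3, one_mul]
      rw [e2]
      have hb : m * b i * m⁻¹ ∈ J := (Subgroup.mem_normalizer_iff.1 hm _).1 (h.mem i)
      have hgm : m * g i * m⁻¹ ∈ N := h.normal.conj_mem _ (hgN i) m
      obtain ⟨z, a, ⟨hz, hz1⟩, ha, hza⟩ := hdec _ hgm
      have hbn : ∀ c ∈ J, ∀ n ∈ Rf ⊔ J, c * n * c⁻¹ * n⁻¹ ∈ Rf := by
        intro c hc n hn
        rw [sup_comm] at hn
        obtain ⟨j, hj, r, hr, rfl⟩ : ∃ j ∈ J, ∃ r ∈ Rf, j * r = n := by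
          have h3 : n ∈ ((J ⊔ Rf : Subgroup F) : Set F) := hn
          rw [Subgroup.coe_mul_of_left_le_normalizer_right J Rf hJn] at h3
          exact h3
        have e3 : c * (j * r) * c⁻¹ * (j * r)⁻¹ = j * ((c * r * c⁻¹) * r⁻¹) * j⁻¹ := by
          calc c * (j * r) * c⁻¹ * (j * r)⁻¹ = (c * j) * r * c⁻¹ * r⁻¹ * j⁻¹ := by group
            _ = j * ((c * r * c⁻¹) * r⁻¹) * j⁻¹ := by rw [h.comm c hc j hj]; group
        rw [e3]
        exact (Subgroup.mem_normalizer_iff.1 (hJn hj) _).1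
          (Rf.mul_mem ((Subgroup.mem_normalizer_iff.1 (hJn hc) _).1 hr) (Rf.inv_mem hr))
      have e4 : m * (b i * g i * (b i)⁻¹ * (g i)⁻¹) * m⁻¹ =
          (m * b i * m⁻¹) * a * (m * b i * m⁻¹)⁻¹ * a⁻¹ := by
        calc m * (b i * g i * (b i)⁻¹ * (g i)⁻¹) * m⁻¹
            = (m * b i * m⁻¹) * (m * g i * m⁻¹) * (m * b i * m⁻¹)⁻¹ * (m * g i * m⁻¹)⁻¹ := by group
          _ = ((m * b i * m⁻¹) * z) * a * (m * b i * m⁻¹)⁻¹ * a⁻¹ * z⁻¹ := by rw [hza]; group
          _ = z * ((m * b i * m⁻¹) * a * (m * b i * m⁻¹)⁻¹ * a⁻¹) * z⁻¹ := by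
              rw [← h.central z hz hz1 _ (h.le hb)]; group
          _ = _ := by
              rw [h.central z hz hz1 _ (N.mul_mem (N.mul_mem (N.mul_mem (h.le hb) (hRN ha))
                (N.inv_mem (h.le hb))) (N.inv_mem (hRN ha))), mul_inv_cancel_right]
      rw [e4]
      exact hbn _ hb a ha
    | one => simp
    | mul u v _ _ hu hv => simpa [mul_assoc] using Rf.mul_mem hu hv
    | inv u _ hu => simpa [mul_assoc] using Rf.inv_mem hu
  have hRn : Rf.Normal := Subgroup.normalizer_eq_top_iff.1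
    (top_le_iff.1 (h.cover ▸ sup_le hn1 hNJ))
  refine ⟨g, fun i => ⟨hg3 i, hg1 i, hgi i, fun j hij => hfix i j hij _ (hgN j) (hgR j)⟩, hJg,
    hcomm, hRn, ?_, ?_, ?_⟩
  · refine le_antisymm hRN ?_
    -- `N` is the only candidate: the kernel part is killed by `[·, J]`
    have hcov : Subgroup.normalizer ((Rf ⊔ J : Subgroup F) : Set F) = ⊤ := by
      refine top_le_iff.1 (h.cover ▸ sup_le hn2 ?_)
      intro m hm
      rw [Subgroup.mem_normalizer_iff_map_conj_eq]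
      exact (Subgroup.map_sup _ _ _).trans (congrArg₂ (· ⊔ ·)
        (Subgroup.mem_normalizer_iff_map_conj_eq.1 (hNJ hm))
        (Subgroup.mem_normalizer_iff_map_conj_eq.1 hm))
    intro n hn
    by_contra hcn
    exact hcn (h.minimal _ (Subgroup.normalizer_eq_top_iff.1 hcov) le_sup_right hn)
  · intro x hx hc
    refine h.faithful x hx fun i r hr => ?_
    obtain ⟨k, hk⟩ := hgs i r hr
    rw [← hk, ← map_mul, ← map_mul]
    exact congrArg ψ (Commute.zpow_right (show Commute x (g i) from hc i) k).eq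
  · intro x hx hx1 hline
    haveI := Fintype.ofFinite ι
    letI : CommGroup Rf := { (inferInstance : Group Rf) with
      mul_comm := fun u v => Subtype.ext (hcomm _ u.2 _ v.2) }
    have hc : ∀ i, ∀ y : Rf, (y : F) * (b i * (y : F)⁻¹ * (b i)⁻¹) ∈ Rf := fun i y =>
      Rf.mul_mem y.2 ((Subgroup.mem_normalizer_iff.1 (hJn (h.mem i)) _).1 (Rf.inv_mem y.2))
    let τ : ι → (Rf →* Rf) := fun i =>
      { toFun := fun y => ⟨_, hc i y⟩
        map_one' := by ext; simp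
        map_mul' := fun u v => by
          ext
          have e : (b i * (v : F)⁻¹ * (b i)⁻¹) ∈ Rf :=
            (Subgroup.mem_normalizer_iff.1 (hJn (h.mem i)) _).1 (Rf.inv_mem v.2)
          have e' : (b i * (u : F)⁻¹ * (b i)⁻¹) ∈ Rf :=
            (Subgroup.mem_normalizer_iff.1 (hJn (h.mem i)) _).1 (Rf.inv_mem u.2)
          simp only [Subgroup.coe_mul]
          calc (u : F) * v * (b i * ((u : F) * v)⁻¹ * (b i)⁻¹)
              = u * ((v * (b i * (v : F)⁻¹ * (b i)⁻¹)) * (b i * (u : F)⁻¹ * (b i)⁻¹)) := by group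
            _ = u * ((b i * (u : F)⁻¹ * (b i)⁻¹) * (v * (b i * (v : F)⁻¹ * (b i)⁻¹))) := by
                rw [hcomm _ (Rf.mul_mem v.2 e) _ e']
            _ = _ := by group }
    have hprod : ∀ y : Rf, ∏ i, τ i y = y⁻¹ := by
      rintro ⟨y, hy⟩
      induction hy using Subgroup.closure_induction with
      | mem w hw =>
        obtain ⟨j, rfl⟩ := hw
        rw [Finset.prod_eq_single j]
        · ext
          change g j * (b j * (g j)⁻¹ * (b j)⁻¹) = (g j)⁻¹
          have e : b j * (g j)⁻¹ * (b j)⁻¹ = g j := by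
            have := congrArg (·⁻¹) (hgi j)
            simpa [mul_assoc] using this
          rw [e]
          calc g j * g j = g j ^ 3 * (g j)⁻¹ := by rw [pow_succ, mul_inv_cancel_right, pow_two]
            _ = (g j)⁻¹ := by rw [hg3, one_mul]
        · intro i _ hij
          ext
          change g j * (b i * (g j)⁻¹ * (b i)⁻¹) = 1
          have e : b i * (g j)⁻¹ * (b i)⁻¹ = (g j)⁻¹ := by
            have := congrArg (·⁻¹) (hfix i j (Ne.symm hij) _ (hgN j) (hgR j))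
            simpa [mul_assoc] using this
          rw [e, mul_inv_cancel]
        · simp
      | one => simp only [show (⟨(1 : F), Rf.one_mem⟩ : Rf) = 1 from rfl, map_one,
          Finset.prod_const_one, inv_one]
      | mul u v hu hv ihu ihv =>
        simp only [show (⟨u * v, Rf.mul_mem hu hv⟩ : Rf) = ⟨u, hu⟩ * ⟨v, hv⟩ from rfl, map_mul,
          Finset.prod_mul_distrib, ihu, ihv, mul_inv]
      | inv u hu ihu =>
        simp only [show (⟨u⁻¹, Rf.inv_mem hu⟩ : Rf) = ⟨u, hu⟩⁻¹ from rfl, map_inv,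
          Finset.prod_inv_distrib, ihu]
    obtain ⟨i, hi⟩ : ∃ i, τ i ⟨x, hx⟩ ≠ 1 := by
      by_contra hall
      push Not at hall
      have := hprod ⟨x, hx⟩
      simp only [hall, Finset.prod_const_one] at this
      exact hx1 (congrArg Subtype.val (inv_eq_one.1 this.symm))
    refine ⟨i, ?_⟩
    set w : F := x * (b i * x⁻¹ * (b i)⁻¹) with hw
    have hw1 : w ≠ 1 := fun e => hi (Subtype.ext e)
    have hwx : w ∈ Subgroup.zpowers x := by
      refine mul_mem (Subgroup.mem_zpowers _) ?_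
      rw [← conj_inv]
      exact inv_mem (hline _ (h.mem i))
    have hwg : ∀ y : Rf, ((τ i y : Rf) : F) ∈ Subgroup.zpowers (g i) := by
      rintro ⟨y, hy⟩
      induction hy using Subgroup.closure_induction with
      | mem u hu =>
        obtain ⟨j, rfl⟩ := hu
        change g j * (b i * (g j)⁻¹ * (b i)⁻¹) ∈ _
        rcases eq_or_ne j i with rfl | hji
        · refine mul_mem (Subgroup.mem_zpowers _) ?_
          rw [← conj_inv, hgi]
          simp
        · rw [← conj_inv, hfix i j hji _ (hgN j) (hgR j), mul_inv_cancel]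
          exact one_mem _
      | one => simp [show (⟨(1 : F), Rf.one_mem⟩ : Rf) = 1 from rfl]
      | mul u v hu hv ihu ihv =>
        rw [show (⟨u * v, Rf.mul_mem hu hv⟩ : Rf) = ⟨u, hu⟩ * ⟨v, hv⟩ from rfl, map_mul,
          Subgroup.coe_mul]
        exact mul_mem ihu ihv
      | inv u hu ihu =>
        rw [show (⟨u⁻¹, Rf.inv_mem hu⟩ : Rf) = ⟨u, hu⟩⁻¹ from rfl, map_inv, Subgroup.coe_inv]
        exact inv_mem ihu
    have hwg' : w ∈ Subgroup.zpowers (g i) := hwg ⟨x, hx⟩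
    -- elements of order three
    have h3 : ∀ y : Rf, (y : F) ^ 3 = 1 := by
      rintro ⟨y, hy⟩
      induction hy using Subgroup.closure_induction with
      | mem u hu =>
        obtain ⟨j, rfl⟩ := hu
        exact hg3 j
      | one => simp
      | mul u v hu hv ihu ihv =>
        exact (Commute.mul_pow (hcomm u hu v hv) 3).trans (by rw [ihu, ihv, one_mul])
      | inv u hu ihu => rw [inv_pow, ihu, inv_one]
    have key : ∀ u : F, u ^ 3 = 1 → w ∈ Subgroup.zpowers u →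
        Subgroup.zpowers w = Subgroup.zpowers u := by
      intro u hu hwu
      have hu1 : u ≠ 1 := fun e => hw1 (by rwa [e, Subgroup.zpowers_one_eq_bot, Subgroup.mem_bot] at hwu)
      have ho : orderOf u = 3 := by
        haveI : Fact (Nat.Prime 3) := ⟨by norm_num⟩
        exact orderOf_eq_prime hu hu1
      haveI : Finite (Subgroup.zpowers u) :=
        Nat.finite_of_card_ne_zero (by rw [Nat.card_zpowers, ho]; norm_num)
      refine Subgroup.eq_of_le_of_card_ge (Subgroup.zpowers_le.2 hwu) ?_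
      rw [Nat.card_zpowers, Nat.card_zpowers, ho]
      have hd : orderOf w ∣ 3 := by
        have := Subgroup.orderOf_dvd_natCard (Subgroup.zpowers u) hwu
        rwa [Nat.card_zpowers, ho] at this
      rcases (Nat.dvd_prime (by norm_num)).1 hd with e | e
      · exact absurd (orderOf_eq_one_iff.1 e) hw1
      · omega
    rw [← key x (h3 ⟨x, hx⟩) hwx, ← key (g i) (hg3 i) hwg']

end ExtHyp

end Cfsg.Agent.Lib.LAEven56.JComp
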