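import Cfsg.Agent.Lib.PLocal.Action
import Cfsg.Agent.Lib.PGroups.ElemAb

/-!
# An abelian group acting on an elementary abelian 2-group with one nontrivial fixed point

Its faithful image has order at most half of that of the module.

Owner: helper56.
-/

set_option autoImplicit false
set_option linter.style.haveILetI false

open Cfsg
open scoped commutatorElement

namespace Cfsg.Agent.Lib.LAEven56.JComp

open Cfsg.Agent.Lib

variable {G : Type*} [Group G] [Finite G]

/-- A hyperplane avoiding a given involution. -/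
theorem exists_hyperplane {Y : Subgroup G} (hY : Cfsg.IsElementaryAbelian 2 Y) {z : G} (hz : z ∈ Y)
    (hz1 : z ≠ 1) : ∃ M : Subgroup G, M ≤ Y ∧ z ∉ M ∧ ∀ y ∈ Y, y ∉ M → z * y ∈ M := by
  obtain ⟨M, hM⟩ := (Set.toFinite {M : Subgroup G | M ≤ Y ∧ z ∉ M}).exists_maximal
    ⟨⊥, bot_le, by simpa using hz1⟩
  refine ⟨M, hM.1.1, hM.1.2, fun y hy hyM => ?_⟩
  have hsq : y * y = 1 := by rw [← pow_two]; exact hY.2 y hy
  have hzin : z ∈ M ⊔ Subgroup.zpowers y := by
    by_contra hno
    exact hyM (hM.2 ⟨sup_le hM.1.1 (Subgroup.zpowers_le.2 hy), hno⟩ le_sup_left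
      (Subgroup.mem_sup_right (Subgroup.mem_zpowers y)))
  have hn : Subgroup.zpowers y ≤ Subgroup.normalizer (M : Set G) :=
    (Subgroup.zpowers_le.2 (Subgroup.mem_centralizer_iff.2 fun m hm =>
      PGroups.elemAb_comm hY (hM.1.1 hm) hy)).trans (Subgroup.centralizer_le_normalizer _)
  have hzin' : z ∈ ((Subgroup.zpowers y ⊔ M : Subgroup G) : Set G) := sup_comm M _ ▸ hzin
  rw [Subgroup.coe_mul_of_left_le_normalizer_right _ M hn] at hzin'
  obtain ⟨w, ⟨k, rfl⟩, m, hm, hzm⟩ := hzin'
  have hzm' : y ^ k * m = z := hzm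
  rcases Int.even_or_odd' k with ⟨j, rfl | rfl⟩
  · exfalso
    rw [zpow_mul, zpow_two, hsq, one_zpow, one_mul] at hzm'
    exact hM.1.2 (hzm' ▸ hm)
  · rw [zpow_add, zpow_mul, zpow_two, hsq, one_zpow, one_mul, zpow_one] at hzm'
    rw [← hzm', PGroups.elemAb_comm hY hy (hM.1.1 hm), mul_assoc, hsq, mul_one]
    exact hm

/-- An elementary abelian 2-group of order at least `2 ^ k` is generated by at most `k` elements. -/
theorem exists_gen_finset {M : Subgroup G} (hM : Cfsg.IsElementaryAbelian 2 M) :
    ∃ S : Finset G, (S : Set G) ⊆ M ∧ Subgroup.closure (S : Set G) = M ∧ 2 ^ S.card ≤ Nat.card M := by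
  classical
  haveI : Fact (Nat.Prime 2) := ⟨Nat.prime_two⟩
  induction hn : Nat.card M using Nat.strong_induction_on generalizing M with
  | _ n ih =>
    rcases eq_or_ne M ⊥ with rfl | hne
    · exact ⟨∅, by simp, by simp, by simp [← hn]⟩
    obtain ⟨x, hx, hx1⟩ := (Subgroup.bot_or_exists_ne_one M).resolve_left hne
    obtain ⟨M', hM'M, hxM', hsplit⟩ := exists_hyperplane hM hx hx1
    have hcard := PGroups.card_mul_le_card_of_mem hM'M (PGroups.elemAb_isPGroup hM) hx hxM'
    have hlt : Nat.card M' < n := by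
      have : 0 < Nat.card M' := Nat.card_pos
      omega
    obtain ⟨S, hS, hcl, hb⟩ := ih _ hlt (PGroups.elemAb_mono hM hM'M) rfl
    refine ⟨insert x S, ?_, ?_, ?_⟩
    · rw [Finset.coe_insert]
      exact Set.insert_subset hx (hS.trans hM'M)
    · refine le_antisymm ?_ fun y hy => ?_
      · rw [Subgroup.closure_le, Finset.coe_insert]
        exact Set.insert_subset hx (hS.trans hM'M)
      · have hsub : M' ≤ Subgroup.closure ((insert x S : Finset G) : Set G) :=
          hcl ▸ Subgroup.closure_mono (by simp)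
        by_cases hyM : y ∈ M'
        · exact hsub hyM
        · have h1 := Subgroup.mul_mem _ (Subgroup.inv_mem _ (Subgroup.subset_closure
            (show x ∈ ((insert x S : Finset G) : Set G) by simp))) (hsub (hsplit y hy hyM))
          simpa using h1
    · calc 2 ^ (insert x S).card ≤ 2 ^ (S.card + 1) :=
            Nat.pow_le_pow_right (by norm_num) (Finset.card_insert_le x S)
        _ = 2 ^ S.card * 2 := pow_succ ..
        _ ≤ Nat.card M' * 2 := Nat.mul_le_mul_right 2 hb
        _ ≤ n := by omega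

/-- If `B` is abelian, acts on `Y` and fixes only two elements, then `|B / C_B(Y)| ≤ |Y| / 2`. -/
theorem card_le_of_one_fix {B Y : Subgroup G} (hY : Cfsg.IsElementaryAbelian 2 Y)
    (hB : IsPGroup 2 B) (hBn : B ≤ Subgroup.normalizer (Y : Set G))
    (hBc : ∀ a ∈ B, ∀ b ∈ B, a * b = b * a) {z : G} (hz : z ∈ Y) (hz1 : z ≠ 1)
    (hfix : ∀ y ∈ Y, (∀ b ∈ B, b * y = y * b) → y = 1 ∨ y = z)
    (hzfix : ∀ b ∈ B, b * z = z * b) :
    Nat.card B * 2 ≤ Nat.card (B ⊓ Subgroup.centralizer (Y : Set G) : Subgroup G) * Nat.card Y := by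
  classical
  haveI : Fact (Nat.Prime 2) := ⟨Nat.prime_two⟩
  obtain ⟨M, hMY, hzM, hsplit⟩ := exists_hyperplane hY hz hz1
  obtain ⟨S, hS, hcl, hb⟩ := exists_gen_finset (PGroups.elemAb_mono hY hMY)
  set C : Subgroup G := B ⊓ Subgroup.centralizer (Y : Set G)
  set f : B → Finset G := fun b => S.filter fun s => (b : G)⁻¹ * s * (b : G) ∈ M with hf
  have key : ∀ b c : B, f b = f c → (c : G)⁻¹ * b ∈ C := by
    intro b c hbc
    refine ⟨B.mul_mem (B.inv_mem c.2) b.2, ?_⟩
    set u := (c : G)⁻¹ * b with hu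
    have huB : u ∈ B := B.mul_mem (B.inv_mem c.2) b.2
    have huM : ∀ m ∈ M, u * m * u⁻¹ ∈ M := by
      intro m hm
      -- `y := b m b⁻¹` must be mapped back into `M` by `c`
      have hbm : (b : G) * m * (b : G)⁻¹ ∈ Y := (Subgroup.mem_normalizer_iff.1 (hBn b.2) m).1 (hMY hm)
      suffices h : ∀ y ∈ Y, (b : G)⁻¹ * y * b ∈ M → (c : G)⁻¹ * y * c ∈ M by
        have := h _ hbm (by simpa [mul_assoc] using hm)
        rw [hu]
        simpa [mul_assoc] using this
      -- both subgroups contain the same translates of the generators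
      intro y hy hyb
      have conjmul : ∀ (d : G) (p q : G), d⁻¹ * (p * q) * d = (d⁻¹ * p * d) * (d⁻¹ * q * d) := by
        intro d p q; group
      have hzd : ∀ d ∈ B, d⁻¹ * z * d = z := fun d hd => by
        rw [mul_assoc, ← hzfix d hd, ← mul_assoc, inv_mul_cancel, one_mul]
      have hzz : z * z = 1 := by rw [← pow_two]; exact hY.2 z hz
      have hnotboth : ∀ d ∈ B, ∀ q, d⁻¹ * q * d ∈ M → d⁻¹ * (z * q) * d ∉ M := by
        intro d hd q h1 h2
        rw [conjmul, hzd d hd] at h2
        have h3 := M.mul_mem h2 (M.inv_mem h1)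
        rw [mul_inv_cancel_right] at h3
        exact hzM h3
      have hor : ∀ d ∈ B, ∀ q ∈ Y, d⁻¹ * q * d ∈ M ∨ d⁻¹ * (z * q) * d ∈ M := by
        intro d hd q hq
        by_cases hqd : d⁻¹ * q * d ∈ M
        · exact Or.inl hqd
        · right
          rw [conjmul, hzd d hd]
          refine hsplit _ ?_ hqd
          have := (Subgroup.mem_normalizer_iff.1 (hBn (B.inv_mem hd)) q).1 hq
          simpa using this
      have hgen : ∀ q ∈ M, ((b : G)⁻¹ * q * b ∈ M ↔ (c : G)⁻¹ * q * c ∈ M) := by
        intro q hq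
        rw [← hcl] at hq
        induction hq using Subgroup.closure_induction with
        | mem s hs =>
          have h1 : s ∈ f b ↔ s ∈ f c := by rw [hbc]
          simpa [hf, Finset.mem_coe.1 hs] using h1
        | one => simp
        | mul p q hp hq ihp ihq =>
          have hpY : p ∈ Y := hMY (hcl ▸ hp)
          have hqY : q ∈ Y := hMY (hcl ▸ hq)
          -- the characters add up
          have step : ∀ d ∈ B, (d⁻¹ * (p * q) * d ∈ M ↔ (d⁻¹ * p * d ∈ M ↔ d⁻¹ * q * d ∈ M)) := by
            intro d hd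
            rw [conjmul]
            constructor
            · intro h
              exact ⟨fun h' => (Subgroup.mul_mem_cancel_left _ h').1 h,
                fun h' => (Subgroup.mul_mem_cancel_right _ h').1 h⟩
            · intro h
              by_cases hp' : d⁻¹ * p * d ∈ M
              · exact M.mul_mem hp' (h.1 hp')
              · have hq' : d⁻¹ * q * d ∉ M := fun h' => hp' (h.2 h')
                have h1 := (hor d hd p hpY).resolve_left hp'
                have h2 := (hor d hd q hqY).resolve_left hq'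
                rw [conjmul, hzd d hd] at h1 h2
                have h3 := M.mul_mem h1 h2
                set p' := d⁻¹ * p * d with hp''
                have hp'Y : p' ∈ Y := by
                  have := (Subgroup.mem_normalizer_iff.1 (hBn (B.inv_mem hd)) p).1 hpY
                  simpa [hp''] using this
                have e : z * p' * (z * (d⁻¹ * q * d)) = (z * z) * (p' * (d⁻¹ * q * d)) := by
                  calc z * p' * (z * (d⁻¹ * q * d)) = z * (p' * z) * (d⁻¹ * q * d) := by group
                    _ = _ := by rw [← PGroups.elemAb_comm hY hz hp'Y]; group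
                rwa [e, hzz, one_mul] at h3
          rw [step _ b.2, step _ c.2, ihp, ihq]
        | inv p hp ihp =>
          have e : ∀ d : G, d⁻¹ * p⁻¹ * d = (d⁻¹ * p * d)⁻¹ := fun d => by group
          rw [e, e, inv_mem_iff, inv_mem_iff, ihp]
      by_cases hyM : y ∈ M
      · exact (hgen y hyM).1 hyb
      · have h1 := hnotboth _ b.2 _ hyb
        rw [hgen _ (hsplit y hy hyM)] at h1
        exact (hor _ c.2 y hy).resolve_right h1
    -- `u` stabilises a hyperplane missing the only fixed point, so it is trivial on `Y`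
    have huY : ∀ y ∈ Y, ⁅u, y⁆ ∈ M := by
      intro y hy
      rw [commutatorElement_def]
      have huy : u * y * u⁻¹ ∈ Y := (Subgroup.mem_normalizer_iff.1 (hBn huB) y).1 hy
      by_cases hyM : y ∈ M
      · exact M.mul_mem (huM y hyM) (M.inv_mem hyM)
      · have h1 := huM _ (hsplit y hy hyM)
        have e : u * (z * y) * u⁻¹ = z * (u * y * u⁻¹) := by
          calc u * (z * y) * u⁻¹ = (u * z) * y * u⁻¹ := by group
            _ = _ := by rw [hzfix u huB]; group
        rw [e] at h1
        have h2 := M.mul_mem (M.inv_mem (hsplit y hy hyM)) h1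
        have e2 : (z * y)⁻¹ * (z * (u * y * u⁻¹)) = u * y * u⁻¹ * y⁻¹ := by
          calc (z * y)⁻¹ * (z * (u * y * u⁻¹)) = y⁻¹ * (u * y * u⁻¹) := by group
            _ = _ := PGroups.elemAb_comm hY (Y.inv_mem hy) huy
        rwa [e2] at h2
    by_contra hucent
    set D := Subgroup.closure (Set.range fun y : Y => ⁅u, (y : G)⁆) with hD
    have hDM : D ≤ M := (Subgroup.closure_le _).2 (by rintro _ ⟨y, rfl⟩; exact huY y y.2)
    have hBD : B ≤ Subgroup.normalizer (D : Set G) := by
      refine Subgroup.le_normalizer_iff.2 fun d hd x hx => ?_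
      induction hx using Subgroup.closure_induction with
      | mem w hw =>
        obtain ⟨y, rfl⟩ := hw
        refine Subgroup.subset_closure ⟨⟨d * (y : G) * d⁻¹,
          (Subgroup.mem_normalizer_iff.1 (hBn hd) _).1 y.2⟩, ?_⟩
        change ⁅u, d * (y : G) * d⁻¹⁆ = d * ⁅u, (y : G)⁆ * d⁻¹
        rw [commutatorElement_def, commutatorElement_def]
        calc u * (d * (y : G) * d⁻¹) * u⁻¹ * (d * (y : G) * d⁻¹)⁻¹
            = (u * d) * (y : G) * (u * d)⁻¹ * d * (y : G)⁻¹ * d⁻¹ := by group
          _ = d * (u * (y : G) * u⁻¹ * (y : G)⁻¹) * d⁻¹ := by rw [hBc u huB d hd]; group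
      | one => simp
      | mul p q _ _ hp hq => simpa [mul_assoc] using D.mul_mem hp hq
      | inv p _ hp => simpa [mul_assoc] using D.inv_mem hp
    have hDne : D ≠ ⊥ := fun h => hucent (Subgroup.mem_centralizer_iff.2 fun y hy => by
      have h1 : ⁅u, y⁆ ∈ D := Subgroup.subset_closure ⟨⟨y, hy⟩, rfl⟩
      rw [h, Subgroup.mem_bot, commutatorElement_eq_one_iff_mul_comm] at h1
      exact h1.symm)
    have hfn := PLocal.fixOn_ne_bot (p := 2) hBD (PLocal.pActsOn_of_isPGroup hB)
      (PGroups.elemAb_isPGroup (PGroups.elemAb_mono hY (hDM.trans hMY))) hDne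
    obtain ⟨w, hw, hw1⟩ := (Subgroup.bot_or_exists_ne_one _).resolve_left hfn
    obtain ⟨hwD, hwf⟩ := PLocal.mem_fixOn.1 hw
    rcases hfix w (hMY (hDM hwD)) hwf with h | h
    · exact hw1 h
    · exact hzM (h ▸ hDM hwD)
  -- count
  have : Nonempty B := ⟨1⟩
  let r : Finset G → B := Function.invFun f
  have hr : ∀ b, f (r (f b)) = f b := fun b => Function.invFun_eq ⟨b, rfl⟩
  let g : B → C × S.powerset := fun b =>
    (⟨((r (f b) : B) : G)⁻¹ * b, key b (r (f b)) (hr b).symm⟩,
      ⟨f b, Finset.mem_powerset.2 (Finset.filter_subset _ _)⟩)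
  have hinj : Function.Injective g := by
    intro a b hab
    simp only [g, Prod.mk.injEq, Subtype.mk.injEq] at hab
    obtain ⟨h1, h2⟩ := hab
    rw [h2] at h1
    exact Subtype.ext (mul_left_cancel h1)
  have h1 := Nat.card_le_card_of_injective g hinj
  rw [Nat.card_prod, Nat.card_eq_fintype_card (α := S.powerset), Fintype.card_coe,
    Finset.card_powerset] at h1
  have h2 := PGroups.card_mul_le_card_of_mem hMY (PGroups.elemAb_isPGroup hY) hz hzM
  calc Nat.card B * 2 ≤ Nat.card C * 2 ^ S.card * 2 := Nat.mul_le_mul_right 2 h1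
    _ = Nat.card C * (2 ^ S.card * 2) := by ring
    _ ≤ Nat.card C * Nat.card Y := Nat.mul_le_mul_left _ ((Nat.mul_le_mul_right 2 hb).trans h2)

end Cfsg.Agent.Lib.LAEven56.JComp
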