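import Cfsg.Agent.Lib.LAEven56.JComp.Basic
import Cfsg.Agent.Lib.LAEven56.JComp.FixBound
import Cfsg.Agent.Lib.PLocal.Action

/-!
# A single `J(T)`-component: the module `W_K` has order at most 4

Owner: helper56.
-/

set_option autoImplicit false
set_option linter.style.haveILetI false
set_option linter.unusedSectionVars false

open Cfsg
open scoped commutatorElement

namespace Cfsg.Agent.Lib.LAEven56.JComp

open Cfsg.Agent.Lib

variable {G : Type*} [Group G] [Finite G]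

/-- The part of the definition of a `J(T)`-component that does not mention `W`, with the bound it implies. -/
structure PreComp (T K : Subgroup G) : Prop where
  two : IsPGroup 2 T
  odd : oddGen K = K
  comm : ⁅K, jT T⁆ = K
  index : (Cfsg.pCoreOf 2 K).relIndex K = 3
  bound : IsBoundedBy (K ⊔ jT T) T

variable {T K : Subgroup G}

namespace PreComp

theorem le_normalizer (h : PreComp T K) : jT T ≤ Subgroup.normalizer (K : Set G) :=
  Subgroup.le_normalizer_iff_commutator_le_left.2 h.comm.le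

theorem isPGroup_jT (h : PreComp T K) : IsPGroup 2 (jT T) :=
  h.two.to_le (PGroups.thompsonSubgroupOf_le 2 T)

theorem core_le : Cfsg.pCoreOf 2 K ≤ K := CharP.pCoreOf_le 2 K

theorem exists_three (h : PreComp T K) : ∃ d ∈ K, d ∉ Cfsg.pCoreOf 2 K ∧ d ^ 3 = 1 ∧
    Cfsg.pCoreOf 2 K ⊔ Subgroup.zpowers d = K := by
  set Q := Cfsg.pCoreOf 2 K with hQ
  haveI hn : (Q.subgroupOf K).Normal :=
    Subgroup.normal_subgroupOf_of_le_normalizer (CharP.le_normalizer_pCoreOf 2 K)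
  obtain ⟨d, hdK, hdo, hdQ⟩ : ∃ d ∈ K, Odd (orderOf d) ∧ d ∉ Q := by
    by_contra hc
    push Not at hc
    have h1 : K ≤ Q := h.odd ▸ oddGen_le_of_forall hc
    have h2 := h.index
    rw [Subgroup.relIndex_eq_one.2 h1] at h2
    omega
  have h3 : d ^ 3 ∈ Q := by
    have := Subgroup.pow_index_mem (Q.subgroupOf K) ⟨d, hdK⟩
    rw [← Subgroup.relIndex, h.index] at this
    exact this
  have hd3 : d ^ 3 = 1 := by
    refine eq_one_of_odd (CharP.isPGroup_pCoreOf 2 K) h3 ?_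
    obtain ⟨m, hm⟩ := orderOf_pow_dvd (x := d) 3
    exact (Nat.odd_mul.1 (hm ▸ hdo)).1
  refine ⟨d, hdK, hdQ, hd3, ?_⟩
  set X := Q ⊔ Subgroup.zpowers d with hX
  have hXK : X ≤ K := sup_le core_le (Subgroup.zpowers_le.2 hdK)
  have hm := Subgroup.relIndex_mul_relIndex Q X K le_sup_left hXK
  rw [h.index] at hm
  rcases (Nat.dvd_prime (by norm_num : Nat.Prime 3)).1 (Dvd.intro _ hm) with h1 | h1
  · exact absurd (Subgroup.relIndex_eq_one.1 h1 (Subgroup.mem_sup_right (Subgroup.mem_zpowers d))) hdQ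
  · rw [h1] at hm
    exact le_antisymm hXK (Subgroup.relIndex_eq_one.1 (by omega))

theorem wOf_le_omega (h : PreComp T K) :
    Cfsg.wOf K ≤ Cfsg.omegaCenterOf (Cfsg.pCoreOf 2 K) :=
  Subgroup.le_normalizer_iff_commutator_le_left.1 (Subgroup.le_normalizer.trans (fun g hg => by
    rw [mem_normalizer_iff_map] at hg ⊢
    change (PLocal.omegaCenterOf 2 (Cfsg.pCoreOf 2 K)).map _ = _
    rw [PLocal.map_omegaCenterOf _ (MulAut.conj g).injective,
      CosetGraph.SylowIn.pCoreOf_map 2 K _ (MulAut.conj g).injective, hg]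
    rfl))

theorem wOf_elemAb (h : PreComp T K) : Cfsg.IsElementaryAbelian 2 (Cfsg.wOf K) :=
  PGroups.elemAb_mono (PLocal.omegaCenterOf_elemAb _) h.wOf_le_omega

theorem wOf_sq (h : PreComp T K) : ∀ w ∈ Cfsg.wOf K, w * w = 1 := fun w hw => by
  rw [← pow_two]; exact h.wOf_elemAb.2 w hw

theorem core_centralizes_wOf (h : PreComp T K) :
    Cfsg.pCoreOf 2 K ≤ Subgroup.centralizer (Cfsg.wOf K : Set G) :=
  (PLocal.le_centralizer_omegaCenterOf _).trans
    (Subgroup.centralizer_le (SetLike.coe_subset_coe.2 h.wOf_le_omega))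

/-- `d` has no nontrivial fixed point on `W_K`. -/
theorem no_fixed (h : PreComp T K) {d : G} (hd : d ∈ K) (hd3 : d ^ 3 = 1)
    (hgen : Cfsg.pCoreOf 2 K ⊔ Subgroup.zpowers d = K) :
    ∀ w ∈ Cfsg.wOf K, d * w = w * d → w = 1 := by
  set U := Cfsg.omegaCenterOf (Cfsg.pCoreOf 2 K) with hU
  have hUe : Cfsg.IsElementaryAbelian 2 U := PLocal.omegaCenterOf_elemAb _
  have hUc : ∀ u ∈ U, ∀ q ∈ Cfsg.pCoreOf 2 K, q * u = u * q := fun u hu q hq =>
    (Subgroup.mem_centralizer_iff.1 (PLocal.le_centralizer_omegaCenterOf _ hq) u hu).symm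
  have hKU : K ≤ Subgroup.normalizer (U : Set G) := by
    refine Subgroup.le_normalizer.trans fun g hg => ?_
    rw [mem_normalizer_iff_map] at hg ⊢
    change (PLocal.omegaCenterOf 2 (Cfsg.pCoreOf 2 K)).map _ = _
    rw [PLocal.map_omegaCenterOf _ (MulAut.conj g).injective,
      CosetGraph.SylowIn.pCoreOf_map 2 K _ (MulAut.conj g).injective, hg]
    rfl
  set R := PLocal.commRange hUe.1 d (hKU hd) with hR
  have hdR : ∀ x ∈ R, d * x * d⁻¹ ∈ R := by
    intro x hx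
    obtain ⟨u, hu, rfl⟩ := (PLocal.mem_commRange hUe.1 (hKU hd)).1 hx
    refine (PLocal.mem_commRange hUe.1 (hKU hd)).2
      ⟨d * u * d⁻¹, (Subgroup.mem_normalizer_iff.1 (hKU hd) u).1 hu, ?_⟩
    simp only [commutatorElement_def]
    group
  have hWR : Cfsg.wOf K ≤ R := by
    rw [Cfsg.wOf, Subgroup.commutator_le]
    intro u hu k hk
    have hk' : k ∈ ((Subgroup.zpowers d ⊔ Cfsg.pCoreOf 2 K : Subgroup G) : Set G) := by
      rw [sup_comm, hgen]; exact hk
    rw [Subgroup.coe_mul_of_left_le_normalizer_right _ _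
      ((Subgroup.zpowers_le.2 hd).trans (CharP.le_normalizer_pCoreOf 2 K))] at hk'
    obtain ⟨e, ⟨n, rfl⟩, q, hq, rfl⟩ := hk'
    have hq' := hUc u hu q hq
    have e1 : ⁅u, d ^ n * q⁆ = ⁅u, d ^ n⁆ := by
      simp only [commutatorElement_def]
      calc u * (d ^ n * q) * u⁻¹ * (d ^ n * q)⁻¹ = u * d ^ n * (q * u⁻¹) * q⁻¹ * (d ^ n)⁻¹ := by group
        _ = u * d ^ n * (u⁻¹ * q) * q⁻¹ * (d ^ n)⁻¹ := by rw [hUc _ (U.inv_mem hu) q hq]
        _ = _ := by group
    change ⁅u, d ^ n * q⁆ ∈ R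
    rw [e1]
    have hd3' : d ^ (3 : ℤ) = 1 := by exact_mod_cast hd3
    have hsplit : d ^ n = d ^ (n % 3) := by
      conv_lhs => rw [← Int.emod_add_mul_ediv n 3]
      rw [zpow_add, zpow_mul, hd3', one_zpow, mul_one]
    have h1 : ⁅u, d⁆ ∈ R := (PLocal.mem_commRange hUe.1 (hKU hd)).2 ⟨u, hu, rfl⟩
    rw [hsplit]
    have hn : n % 3 = 0 ∨ n % 3 = 1 ∨ n % 3 = 2 := by omega
    rcases hn with h3 | h3 | h3 <;> rw [h3]
    · simp
    · simpa using h1
    · rw [zpow_two, show ⁅u, d * d⁆ = ⁅u, d⁆ * (d * ⁅u, d⁆ * d⁻¹) by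
        simp only [commutatorElement_def]; group]
      exact R.mul_mem h1 (hdR _ h1)
  intro w hw hwd
  obtain ⟨u, hu, rfl⟩ := (PLocal.mem_commRange hUe.1 (hKU hd)).1 (hWR hw)
  set w := ⁅u, d⁆ with hw'
  have hf : d * w * d⁻¹ = w := by rw [hwd, mul_inv_cancel_right]
  have h3 : w * w * w = 1 := by
    calc w * w * w = w * (d * w * d⁻¹) * (d * (d * w * d⁻¹) * d⁻¹) := by rw [hf, hf]
      _ = u * (d * d * d) * u⁻¹ * (d * d * d)⁻¹ := by rw [hw', commutatorElement_def]; group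
      _ = 1 := by rw [show d * d * d = d ^ 3 by rw [pow_succ, pow_two], hd3]; simp
  rwa [h.wOf_sq w hw, one_mul] at h3

/-- `|W_K| = 4` as soon as `W_K ≠ 1`. -/
theorem card_wOf (h : PreComp T K) (hW : Cfsg.wOf K ≠ ⊥) : Nat.card (Cfsg.wOf K) = 4 := by
  haveI : Fact (Nat.Prime 2) := ⟨Nat.prime_two⟩
  obtain ⟨d, hd, hdQ, hd3, hgen⟩ := h.exists_three
  set Q := Cfsg.pCoreOf 2 K with hQ
  set W := Cfsg.wOf K with hWdef
  have hWe := h.wOf_elemAb
  have hfree := h.no_fixed hd hd3 hgen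
  have hKW : K ≤ Subgroup.normalizer (W : Set G) :=
    Subgroup.le_normalizer.trans (normalizer_le_normalizer_wOf K)
  have hJW : jT T ≤ Subgroup.normalizer (W : Set G) :=
    h.le_normalizer.trans (normalizer_le_normalizer_wOf K)
  have hJQ : jT T ≤ Subgroup.normalizer (Q : Set G) :=
    h.le_normalizer.trans (normalizer_le_normalizer_pCoreOf 2 K)
  have hKQ : K ≤ Subgroup.normalizer (Q : Set G) := CharP.le_normalizer_pCoreOf 2 K
  have hQW : ∀ q ∈ Q, ∀ w ∈ W, q * w = w * q := fun q hq w hw =>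
    (Subgroup.mem_centralizer_iff.1 (h.core_centralizes_wOf hq) w hw).symm
  -- conjugates of `d`
  have hd3' : d ^ (3 : ℤ) = 1 := by exact_mod_cast hd3
  have hconj : ∀ a ∈ jT T, ∃ q ∈ Q, a * d * a⁻¹ = d * q ∨ a * d * a⁻¹ = d⁻¹ * q := by
    intro a ha
    have h1 : a * d * a⁻¹ ∈ ((Subgroup.zpowers d ⊔ Q : Subgroup G) : Set G) := by
      rw [sup_comm, hgen]
      exact (Subgroup.mem_normalizer_iff.1 (h.le_normalizer ha) d).1 hd
    rw [Subgroup.coe_mul_of_left_le_normalizer_right _ _ ((Subgroup.zpowers_le.2 hd).trans hKQ)] at h1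
    obtain ⟨e, ⟨n, rfl⟩, q, hq, he⟩ := h1
    have he' : d ^ n * q = a * d * a⁻¹ := he
    have hsplit : d ^ n = d ^ (n % 3) := by
      conv_lhs => rw [← Int.emod_add_mul_ediv n 3]
      rw [zpow_add, zpow_mul, hd3', one_zpow, mul_one]
    have hn : n % 3 = 0 ∨ n % 3 = 1 ∨ n % 3 = 2 := by omega
    rcases hn with h3 | h3 | h3 <;> rw [hsplit, h3] at he'
    · exfalso
      refine hdQ ?_
      rw [zpow_zero, one_mul] at he'
      have := (Subgroup.mem_normalizer_iff.1 (hJQ ha) d).2 (he' ▸ hq)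
      exact this
    · exact ⟨q, hq, Or.inl (by rw [← he', zpow_one])⟩
    · refine ⟨q, hq, Or.inr ?_⟩
      rw [← he', zpow_two]
      congr 1
      refine eq_inv_of_mul_eq_one_left ?_
      rw [← pow_two, ← pow_succ, hd3]
  -- some member of `𝒜(T)` inverts `d`
  obtain ⟨A, hA, t, htA, qt, hqt, htd⟩ : ∃ A ∈ PGroups.maxElemAbIn 2 T, ∃ t ∈ A, ∃ q ∈ Q,
      t * d * t⁻¹ = d⁻¹ * q := by
    by_contra hc
    push Not at hc
    have hgood : ∀ A ∈ PGroups.maxElemAbIn 2 T, ∀ a ∈ A, ⁅d, a⁆ ∈ Q := by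
      intro A hA a ha
      obtain ⟨q, hq, hh | hh⟩ := hconj a (PGroups.le_thompsonSubgroupOf hA ha)
      · rw [show ⁅d, a⁆ = d * (a * d * a⁻¹)⁻¹ by rw [commutatorElement_def]; group, hh,
          mul_inv_rev, ← mul_assoc]
        exact (Subgroup.mem_normalizer_iff.1 (hKQ hd) _).1 (Q.inv_mem hq)
      · exact absurd hh (hc A hA a ha q hq)
    have h1 : ∀ a ∈ jT T, ⁅d, a⁆ ∈ Q := by
      set D : Subgroup G := jT T ⊓ Subgroup.normalizer ((Subgroup.zpowers d ⊔ Q : Subgroup G) : Set G)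
      intro a ha
      rw [jT, PGroups.thompsonSubgroupOf_eq, sSup_eq_iSup, Subgroup.iSup_eq_closure] at ha
      have ha' : a ∈ jT T ∧ ⁅d, a⁆ ∈ Q := by
        induction ha using Subgroup.closure_induction with
        | mem x hx =>
          simp only [Set.mem_iUnion, SetLike.mem_coe] at hx
          obtain ⟨A, hxA⟩ := hx
          by_cases hA : A ∈ PGroups.maxElemAbIn 2 T
          · rw [iSup_pos hA] at hxA
            exact ⟨PGroups.le_thompsonSubgroupOf hA hxA, hgood A hA x hxA⟩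
          · rw [iSup_neg hA, Subgroup.mem_bot] at hxA
            subst hxA
            exact ⟨one_mem _, by simp⟩
        | one => exact ⟨one_mem _, by simp⟩
        | mul x y _ _ hx hy =>
          refine ⟨mul_mem hx.1 hy.1, ?_⟩
          rw [show ⁅d, x * y⁆ = ⁅d, x⁆ * (x * ⁅d, y⁆ * x⁻¹) by simp only [commutatorElement_def]; group]
          exact Q.mul_mem hx.2 ((Subgroup.mem_normalizer_iff.1 (hJQ hx.1) _).1 hy.2)
        | inv x _ hx =>
          refine ⟨inv_mem hx.1, ?_⟩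
          rw [show ⁅d, x⁻¹⁆ = x⁻¹ * ⁅d, x⁆⁻¹ * x by simp only [commutatorElement_def]; group]
          have := (Subgroup.mem_normalizer_iff.1 (hJQ (inv_mem hx.1)) _).1 (Q.inv_mem hx.2)
          simpa using this
      exact ha'.2
    have hKQ' : K ≤ Q := by
      rw [← h.comm, Subgroup.commutator_le]
      intro k hk a ha
      have hk' : k ∈ ((Subgroup.zpowers d ⊔ Q : Subgroup G) : Set G) := by rw [sup_comm, hgen]; exact hk
      rw [Subgroup.coe_mul_of_left_le_normalizer_right _ _ ((Subgroup.zpowers_le.2 hd).trans hKQ)] at hk'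
      obtain ⟨e, ⟨n, rfl⟩, q, hq, rfl⟩ := hk'
      -- `a` fixes the coset of `d`
      have hda : ∀ m : ℤ, a * d ^ m * a⁻¹ * (d ^ m)⁻¹ ∈ Q := by
        intro m
        haveI : (Q.subgroupOf (Subgroup.normalizer (Q : Set G))).Normal :=
          Subgroup.normal_subgroupOf_of_le_normalizer le_rfl
        set π := QuotientGroup.mk' (Q.subgroupOf (Subgroup.normalizer (Q : Set G)))
        set a' : Subgroup.normalizer (Q : Set G) := ⟨a, hJQ ha⟩
        set d' : Subgroup.normalizer (Q : Set G) := ⟨d, hKQ hd⟩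
        have hc1 : Commute (π a') (π d') := by
          have : π (d' * a' * d'⁻¹ * a'⁻¹) = 1 := (QuotientGroup.eq_one_iff _).2 (h1 a ha)
          rw [map_mul, map_mul, map_mul, map_inv, map_inv, mul_inv_eq_one, mul_inv_eq_iff_eq_mul] at this
          exact this.symm
        have hc2 : π (a' * d' ^ m * a'⁻¹ * (d' ^ m)⁻¹) = 1 := by
          rw [map_mul, map_mul, map_mul, map_inv, map_inv, map_zpow, (hc1.zpow_right m).eq]
          group
        exact (QuotientGroup.eq_one_iff (N := Q.subgroupOf (Subgroup.normalizer (Q : Set G))) (a' * d' ^ m * a'⁻¹ * (d' ^ m)⁻¹)).1 hc2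
      have e1 : ⁅d ^ n * q, a⁆ = (d ^ n * q * (a * q⁻¹ * a⁻¹) * (d ^ n)⁻¹) *
          (a * d ^ n * a⁻¹ * (d ^ n)⁻¹)⁻¹ := by
        simp only [commutatorElement_def]; group
      change ⁅d ^ n * q, a⁆ ∈ Q
      rw [e1]
      refine Q.mul_mem ?_ (Q.inv_mem (hda n))
      have := (Subgroup.mem_normalizer_iff.1 (hKQ (K.zpow_mem hd n)) _).1
        (Q.mul_mem hq ((Subgroup.mem_normalizer_iff.1 (hJQ ha) _).1 (Q.inv_mem hq)))
      simpa [mul_assoc] using this
    exact hdQ (hKQ' hd)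
  have hAJ : A ≤ jT T := PGroups.le_thompsonSubgroupOf hA
  have hAe := hA.2.1
  have hAW : A ≤ Subgroup.normalizer (W : Set G) := hAJ.trans hJW
  -- conjugation by `d`
  have hdW : ∀ w ∈ W, d * w * d⁻¹ ∈ W := fun w hw => (Subgroup.mem_normalizer_iff.1 (hKW hd) w).1 hw
  have hdW' : ∀ w ∈ W, d⁻¹ * w * d ∈ W := fun w hw => by
    have := (Subgroup.mem_normalizer_iff.1 (hKW (inv_mem hd)) w).1 hw
    simpa using this
  -- `A₀`
  let A0 : Subgroup G :=
    { carrier := {a | a ∈ A ∧ ∃ q ∈ Q, a * d * a⁻¹ = d * q}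
      mul_mem' := by
        rintro a b ⟨ha, q, hq, hqa⟩ ⟨hb, r, hr, hrb⟩
        refine ⟨mul_mem ha hb, q * (a * r * a⁻¹),
          Q.mul_mem hq ((Subgroup.mem_normalizer_iff.1 (hJQ (hAJ ha)) r).1 hr), ?_⟩
        calc a * b * d * (a * b)⁻¹ = a * (b * d * b⁻¹) * a⁻¹ := by group
          _ = (a * d * a⁻¹) * (a * r * a⁻¹) := by rw [hrb]; group
          _ = _ := by rw [hqa]; group
      one_mem' := ⟨one_mem _, 1, one_mem _, by simp⟩
      inv_mem' := by
        rintro a ⟨ha, q, hq, hqa⟩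
        refine ⟨inv_mem ha, a⁻¹ * q⁻¹ * a, ?_, ?_⟩
        · have := (Subgroup.mem_normalizer_iff.1 (hJQ (inv_mem (hAJ ha))) _).1 (Q.inv_mem hq)
          simpa using this
        · have e : d = a⁻¹ * (a * d * a⁻¹) * a := by group
          calc a⁻¹ * d * (a⁻¹)⁻¹ = a⁻¹ * d * a := by rw [inv_inv]
            _ = (a⁻¹ * (a * d * a⁻¹) * a) * (a⁻¹ * q⁻¹ * a) := by rw [hqa]; group
            _ = _ := by rw [← e] }
  have hA0A : A0 ≤ A := fun a ha => ha.1
  have hsplit2 : ∀ a ∈ A, a ∈ A0 ∨ a * t ∈ A0 := by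
    intro a ha
    obtain ⟨q, hq, hh | hh⟩ := hconj a (hAJ ha)
    · exact Or.inl ⟨ha, q, hq, hh⟩
    · refine Or.inr ⟨mul_mem ha htA, ?_⟩
      refine ⟨(d⁻¹ * (q⁻¹) * d) * (a * qt * a⁻¹), Q.mul_mem ?_
        ((Subgroup.mem_normalizer_iff.1 (hJQ (hAJ ha)) qt).1 hqt), ?_⟩
      · have := (Subgroup.mem_normalizer_iff.1 (hKQ (inv_mem hd)) _).1 (Q.inv_mem hq)
        simpa using this
      · calc a * t * d * (a * t)⁻¹ = a * (t * d * t⁻¹) * a⁻¹ := by group
          _ = (a * d * a⁻¹)⁻¹ * (a * qt * a⁻¹) := by rw [htd]; group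
          _ = _ := by rw [hh]; group
  have hA0card : Nat.card A ≤ 2 * Nat.card A0 := by
    classical
    haveI := Fintype.ofFinite A
    let f : A0 × Bool → A := fun x =>
      if x.2 then ⟨(x.1 : G) * t, mul_mem (hA0A x.1.2) htA⟩ else ⟨x.1, hA0A x.1.2⟩
    have hf : Function.Surjective f := by
      rintro ⟨a, ha⟩
      rcases hsplit2 a ha with h0 | h0
      · exact ⟨(⟨a, h0⟩, false), by simp [f]⟩
      · refine ⟨(⟨a * t, h0⟩, true), ?_⟩
        simp only [f, if_true]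
        refine Subtype.ext ?_
        have : t * t = 1 := by rw [← pow_two]; exact hAe.2 t htA
        simp [mul_assoc, this]
    have := Nat.card_le_card_of_surjective f hf
    rwa [Nat.card_prod, Nat.card_eq_fintype_card (α := Bool), Fintype.card_bool, mul_comm] at this
  -- fixed points
  set F := PLocal.fixOn W A0 with hF
  set Ft := PLocal.fixOn W A with hFt
  set Y := PLocal.fixOn W (Subgroup.zpowers t) with hY
  have hYmem : ∀ {y : G}, y ∈ Y ↔ y ∈ W ∧ t * y = y * t := by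
    intro y
    rw [hY, PLocal.mem_fixOn]
    refine and_congr_right fun _ => ⟨fun h' => h' t (Subgroup.mem_zpowers t), ?_⟩
    rintro h' _ ⟨m, rfl⟩
    exact (Commute.zpow_left (h' : Commute t y) m).eq
  have hFtY : Ft ≤ Y := PLocal.fixOn_anti (Subgroup.zpowers_le.2 htA)
  -- `t` and `d`
  have htd' : ∀ w ∈ W, t * (d * w * d⁻¹) * t⁻¹ = d⁻¹ * (t * w * t⁻¹) * d := by
    intro w hw
    have hw' : t * w * t⁻¹ ∈ W := (Subgroup.mem_normalizer_iff.1 (hAW htA) w).1 hw
    calc t * (d * w * d⁻¹) * t⁻¹ = (t * d * t⁻¹) * (t * w * t⁻¹) * (t * d * t⁻¹)⁻¹ := by group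
      _ = d⁻¹ * (qt * (t * w * t⁻¹)) * qt⁻¹ * d := by rw [htd]; group
      _ = _ := by rw [hQW qt hqt _ hw']; group
  have hinjY : ∀ x ∈ Y, ∀ y ∈ Y, d * x * d⁻¹ = y → x = 1 := by
    intro x hx y hy hxy
    obtain ⟨hxW, htx⟩ := hYmem.1 hx
    obtain ⟨hyW, hty⟩ := hYmem.1 hy
    have h1 := htd' x hxW
    rw [htx, mul_inv_cancel_right, hxy, hty, mul_inv_cancel_right, ← hxy] at h1
    refine hfree x hxW ?_
    -- `d² ` fixes `x`
    have h2 : d * d * x * (d * d)⁻¹ = x := by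
      calc d * d * x * (d * d)⁻¹ = d * (d * x * d⁻¹) * d⁻¹ := by group
        _ = x := by rw [h1]; group
    have h4 : d * d * (d * d) = d := by
      calc d * d * (d * d) = d * d * d * d := by group
        _ = d := by rw [show d * d * d = d ^ 3 by rw [pow_succ, pow_two], hd3, one_mul]
    have h5 : d * x * d⁻¹ = x := by
      conv_lhs => rw [← h4]
      calc d * d * (d * d) * x * (d * d * (d * d))⁻¹ = d * d * (d * d * x * (d * d)⁻¹) * (d * d)⁻¹ := by
            group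
        _ = x := by rw [h2, h2]
    exact mul_inv_eq_iff_eq_mul.1 h5
  have hdF : ∀ x ∈ F, d * x * d⁻¹ ∈ F := by
    intro x hx
    obtain ⟨hxW, hxA⟩ := PLocal.mem_fixOn.1 hx
    refine PLocal.mem_fixOn.2 ⟨hdW x hxW, fun a ha => ?_⟩
    obtain ⟨q, hq, hqa⟩ := ha.2
    have h1 : a * (d * x * d⁻¹) * a⁻¹ = d * x * d⁻¹ := by
      calc a * (d * x * d⁻¹) * a⁻¹ = (a * d * a⁻¹) * (a * x * a⁻¹) * (a * d * a⁻¹)⁻¹ := by group
        _ = d * (q * x) * q⁻¹ * d⁻¹ := by rw [hqa, hxA a ha]; group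
        _ = _ := by rw [hQW q hq x hxW]; group
    exact mul_inv_eq_iff_eq_mul.1 h1
  have hprod : ∀ (Z X : Subgroup G), X ≤ Y → X ≤ Z → Z ≤ W → (∀ x ∈ X, d * x * d⁻¹ ∈ Z) →
      Nat.card X * Nat.card X ≤ Nat.card Z := by
    intro Z X hXY hXZ hZW hdZ
    rw [← Nat.card_prod]
    refine Nat.card_le_card_of_injective
      (fun p => (⟨(p.1 : G) * (d * (p.2 : G) * d⁻¹), mul_mem (hXZ p.1.2) (hdZ _ p.2.2)⟩ : Z)) ?_
    rintro ⟨x, y⟩ ⟨x', y'⟩ he
    have he' : (x : G) * (d * (y : G) * d⁻¹) = x' * (d * (y' : G) * d⁻¹) := congrArg Subtype.val he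
    have h1 : d * ((y : G) * (y' : G)⁻¹) * d⁻¹ = (x : G)⁻¹ * x' := by
      calc d * ((y : G) * (y' : G)⁻¹) * d⁻¹
          = (x : G)⁻¹ * ((x : G) * (d * (y : G) * d⁻¹)) * (d * (y' : G) * d⁻¹)⁻¹ := by group
        _ = _ := by rw [he']; group
    have h2 := hinjY _ (Y.mul_mem (hXY y.2) (Y.inv_mem (hXY y'.2))) _
      (Y.mul_mem (Y.inv_mem (hXY x.2)) (hXY x'.2)) h1
    have hy : y = y' := Subtype.ext (mul_inv_eq_one.1 h2)
    subst hy
    exact Prod.ext (Subtype.ext (mul_right_cancel he')) rfl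
  have hFF : Nat.card Ft * Nat.card Ft ≤ Nat.card F :=
    hprod F Ft hFtY (PLocal.fixOn_anti hA0A) PLocal.fixOn_le
      fun x hx => hdF x (PLocal.fixOn_anti hA0A hx)
  -- the offender inequality
  have hmeas : ∀ B : Subgroup G, B ≤ A →
      Nat.card B * Nat.card (PLocal.fixOn W B) ≤ Nat.card A * Nat.card Ft := by
    intro B hB
    have hE : Cfsg.IsElementaryAbelian 2 (B ⊔ PLocal.fixOn W B) :=
      PGroups.elemAb_sup (PGroups.elemAb_mono hAe hB) (PGroups.elemAb_mono hWe PLocal.fixOn_le)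
        fun b hb v hv => (PLocal.mem_fixOn.1 hv).2 b hb
    have hWK : W ≤ K := h.wOf_le_omega.trans ((PLocal.omegaCenterOf_le _).trans core_le)
    have hle : B ⊔ PLocal.fixOn W B ≤ K ⊔ jT T :=
      sup_le ((hB.trans hAJ).trans le_sup_right) ((PLocal.fixOn_le.trans hWK).trans le_sup_left)
    have h1 := h.bound A hA _ hle hE
    have hn : B ≤ Subgroup.normalizer (PLocal.fixOn W B : Set G) := fun b hb =>
      Subgroup.centralizer_le_normalizer _ (Subgroup.mem_centralizer_iff.2 fun v hv =>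
        ((PLocal.mem_fixOn.1 hv).2 b hb).symm)
    rw [← PLocal.card_sup_mul_card_inf hn]
    refine Nat.mul_le_mul h1 (Subgroup.card_le_of_le fun x hx => PLocal.mem_fixOn.2 ⟨hx.2.1, fun a ha => ?_⟩)
    exact PGroups.elemAb_comm hAe ha (hB hx.1)
  have hWp : IsPGroup 2 W := PGroups.elemAb_isPGroup hWe
  have hFtne : Ft ≠ ⊥ :=
    PLocal.fixOn_ne_bot hAW (PLocal.pActsOn_of_isPGroup (PGroups.elemAb_isPGroup hAe)) hWp hW
  have hf2 : 2 ≤ Nat.card Ft := by
    have h1 : Nat.card Ft ≠ 1 := fun e => hFtne (Subgroup.card_eq_one.1 e)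
    have h2 : 0 < Nat.card Ft := Nat.card_pos
    omega
  have hf : Nat.card Ft = 2 := by
    have h1 := hmeas A0 hA0A
    rw [← hF] at h1
    have h2 : Nat.card A0 * (Nat.card Ft * Nat.card Ft) ≤ 2 * Nat.card A0 * Nat.card Ft :=
      ((Nat.mul_le_mul_left _ hFF).trans h1).trans (Nat.mul_le_mul_right _ hA0card)
    have h4 : Nat.card Ft ≤ 2 := by
      have h5 : Nat.card A0 * Nat.card Ft * Nat.card Ft ≤ Nat.card A0 * Nat.card Ft * 2 := by
        calc Nat.card A0 * Nat.card Ft * Nat.card Ft = Nat.card A0 * (Nat.card Ft * Nat.card Ft) := by ring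
          _ ≤ _ := h2
          _ = _ := by ring
      exact Nat.le_of_mul_le_mul_left h5 (Nat.mul_pos (Nat.card_pos (α := A0)) (Nat.card_pos (α := Ft)))
    omega
  obtain ⟨z, hz, hz1⟩ := (Subgroup.bot_or_exists_ne_one Ft).resolve_left hFtne
  have hFtz : ∀ y ∈ Ft, y = 1 ∨ y = z := by
    intro y hy
    by_contra hcon
    push Not at hcon
    classical
    have : 3 ≤ Nat.card Ft := by
      haveI := Fintype.ofFinite Ft
      rw [Nat.card_eq_fintype_card]
      have hs : ({1, ⟨z, hz⟩, ⟨y, hy⟩} : Finset Ft).card = 3 :=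
        Finset.card_eq_three.2 ⟨1, ⟨z, hz⟩, ⟨y, hy⟩, fun e => hz1 (congrArg Subtype.val e).symm,
          fun e => hcon.1 (congrArg Subtype.val e).symm, fun e => hcon.2 (congrArg Subtype.val e).symm, rfl⟩
      exact hs ▸ Finset.card_le_univ _
    omega
  -- `|W| ≤ |Y|²`
  have hYW : Nat.card W ≤ Nat.card Y * Nat.card Y := by
    have h1 := PLocal.card_eq_fix_mul_range hWe.1 (hAW htA)
    rw [← hY] at h1
    rw [h1]
    refine Nat.mul_le_mul_left _ (Subgroup.card_le_of_le fun x hx => ?_)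
    obtain ⟨v, hv, rfl⟩ := (PLocal.mem_commRange hWe.1 (hAW htA)).1 hx
    refine hYmem.2 ⟨PLocal.commutatorElement_mem (hAW htA) hv, ?_⟩
    have htt : t * t = 1 := by rw [← pow_two]; exact hAe.2 t htA
    have hv' : v⁻¹ = v := inv_eq_of_mul_eq_one_right (h.wOf_sq v hv)
    have htv : t * v * t⁻¹ ∈ W := (Subgroup.mem_normalizer_iff.1 (hAW htA) v).1 hv
    have ti : t⁻¹ = t := inv_eq_of_mul_eq_one_right htt
    have hw : ⁅v, t⁆ = v * (t * v * t⁻¹) := by
      rw [commutatorElement_def, hv']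
      group
    have hfix : t * ⁅v, t⁆ * t⁻¹ = ⁅v, t⁆ := by
      rw [hw]
      calc t * (v * (t * v * t⁻¹)) * t⁻¹ = (t * v * t⁻¹) * ((t * t) * v * (t * t)⁻¹) := by group
        _ = (t * v * t⁻¹) * v := by rw [htt]; group
        _ = _ := PGroups.elemAb_comm hWe htv hv
    exact mul_inv_eq_iff_eq_mul.1 hfix
  have hYY : Nat.card Y * Nat.card Y ≤ Nat.card W :=
    hprod W Y le_rfl PLocal.fixOn_le le_rfl fun x hx => hdW x (hYmem.1 hx).1
  -- `A₀` on `Y`
  have hA0Y : A0 ≤ Subgroup.normalizer (Y : Set G) := by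
    refine Subgroup.le_normalizer_iff.2 fun a ha y hy => ?_
    obtain ⟨hyW, hty⟩ := hYmem.1 hy
    refine hYmem.2 ⟨(Subgroup.mem_normalizer_iff.1 (hAW (hA0A ha)) y).1 hyW, ?_⟩
    have e := PGroups.elemAb_comm hAe htA (hA0A ha)
    have e2 : Commute t a := e
    exact ((e2.mul_right (hty : Commute t y)).mul_right e2.inv_right).eq
  have hbnd := card_le_of_one_fix (B := A0) (Y := Y) (PGroups.elemAb_mono hWe PLocal.fixOn_le)
    ((PGroups.elemAb_isPGroup hAe).to_le hA0A) hA0Y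
    (fun a ha b hb => PGroups.elemAb_comm hAe (hA0A ha) (hA0A hb)) (hFtY hz) hz1
    (fun y hy hya => hFtz y (PLocal.mem_fixOn.2 ⟨(hYmem.1 hy).1, fun a ha => by
      rcases hsplit2 a ha with h0 | h0
      · exact hya a h0
      · have h1 := hya _ h0
        have h2 := (hYmem.1 hy).2
        have htt : t * t = 1 := by rw [← pow_two]; exact hAe.2 t htA
        have e : a = a * t * t := by rw [mul_assoc, htt, mul_one]
        rw [e]
        exact (Commute.mul_left (h1 : Commute (a * t) y) (h2 : Commute t y)).eq⟩))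
    (fun b hb => (PLocal.mem_fixOn.1 hz).2 b (hA0A hb))
  -- the kernel centralises `W`
  set C := A0 ⊓ Subgroup.centralizer (Y : Set G)
  have hCW : C ≤ Subgroup.centralizer (W : Set G) := by
    have hWeq : W ≤ Subgroup.centralizer (C : Set G) := by
      have hdY : Y.map (MulAut.conj d).toMonoidHom ≤ W := by
        rintro _ ⟨y, hy, rfl⟩; exact hdW y (hYmem.1 hy).1
      set W' := Y ⊔ Y.map (MulAut.conj d).toMonoidHom
      have hW' : W' = W := by
        refine Subgroup.eq_of_le_of_card_ge (sup_le PLocal.fixOn_le hdY) (hYW.trans ?_)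
        exact hprod W' Y le_rfl le_sup_left (sup_le PLocal.fixOn_le hdY)
          fun x hx => Subgroup.mem_sup_right ⟨x, hx, rfl⟩
      rw [← hW']
      refine sup_le (Subgroup.le_centralizer_iff.1 inf_le_right) ?_
      rintro _ ⟨y, hy, rfl⟩
      refine Subgroup.mem_centralizer_iff.2 fun a ha => ?_
      obtain ⟨q, hq, hqa⟩ := ha.1.2
      have hay : a * y * a⁻¹ = y := by
        rw [← Subgroup.mem_centralizer_iff.1 ha.2 y hy, mul_inv_cancel_right]
      have hyW := (hYmem.1 hy).1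
      have h1 : a * (d * y * d⁻¹) * a⁻¹ = d * y * d⁻¹ := by
        calc a * (d * y * d⁻¹) * a⁻¹ = (a * d * a⁻¹) * (a * y * a⁻¹) * (a * d * a⁻¹)⁻¹ := by group
          _ = d * (q * y) * q⁻¹ * d⁻¹ := by rw [hqa, hay]; group
          _ = _ := by rw [hQW q hq y hyW]; group
      exact mul_inv_eq_iff_eq_mul.1 h1
    exact Subgroup.le_centralizer_iff.1 hWeq
  have hCmeas := hmeas C (inf_le_left.trans hA0A)
  rw [PLocal.fixOn_eq_self_iff.2 hCW, hf] at hCmeas
  have hC0 : 0 < Nat.card C := Nat.card_pos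
  have hY2 : Nat.card Y ≤ 2 := by
    have h1 : Nat.card C * (Nat.card Y * Nat.card Y) * 2 ≤ 4 * (Nat.card C * Nat.card Y) := by
      calc Nat.card C * (Nat.card Y * Nat.card Y) * 2 ≤ Nat.card C * Nat.card W * 2 :=
            Nat.mul_le_mul_right _ (Nat.mul_le_mul_left _ hYY)
        _ ≤ Nat.card A * 2 * 2 := Nat.mul_le_mul_right _ hCmeas
        _ ≤ 2 * Nat.card A0 * 2 * 2 := Nat.mul_le_mul_right _ (Nat.mul_le_mul_right _ hA0card)
        _ = 4 * (Nat.card A0 * 2) := by ring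
        _ ≤ _ := Nat.mul_le_mul_left 4 hbnd
    have h2 : 0 < Nat.card Y := Nat.card_pos
    nlinarith [Nat.mul_pos hC0 h2]
  have hY2' : Nat.card Y = 2 := le_antisymm hY2 (hf ▸ Subgroup.card_le_of_le hFtY)
  rw [hY2'] at hYW hYY
  omega

end PreComp

end Cfsg.Agent.Lib.LAEven56.JComp
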