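import Cfsg.Agent.Lib.PLocal.OffenderStructure
import Cfsg.Agent.Lib.PGroups.Thompson
import Cfsg.Agent.Lib.PLocal.Thompson

/-!
# The image of `J(T)^Y` in a faithful action with offenders: a product of `S₃`'s

Owner: helper56. Stated for an abstract homomorphism `φ : Y → Γ` with image the acting group `H`.
-/

set_option autoImplicit false
set_option linter.style.haveILetI false
set_option linter.unusedSectionVars false

open Cfsg
open scoped commutatorElement

namespace Cfsg.Agent.Lib.LAEven56.JComp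

open Cfsg.Agent.Lib

/-- A subgroup of order three, generated by any nontrivial element. -/
theorem eq_zpowers_of_card_three {H : Type*} [Group H] {R : Subgroup H} (h : Nat.card R = 3) {r : H}
    (hr : r ∈ R) (hr1 : r ≠ 1) : R = Subgroup.zpowers r ∧ r ^ 3 = 1 := by
  haveI : Finite R := Nat.finite_of_card_ne_zero (by omega)
  haveI : Fact (Nat.Prime 3) := ⟨by norm_num⟩
  have h3 : (⟨r, hr⟩ : R) ^ 3 = 1 := h ▸ pow_card_eq_one'
  have hr3 : r ^ 3 = 1 := congrArg Subtype.val h3
  refine ⟨(Subgroup.eq_of_le_of_card_ge (Subgroup.zpowers_le.2 hr) ?_).symm, hr3⟩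
  rw [Nat.card_zpowers, orderOf_eq_prime hr3 hr1, h]

universe u v

variable {Y : Type u} [Group Y] [Finite Y] {Γ : Type v} [Group Γ] [Finite Γ]

/-- What the offender theory gives for the image of `J(T)^Y`. -/
structure ImageData (φ : Y →* Γ) (J N : Subgroup Y) where
  ι : Type v
  fin : Finite ι
  b : ι → Y
  R : ι → Subgroup Γ
  b_mem : ∀ i, b i ∈ J
  gen : J.map φ ≤ (Subgroup.closure (Set.range b)).map φ
  card : ∀ i, Nat.card (R i) = 3
  inv : ∀ i, ∀ r ∈ R i, φ (b i) * r * (φ (b i))⁻¹ = r⁻¹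
  cent : ∀ i j, i ≠ j → ∀ r ∈ R j, φ (b i) * r = r * φ (b i)
  Rcomm : ∀ i j, i ≠ j → ∀ r ∈ R i, ∀ s ∈ R j, r * s = s * r
  comm : ∀ x ∈ J, ∀ y ∈ J, φ x * φ y = φ y * φ x
  image : N.map φ = (⨆ i, R i) ⊔ J.map φ

theorem exists_imageData {V H Qh : Subgroup Γ} (hS : PLocal.OffenderSetup 2 V H Qh) (φ : Y →* Γ)
    (hrange : φ.range = H) (T : Sylow 2 Y)
    (hmax : ∀ A ∈ PGroups.maxElemAbIn 2 (T : Subgroup Y), Cfsg.IsBestOffenderOn 2 V (A.map φ)) :
    Nonempty (ImageData φ (Cfsg.thompsonSubgroupOf 2 (T : Subgroup Y))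
      (Subgroup.normalClosure (Cfsg.thompsonSubgroupOf 2 (T : Subgroup Y) : Set Y))) := by
  haveI : Fact (Nat.Prime 2) := ⟨Nat.prime_two⟩
  set J := Cfsg.thompsonSubgroupOf 2 (T : Subgroup Y) with hJdef
  have hJT : J ≤ (T : Subgroup Y) := PGroups.thompsonSubgroupOf_le 2 _
  set N := Subgroup.normalClosure (J : Set Y) with hNdef
  have hJN : J ≤ N := Subgroup.subset_normalClosure
  haveI hNn : N.Normal := Subgroup.normalClosure_normal
  have hφH : ∀ y, φ y ∈ H := fun y => hrange ▸ ⟨y, rfl⟩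
  have hφlift : ∀ x ∈ H, ∃ y, φ y = x := fun x hx => by rwa [← hrange] at hx
  set Jb := J.map φ with hJb
  have hJbp : IsPGroup 2 Jb := (T.isPGroup'.to_le hJT).map φ
  let ι := {B : Subgroup Γ // PLocal.IsTransv 2 V H B ∧ B ≤ Jb}
  have hJgen : Jb ≤ ⨆ i : ι, (i : Subgroup Γ) := by
    refine le_of_eq_of_le (show Jb = (sSup (PGroups.maxElemAbIn 2 (T : Subgroup Y))).map φ by
      rw [hJb, hJdef, PGroups.thompsonSubgroupOf_eq]) ?_
    rw [sSup_eq_iSup', Subgroup.map_iSup]
    refine iSup_le fun A => ?_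
    have hAH : (A : Subgroup Y).map φ ≤ H := by
      rintro _ ⟨a, -, rfl⟩; exact hφH a
    obtain ⟨k, B, hB, -, hsup⟩ := PLocal.exists_decomposition hS (hmax A A.2) hAH
    rw [← hsup]
    exact iSup_le fun j => le_iSup_of_le (⟨B j, (hB j).2, (hB j).1.trans
      (Subgroup.map_mono (PGroups.le_thompsonSubgroupOf A.2))⟩ : ι) le_rfl
  have hbex : ∀ i : ι, ∃ y ∈ J, φ y ≠ 1 ∧ (i : Subgroup Γ) = Subgroup.zpowers (φ y) := by
    intro i
    obtain ⟨x, hx, hx1⟩ := (Subgroup.bot_or_exists_ne_one _).resolve_left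
      (PLocal.isTransv_ne_bot i.2.1)
    obtain ⟨y, hy, rfl⟩ := i.2.2 hx
    exact ⟨y, hy, hx1, (PLocal.isTransv_eq_zpowers i.2.1 hx hx1).symm⟩
  choose b hbJ hb1 hbB using hbex
  have hbmem : ∀ i : ι, φ (b i) ∈ (i : Subgroup Γ) := fun i => by
    rw [hbB i]; exact Subgroup.mem_zpowers _
  let R : ι → Subgroup Γ := fun i => ⁅Qh, (i : Subgroup Γ)⁆
  have hdich : ∀ i j : ι, i ≠ j →
      ⁅PLocal.offE Qh (i : Subgroup Γ), PLocal.offE Qh (j : Subgroup Γ)⁆ = ⊥ := by
    intro i j hij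
    rcases PLocal.dichotomy hS i.2.1 j.2.1 with he | ⟨hc, -, -⟩
    · exfalso
      have hP : IsPGroup 2 ((i : Subgroup Γ) ⊔ (j : Subgroup Γ) : Subgroup Γ) :=
        hJbp.to_le (sup_le i.2.2 j.2.2)
      have hjle : (j : Subgroup Γ) ≤ (i : Subgroup Γ) ⊔ Qh :=
        (le_sup_right.trans he.le).trans (PLocal.offE_le_sup hS i.2.1)
      have h1 := PLocal.pGroup_eq_of_le_sup hS i.2.1 hP le_sup_left (sup_le le_sup_left hjle)
      refine hij (Subtype.ext (Subgroup.eq_of_le_of_card_ge (le_sup_right.trans h1.le) ?_).symm)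
      rw [i.2.1.2.1, j.2.1.2.1]
    · exact hc
  have hcomm2 : ∀ i j : ι, i ≠ j → ∀ x ∈ PLocal.offE Qh (i : Subgroup Γ),
      ∀ y ∈ PLocal.offE Qh (j : Subgroup Γ), y * x = x * y := fun i j hij x hx y hy =>
    Subgroup.mem_centralizer_iff.1 (Subgroup.commutator_eq_bot_iff_le_centralizer.1 (hdich i j hij) hx)
      y hy
  have hRcard : ∀ i : ι, Nat.card (R i) = 3 := fun i =>
    ((PLocal.card_R hS i.2.1).resolve_right fun h => by simp at h).2
  have hinv : ∀ i : ι, ∀ r ∈ R i, φ (b i) * r * (φ (b i))⁻¹ = r⁻¹ := by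
    intro i r hr
    have hbn : φ (b i) ∈ Subgroup.normalizer ((R i : Subgroup Γ) : Set Γ) :=
      Subgroup.normalizer_commutator_ge_right Qh _ (hbmem i)
    rcases eq_or_ne r 1 with rfl | hr1
    · simp
    obtain ⟨hgen, hr3⟩ := eq_zpowers_of_card_three (hRcard i) hr hr1
    have h1 : φ (b i) * r * (φ (b i))⁻¹ ∈ R i := (Subgroup.mem_normalizer_iff.1 hbn r).1 hr
    rw [hgen] at h1
    obtain ⟨k, hk⟩ := h1
    have hk' : r ^ k = φ (b i) * r * (φ (b i))⁻¹ := hk
    have hr3' : r ^ (3 : ℤ) = 1 := by exact_mod_cast hr3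
    have hk3 : k % 3 = 0 ∨ k % 3 = 1 ∨ k % 3 = 2 := by omega
    have hsplit : r ^ k = r ^ (k % 3) := by
      conv_lhs => rw [← Int.emod_add_mul_ediv k 3]
      rw [zpow_add, zpow_mul, hr3', one_zpow, mul_one]
    rcases hk3 with h3 | h3 | h3
    · exfalso
      rw [hsplit, h3, zpow_zero] at hk'
      exact hr1 (by simpa using (mul_inv_eq_one.1 hk'.symm))
    · exfalso
      rw [hsplit, h3, zpow_one] at hk'
      have hcr : φ (b i) * r = r * φ (b i) := mul_inv_eq_iff_eq_mul.1 hk'.symm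
      obtain ⟨B', P, he, -⟩ := PLocal.exists_pair hS i.2.1
      refine P.not_pGroup ?_
      have hab : PLocal.offE Qh (i : Subgroup Γ) ≤
          Subgroup.centralizer (((i : Subgroup Γ)) : Set Γ) := by
        refine sup_le ?_ ?_
        · change R i ≤ _
          rw [hgen, Subgroup.zpowers_le, hbB i]
          refine Subgroup.mem_centralizer_iff.2 ?_
          rintro _ ⟨m, rfl⟩
          exact (Commute.zpow_left (show Commute (φ (b i)) r from hcr) m).eq
        · rw [hbB i]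
          exact Subgroup.le_centralizer_iff_isMulCommutative.2 inferInstance
      have hBc : B' ≤ Subgroup.centralizer (((i : Subgroup Γ)) : Set Γ) :=
        le_trans (le_of_le_of_eq le_sup_right he.symm) hab
      exact (PGroups.elemAb_isPGroup (PGroups.elemAb_of_card_eq_prime P.left.2.1)).to_sup_of_normal_right'
        (PGroups.elemAb_isPGroup (PGroups.elemAb_of_card_eq_prime P.right.2.1))
        ((Subgroup.le_centralizer_iff.1 hBc).trans (Subgroup.centralizer_le_normalizer _))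
    · rw [← hk', hsplit, h3]
      refine eq_inv_of_mul_eq_one_left ?_
      rw [zpow_two, ← pow_two, ← pow_succ, hr3]
  have hJc : ∀ x ∈ J, ∀ y ∈ J, φ x * φ y = φ y * φ x := by
    have hJbc : Jb ≤ Subgroup.centralizer (Jb : Set Γ) := by
      refine hJgen.trans (iSup_le fun i => ?_)
      rw [Subgroup.le_centralizer_iff]
      refine hJgen.trans (iSup_le fun j => ?_)
      intro w hw
      refine Subgroup.mem_centralizer_iff.2 fun z hz => ?_
      rcases eq_or_ne i j with rfl | hij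
      · rw [SetLike.mem_coe, hbB i] at hz
        rw [hbB i] at hw
        obtain ⟨k, rfl⟩ := hw
        obtain ⟨l, rfl⟩ := hz
        exact (Commute.zpow_zpow (Commute.refl _) l k).eq
      · exact (hcomm2 i j hij z (Subgroup.mem_sup_right hz) w (Subgroup.mem_sup_right hw)).symm
    intro x hx y hy
    exact Subgroup.mem_centralizer_iff.1 (hJbc ⟨y, hy, rfl⟩) _ ⟨x, hx, rfl⟩
  refine ⟨⟨ι, inferInstance, b, R, hbJ, ?_, hRcard, hinv, ?_, ?_, hJc, ?_⟩⟩
  · refine hJgen.trans (iSup_le fun i => ?_)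
    rw [hbB i, Subgroup.zpowers_le]
    exact ⟨b i, Subgroup.subset_closure ⟨i, rfl⟩, rfl⟩
  · intro i j hij r hr
    exact (hcomm2 i j hij _ (Subgroup.mem_sup_right (hbmem i)) r (Subgroup.mem_sup_left hr)).symm
  · intro i j hij r hr s hs
    exact (hcomm2 i j hij r (Subgroup.mem_sup_left hr) s (Subgroup.mem_sup_left hs)).symm
  refine le_antisymm ?_ (sup_le (iSup_le fun i => ?_) (Subgroup.map_mono hJN))
  swap
  · change ⁅Qh, (i : Subgroup Γ)⁆ ≤ _
    rw [Subgroup.commutator_le]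
    intro q hq x hx
    obtain ⟨y, rfl⟩ := hφlift q (hS.Q_le hq)
    obtain ⟨w, hw, rfl⟩ := i.2.2 hx
    refine ⟨⁅y, w⁆, ?_, map_commutatorElement φ y w⟩
    exact Subgroup.commutator_le_right ⊤ N
      (Subgroup.commutator_mem_commutator (Subgroup.mem_top y) (hJN hw))
  set H0 := (⨆ i, R i) ⊔ Jb with hH0
  have hEH0 : ∀ i : ι, PLocal.offE Qh (i : Subgroup Γ) ≤ H0 := fun i =>
    sup_le ((le_iSup R i).trans le_sup_left) (i.2.2.trans le_sup_right)
  have hH0E : H0 ≤ ⨆ i : ι, PLocal.offE Qh (i : Subgroup Γ) :=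
    sup_le (iSup_mono fun i => le_sup_left) (hJgen.trans (iSup_mono fun i => le_sup_right))
  have htr : ∀ B', PLocal.IsTransv 2 V H B' → B' ≤ Subgroup.normalizer (H0 : Set Γ) := by
    intro B' hB'
    by_cases hex : ∃ i : ι, PLocal.offE Qh B' = PLocal.offE Qh (i : Subgroup Γ)
    · obtain ⟨i, hi⟩ := hex
      exact ((le_sup_right.trans hi.le).trans (hEH0 i)).trans Subgroup.le_normalizer
    · refine le_trans ?_ (Subgroup.centralizer_le_normalizer _)
      rw [Subgroup.le_centralizer_iff]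
      refine hH0E.trans (iSup_le fun i => ?_)
      rcases PLocal.dichotomy hS i.2.1 hB' with he | ⟨hc, -, -⟩
      · exact absurd ⟨i, he⟩ hex
      · exact (Subgroup.commutator_eq_bot_iff_le_centralizer.1 hc).trans
          (Subgroup.centralizer_le (SetLike.coe_subset_coe.2 le_sup_right))
  set AllT := ⨆ B : {B : Subgroup Γ // PLocal.IsTransv 2 V H B}, (B : Subgroup Γ) with hAllT
  have hAll : AllT ≤ Subgroup.normalizer (H0 : Set Γ) := iSup_le fun B => htr B B.2
  have hNAll : N.map φ ≤ AllT := by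
    haveI : (AllT.comap φ).Normal := by
      refine ⟨fun x hx y => ?_⟩
      change φ (y * x * y⁻¹) ∈ AllT
      rw [map_mul, map_mul, map_inv]
      have hmap : AllT.map (MulAut.conj (φ y)).toMonoidHom ≤ AllT := by
        rw [hAllT, Subgroup.map_iSup]
        exact iSup_le fun B => le_iSup_of_le
          (⟨_, PLocal.isTransv_conj hS B.2 (hφH y)⟩ : {B : Subgroup Γ // PLocal.IsTransv 2 V H B}) le_rfl
      exact hmap ⟨φ x, hx, rfl⟩
    rw [Subgroup.map_le_iff_le_comap]
    refine Subgroup.normalClosure_le_normal fun x hx => ?_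
    exact (hJgen.trans (iSup_le fun i : ι => le_iSup_of_le
      (⟨_, i.2.1⟩ : {B : Subgroup Γ // PLocal.IsTransv 2 V H B}) le_rfl)) ⟨x, hx, rfl⟩
  haveI : (H0.comap φ).Normal := by
    refine Subgroup.normalizer_eq_top_iff.1 (top_le_iff.1 ?_)
    rw [← PLocal.normalizer_inf_sup_eq_top T N]
    refine sup_le ?_ ?_
    · intro m hm
      have hmJ : m ∈ Subgroup.normalizer (J : Set Y) := by
        have h1 := PGroups.normalizer_le_normalizer_thompson (p := 2) _ hm
        rwa [PGroups.thompsonSubgroupOf_eq_of_le inf_le_left (le_inf hJT hJN)] at h1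
      have hJbm : Jb.map (MulAut.conj (φ m)).toMonoidHom = Jb :=
        Subgroup.mem_normalizer_iff_map_conj_eq.1 (Subgroup.le_normalizer_map φ ⟨m, hmJ, rfl⟩)
      have hmH : φ m ∈ Subgroup.normalizer (H0 : Set Γ) := by
        rw [Subgroup.mem_normalizer_iff_map_conj_eq]
        refine Subgroup.eq_of_le_of_card_ge ?_
          (le_of_eq (Subgroup.card_map_of_injective (MulAut.conj (φ m)).injective).symm)
        change H0.map (MulAut.conj (φ m)).toMonoidHom ≤ H0
        have hQm : Qh.map (MulAut.conj (φ m)).toMonoidHom = Qh :=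
          Subgroup.mem_normalizer_iff_map_conj_eq.1 (hS.Q_norm (hφH m))
        rw [hH0, Subgroup.map_sup, Subgroup.map_iSup, hJbm]
        refine sup_le (iSup_le fun i => le_trans ?_ le_sup_left) le_sup_right
        refine le_iSup_of_le (⟨_, PLocal.isTransv_conj hS i.2.1 (hφH m),
          (Subgroup.map_mono i.2.2).trans hJbm.le⟩ : ι) ?_
        change (⁅Qh, (i : Subgroup Γ)⁆ : Subgroup Γ).map _ ≤ ⁅Qh, _⁆
        rw [Subgroup.map_commutator, hQm]
      exact Subgroup.le_normalizer_comap φ hmH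
    · intro n hn
      exact Subgroup.le_normalizer_comap φ (hAll (hNAll ⟨n, hn, rfl⟩))
  rw [Subgroup.map_le_iff_le_comap]
  refine Subgroup.normalClosure_le_normal fun x hx => ?_
  exact (le_sup_right : Jb ≤ H0) ⟨x, hx, rfl⟩

end Cfsg.Agent.Lib.LAEven56.JComp
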