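import Cfsg.Agent.Lib.PLocal.ActionQuotient
import Cfsg.Agent.Lib.LAEven56.JComp.TransvImage
import Cfsg.Agent.Lib.LAEven56.JComp.CentralExt
import Cfsg.Agent.Lib.CharP.Basic
import Cfsg.Agent.Lib.CharP.Irreducible
import Cfsg.Agent.Lib.Balance.Permute

/-!
# Failure of factorisation in a solvable group of characteristic 2

`Y` solvable, `C(O₂Y) ≤ O₂Y`, `J(T) ≰ O₂(Y)` and `C(Ω₁Z(O₂Y)) ≤ N(T)`. Then `J(T)^Y O₂(Y) / O₂(Y)` is a direct
product of `S₃`'s.

Owner: helper56.
-/

set_option autoImplicit false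
set_option linter.style.haveILetI false

open Cfsg
open scoped commutatorElement

namespace Cfsg.Agent.Lib.LAEven56.JComp

open Cfsg.Agent.Lib

universe u

variable {Y : Type u} [Group Y]

/-- The hypotheses on the abstract local subgroup. -/
structure LocalHyp (T : Sylow 2 Y) : Prop where
  solv : Group.IsSolvable Y
  charTwo : Subgroup.centralizer (Cfsg.pCore 2 Y : Set Y) ≤ Cfsg.pCore 2 Y
  notLe : ¬ Cfsg.thompsonSubgroupOf 2 (T : Subgroup Y) ≤ Cfsg.pCore 2 Y
  cent : Subgroup.centralizer (PLocal.omegaCenterOf 2 (Cfsg.pCore 2 Y) : Set Y) ≤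
    Subgroup.normalizer ((T : Subgroup Y) : Set Y)

instance omegaCenterOf_pCore_normal :
    (PLocal.omegaCenterOf 2 (Cfsg.pCore 2 Y) : Subgroup Y).Normal := by
  refine ⟨fun x hx g => ?_⟩
  have h := PLocal.map_omegaCenterOf (p := 2) (MulAut.conj g).toMonoidHom (MulAut.conj g).injective
    (Cfsg.pCore 2 Y)
  rw [Cores.map_pCore_equiv (MulAut.conj g)] at h
  rw [← h]
  exact ⟨x, hx, rfl⟩

/-- The pieces of `J(T)^Y O₂(Y) / O₂(Y)`. -/
structure Pieces (T : Sylow 2 Y) where
  ι : Type u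
  fin : Finite ι
  b : ι → Y
  g : ι → Y
  b_mem : ∀ i, b i ∈ Cfsg.thompsonSubgroupOf 2 (T : Subgroup Y)
  g_not : ∀ i, g i ∉ Cfsg.pCore 2 Y
  g_cube : ∀ i, g i ^ 3 ∈ Cfsg.pCore 2 Y
  inv : ∀ i, b i * g i * (b i)⁻¹ * g i ∈ Cfsg.pCore 2 Y
  fix : ∀ i j, j ≠ i → b i * g j * (b i)⁻¹ * (g j)⁻¹ ∈ Cfsg.pCore 2 Y
  stable : ∀ i, ∀ c ∈ Cfsg.thompsonSubgroupOf 2 (T : Subgroup Y),
    c * g i * c⁻¹ ∈ Subgroup.zpowers (g i) ⊔ Cfsg.pCore 2 Y
  normal : (Cfsg.pCore 2 Y ⊔ Subgroup.closure (Set.range g)).Normal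
  abelian : ⁅Cfsg.pCore 2 Y ⊔ Subgroup.closure (Set.range g),
    Cfsg.pCore 2 Y ⊔ Subgroup.closure (Set.range g)⁆ ≤ Cfsg.pCore 2 Y
  sup_normal : (Cfsg.pCore 2 Y ⊔ Subgroup.closure (Set.range g) ⊔
    Cfsg.thompsonSubgroupOf 2 (T : Subgroup Y)).Normal
  cube : ∀ x ∈ Cfsg.pCore 2 Y ⊔ Subgroup.closure (Set.range g), x ^ 3 ∈ Cfsg.pCore 2 Y
  cent : ∀ x ∈ Cfsg.thompsonSubgroupOf 2 (T : Subgroup Y),
    (∀ r ∈ Cfsg.pCore 2 Y ⊔ Subgroup.closure (Set.range g), ⁅x, r⁆ ∈ Cfsg.pCore 2 Y) →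
      x ∈ Cfsg.pCore 2 Y
  line : ∀ x ∈ Cfsg.pCore 2 Y ⊔ Subgroup.closure (Set.range g), x ∉ Cfsg.pCore 2 Y →
    (∀ c ∈ Cfsg.thompsonSubgroupOf 2 (T : Subgroup Y),
      c * x * c⁻¹ ∈ Subgroup.zpowers x ⊔ Cfsg.pCore 2 Y) →
    ∃ i, Subgroup.zpowers x ⊔ Cfsg.pCore 2 Y = Subgroup.zpowers (g i) ⊔ Cfsg.pCore 2 Y
  coreMax : ∃ A ∈ PGroups.maxElemAbIn 2 (T : Subgroup Y), A ≤ Cfsg.pCore 2 Y

variable [Finite Y] {T : Sylow 2 Y}

theorem mem_of_two_elem {x : Y} {k : ℕ} (hx : x ^ 2 ^ k = 1)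
    (hxT : x ∈ Subgroup.normalizer ((T : Subgroup Y) : Set Y)) : x ∈ (T : Subgroup Y) := by
  have hp : IsPGroup 2 (Subgroup.zpowers x) := CharP.pow_mem_zpowers_isPGroup (k := k) hx
  have h := T.is_maximal' (hp.to_sup_of_normal_right' T.isPGroup' (Subgroup.zpowers_le.2 hxT))
    le_sup_right
  rw [← h]
  exact Subgroup.mem_sup_left (Subgroup.mem_zpowers x)

/-- A normal subgroup normalising `T` meets `T` inside `O₂`. -/
theorem normal_le_normalizer {X : Subgroup Y} [X.Normal]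
    (hX : X ≤ Subgroup.normalizer ((T : Subgroup Y) : Set Y)) :
    (T : Subgroup Y) ⊓ X ≤ Cfsg.pCore 2 Y := by
  have hp : IsPGroup 2 ((T : Subgroup Y) ⊓ X : Subgroup Y) := T.isPGroup'.to_le inf_le_left
  haveI : ((T : Subgroup Y) ⊓ X).Normal := by
    refine ⟨fun x hx y => ⟨?_, Subgroup.Normal.conj_mem inferInstance x hx.2 y⟩⟩
    obtain ⟨k, hk⟩ := isPGroup_iff_pow_pow_eq_one.1 hp ⟨x, hx⟩
    refine mem_of_two_elem (k := k) ?_ (hX (Subgroup.Normal.conj_mem inferInstance x hx.2 y))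
    have hk' : x ^ 2 ^ k = 1 := congrArg Subtype.val hk
    rw [conj_pow, hk', mul_one, mul_inv_cancel]
  exact Cores.le_pCore hp

theorem exists_pieces (h : LocalHyp T) : Nonempty (Pieces T) := by
  haveI := h.solv
  haveI : Fact (Nat.Prime 2) := ⟨Nat.prime_two⟩
  set Q := Cfsg.pCore 2 Y with hQdef
  set V := PLocal.omegaCenterOf 2 Q with hVdef
  haveI : V.Normal := omegaCenterOf_pCore_normal
  have hVe : Cfsg.IsElementaryAbelian 2 V := PLocal.omegaCenterOf_elemAb _
  set C := Subgroup.centralizer (V : Set Y) with hCdef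
  haveI : C.Normal := Subgroup.normal_centralizer
  set J := Cfsg.thompsonSubgroupOf 2 (T : Subgroup Y) with hJdef
  have hJT : J ≤ (T : Subgroup Y) := PGroups.thompsonSubgroupOf_le 2 _
  have hQC : Q ≤ C := PLocal.le_centralizer_omegaCenterOf _
  have hTC : (T : Subgroup Y) ⊓ C ≤ Q := normal_le_normalizer h.cent
  set N := Subgroup.normalClosure (J : Set Y) with hNdef
  have hJN : J ≤ N := Subgroup.subset_normalClosure
  set π := QuotientGroup.mk' Q with hπ
  have hπ1 : ∀ {y : Y}, π y = 1 ↔ y ∈ Q := fun {y} => QuotientGroup.eq_one_iff y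
  -- `[C, N] ≤ O₂`
  have hCN : ∀ c ∈ C, ∀ n ∈ N, π c * π n = π n * π c := by
    haveI : (C.map π).Normal := Subgroup.Normal.map inferInstance _ (QuotientGroup.mk'_surjective Q)
    have hle : N ≤ (Subgroup.centralizer ((C.map π : Subgroup (Y ⧸ Q)) : Set (Y ⧸ Q))).comap π := by
      haveI : ((Subgroup.centralizer ((C.map π : Subgroup (Y ⧸ Q)) : Set (Y ⧸ Q))).comap π).Normal :=
        Subgroup.normal_centralizer.comap π
      refine Subgroup.normalClosure_le_normal fun t ht => ?_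
      rw [SetLike.mem_coe, Subgroup.mem_comap, Subgroup.mem_centralizer_iff]
      rintro _ ⟨c, hc, rfl⟩
      have h1 : c * t * c⁻¹ * t⁻¹ ∈ Q := by
        refine hTC ⟨?_, ?_⟩
        · exact (T : Subgroup Y).mul_mem
            ((Subgroup.mem_normalizer_iff.1 (h.cent hc) t).1 (hJT ht)) ((T : Subgroup Y).inv_mem (hJT ht))
        · have e : c * t * c⁻¹ * t⁻¹ = c * (t * c⁻¹ * t⁻¹) := by group
          rw [e]
          exact C.mul_mem hc (Subgroup.Normal.conj_mem inferInstance _ (C.inv_mem hc) t)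
      have h2 := hπ1.2 h1
      rw [map_mul, map_mul, map_mul, map_inv, map_inv, mul_inv_eq_one, mul_inv_eq_iff_eq_mul] at h2
      exact h2
    intro c hc n hn
    exact Subgroup.mem_centralizer_iff.1 (hle hn) _ ⟨c, hc, rfl⟩
  -- the offender set-up
  have hO : Cfsg.pCore 2 (Y ⧸ C) = ⊥ := by
    set D := (Cfsg.pCore 2 (Y ⧸ C)).comap (QuotientGroup.mk' C) with hD
    haveI : D.Normal := inferInstanceAs ((Cfsg.pCore 2 (Y ⧸ C)).comap (QuotientGroup.mk' C)).Normal
    have hCD : C ≤ D := QuotientGroup.le_comap_mk' C _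
    obtain ⟨k, hk⟩ := IsPGroup.iff_card.1 (Cores.pCore_isPGroup (G := Y ⧸ C) 2)
    have hrel : C.relIndex D = 2 ^ k := by
      have h1 := Subgroup.relIndex_ker (K := D) (QuotientGroup.mk' C)
      rw [QuotientGroup.ker_mk', hD,
        Subgroup.map_comap_eq_self_of_surjective (QuotientGroup.mk'_surjective C), hk] at h1
      exact h1
    have hle := PLocal.le_sup_inf_of_relIndex T hCD hrel
    have hDN : D ≤ Subgroup.normalizer ((T : Subgroup Y) : Set Y) :=
      hle.trans (sup_le h.cent (inf_le_left.trans Subgroup.le_normalizer))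
    have hDC : D ≤ C := hle.trans (sup_le le_rfl ((normal_le_normalizer hDN).trans hQC))
    refine le_bot_iff.1 fun x hx => ?_
    obtain ⟨y, rfl⟩ := QuotientGroup.mk'_surjective C x
    exact (QuotientGroup.eq_one_iff y).2 (hDC hx)
  have hS := PLocal.offenderSetup_act V hVe
    (PSolvable.isPSolvable_quotient (PSolvable.isPSolvable_of_isSolvable) C) hO
  set V' := PLocal.actV V with hV'
  set φ := PLocal.actHom V with hφ
  have hφ1 : ∀ {y : Y}, φ y = 1 ↔ y ∈ C := fun {y} => PLocal.actHom_eq_one_iff V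
  obtain ⟨⟨ι, hfin, b, R, hbJ, hgen, hRcard, hinv, hcent, hRcomm, hJφ, himg⟩⟩ :=
    exists_imageData hS φ (PLocal.actHom_range V) T fun A hA =>
      PLocal.bestOffender_act V (PLocal.bestOffender_of_maxElemAb (PLocal.maxElemAbIn_sylow_subset T hA) hVe)
  have hcoreMax : ∃ A ∈ PGroups.maxElemAbIn 2 (T : Subgroup Y), A ≤ Q := by
    obtain ⟨A, hA⟩ := PGroups.maxElemAbIn_nonempty 2 (T : Subgroup Y)
    have hAY := PLocal.maxElemAbIn_sylow_subset T hA
    have hAH : A.map φ ≤ PLocal.actH V := by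
      rw [← PLocal.actHom_range V]
      exact Subgroup.map_le_range φ A
    have hm := PLocal.bestOffender_meas_eq hS
      (PLocal.bestOffender_act V (PLocal.bestOffender_of_maxElemAb hAY hVe)) hAH
    change Nat.card (A.map φ) * Nat.card (PLocal.fixOn V' (A.map φ)) = Nat.card V' at hm
    rw [PLocal.card_fixOn_act, PLocal.fixOn_eq_inf hAY hVe] at hm
    have hV'c : Nat.card V' = Nat.card V :=
      (Nat.card_congr (MonoidHom.ofInjective (PLocal.actEmb_injective V)).toEquiv).symm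
    have hVC : V ≤ C := fun v hv => Subgroup.mem_centralizer_iff.2 fun w hw => PGroups.elemAb_comm hVe hw hv
    have hE : Cfsg.IsElementaryAbelian 2 (A ⊓ C ⊔ V : Subgroup Y) :=
      PGroups.elemAb_sup (PGroups.elemAb_mono hA.2.1 inf_le_left) hVe fun a ha v hv =>
        (Subgroup.mem_centralizer_iff.1 ha.2 v hv).symm
    have hEQ : A ⊓ C ⊔ V ≤ Q :=
      sup_le ((inf_le_inf_right C hA.1).trans hTC) (PLocal.omegaCenterOf_le Q)
    refine ⟨A ⊓ C ⊔ V, ⟨hEQ.trans (Cores.pCore_le_sylow T), hE, fun B hB hBe => ?_⟩, hEQ⟩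
    refine (hA.2.2 B hB hBe).trans (le_of_eq ?_)
    have h1 := PLocal.card_sup_mul_card_inf
      (show A ⊓ C ≤ Subgroup.normalizer (V : Set Y) by rw [Subgroup.normalizer_eq_top]; exact le_top)
    have h2 : A ⊓ C ⊓ V = V ⊓ A := le_antisymm (fun x hx => ⟨hx.2, hx.1.1⟩)
      (fun x hx => ⟨⟨hx.2, hVC hx.1⟩, hx.1⟩)
    rw [h2, ← hV'c, ← hm] at h1
    have h3 := PLocal.card_map_act_mul V A
    refine Nat.eq_of_mul_eq_mul_right (Nat.card_pos (α := (V ⊓ A : Subgroup Y))) ?_
    rw [h1, ← h3]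
    ring
  -- the hypotheses of the lifting lemma
  set ψ : Y ⧸ Q →* PLocal.actGroup V := QuotientGroup.lift Q φ fun x hx => hφ1.2 (hQC hx)
  have hψ : ∀ y, ψ (π y) = φ y := fun y => QuotientGroup.lift_mk' Q _ y
  set Nf := N.map π with hNf
  set Jf := J.map π with hJf
  haveI : Nf.Normal := Subgroup.Normal.map Subgroup.normalClosure_normal _
    (QuotientGroup.mk'_surjective Q)
  have hJc : ∀ x ∈ J, ∀ y ∈ J, π x * π y = π y * π x := by
    intro x hx y hy
    have h1 : φ (x * y * (y * x)⁻¹) = 1 := by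
      rw [map_mul, map_inv, map_mul, map_mul, hJφ x hx y hy, mul_inv_cancel]
    have h2 : π (x * y * (y * x)⁻¹) = 1 := hπ1.2 (hTC
      ⟨(T : Subgroup Y).mul_mem ((T : Subgroup Y).mul_mem (hJT hx) (hJT hy))
        ((T : Subgroup Y).inv_mem ((T : Subgroup Y).mul_mem (hJT hy) (hJT hx))), hφ1.1 h1⟩)
    rwa [map_mul, map_inv, map_mul, map_mul, mul_inv_eq_one] at h2
  have hJsq : ∀ x ∈ J, π x * π x = 1 := by
    intro x hx
    rw [hJdef, PGroups.thompsonSubgroupOf_eq, sSup_eq_iSup, Subgroup.iSup_eq_closure] at hx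
    have hx' : x ∈ J ∧ π x * π x = 1 := by
      induction hx using Subgroup.closure_induction with
      | mem w hw =>
        simp only [Set.mem_iUnion, SetLike.mem_coe] at hw
        obtain ⟨A, hwA⟩ := hw
        have hA : A ∈ PGroups.maxElemAbIn 2 (T : Subgroup Y) ∨ w = 1 := by
          by_cases hA : A ∈ PGroups.maxElemAbIn 2 (T : Subgroup Y)
          · exact Or.inl hA
          · rw [iSup_neg hA, Subgroup.mem_bot] at hwA
            exact Or.inr hwA
        rcases hA with hA | hw1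
        swap
        · subst hw1
          exact ⟨one_mem _, by simp⟩
        rw [iSup_pos hA] at hwA
        refine ⟨PGroups.le_thompsonSubgroupOf hA hwA, ?_⟩
        rw [← map_mul, ← pow_two, hA.2.1.2 w hwA, map_one]
      | one => exact ⟨one_mem _, by simp⟩
      | mul u v _ _ hu hv =>
        refine ⟨mul_mem hu.1 hv.1, ?_⟩
        have hc : Commute (π v) (π u) := hJc v hv.1 u hu.1
        rw [map_mul]
        calc π u * π v * (π u * π v) = π u * (π v * π u) * π v := by group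
          _ = π u * π u * (π v * π v) := by rw [hc.eq]; group
          _ = 1 := by rw [hu.2, hv.2, one_mul]
      | inv u _ hu =>
        refine ⟨inv_mem hu.1, ?_⟩
        rw [map_inv, ← mul_inv_rev, hu.2, inv_one]
    exact hx'.2
  have hψinj : ∀ x ∈ Jf, ψ x = 1 → x = 1 := by
    rintro _ ⟨x, hx, rfl⟩ h1
    rw [hψ] at h1
    exact hπ1.2 (hTC ⟨hJT hx, hφ1.1 h1⟩)
  have hExt : ExtHyp ψ Nf Jf (fun i => π (b i)) R := by
    refine ⟨Subgroup.map_mono hJN, inferInstance, hψinj, ?_, ?_, ?_, ?_, ?_, fun i => ⟨b i, hbJ i, rfl⟩,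
      hRcard, ?_, ?_, ?_, ?_, ?_, ?_, ?_⟩
    · rintro _ ⟨z, hz, rfl⟩ h1 _ ⟨n, hn, rfl⟩
      rw [hψ] at h1
      exact hCN z (hφ1.1 h1) n hn
    · rintro _ ⟨z, hz, rfl⟩ h1 h2
      rw [hψ] at h1
      have hzC := hφ1.1 h1
      rw [← map_mul] at h2
      obtain ⟨k, hk⟩ := isPGroup_iff_pow_pow_eq_one.1 (Cores.pCore_isPGroup (G := Y) 2)
        ⟨z * z, hπ1.1 h2⟩
      have hk' : (z * z) ^ 2 ^ k = 1 := congrArg Subtype.val hk
      refine hπ1.2 (hTC ⟨mem_of_two_elem (k := k + 1) ?_ (h.cent hzC), hzC⟩)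
      rwa [pow_succ', pow_mul, pow_two]
    · rintro _ ⟨x, hx, rfl⟩ _ ⟨y, hy, rfl⟩
      exact hJc x hx y hy
    · rintro _ ⟨x, hx, rfl⟩
      exact hJsq x hx
    · rintro _ ⟨x, hx, rfl⟩
      obtain ⟨y₀, hy₀, hyx₀⟩ := hgen ⟨x, hx, rfl⟩
      obtain ⟨y, hy, hyx⟩ : ∃ y ∈ Subgroup.closure (Set.range fun i => π (b i)), ψ y = φ x := by
        refine ⟨π y₀, ?_, by rw [hψ, hyx₀]⟩
        have h1 : π y₀ ∈ (Subgroup.closure (Set.range b)).map π := ⟨y₀, hy₀, rfl⟩
        rwa [MonoidHom.map_closure, ← Set.range_comp] at h1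
      have hyJ : y ∈ Jf := (Subgroup.closure_le _).2 (by rintro _ ⟨i, rfl⟩; exact ⟨b i, hbJ i, rfl⟩) hy
      have h1 : π x * y⁻¹ = 1 := hψinj _ (mul_mem ⟨x, hx, rfl⟩ (inv_mem hyJ))
        (by rw [map_mul, map_inv, hyx, hψ, mul_inv_cancel])
      rwa [mul_inv_eq_one.1 h1]
    · intro i r hr
      rw [hψ]
      exact hinv i r hr
    · intro i j hij r hr
      rw [hψ]
      exact hcent i j hij r hr
    · intro i j hij r hr s hs
      exact hRcomm i j hij r hr s hs
    · have e : ψ.comp π = φ := MonoidHom.ext hψ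
      rw [hNf, hJf, Subgroup.map_map, Subgroup.map_map, e]
      exact himg
    · rintro _ ⟨x, hx, rfl⟩ hc
      refine hπ1.2 (hTC ⟨hJT hx, hφ1.1 ?_⟩)
      -- `φ x` spans a normal 2-subgroup
      set Jb := J.map φ with hJb
      have hJbp : IsPGroup 2 Jb := (T.isPGroup'.to_le hJT).map φ
      set H' := PLocal.actH V with hH'
      have hφH : ∀ y, φ y ∈ H' := fun y => by
        rw [hH', ← PLocal.actHom_range V]
        exact ⟨y, rfl⟩
      set D := Jb ⊓ Subgroup.centralizer ((N.map φ : Subgroup _) : Set (PLocal.actGroup V)) with hD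
      have hxD : φ x ∈ D := by
        refine ⟨⟨x, hx, rfl⟩, ?_⟩
        rw [himg]
        refine Subgroup.mem_centralizer_iff.2 fun w hw => ?_
        have hw' : w ∈ Subgroup.centralizer ({φ x} : Set (PLocal.actGroup V)) := by
          suffices hle : (⨆ i, R i) ⊔ J.map φ ≤ Subgroup.centralizer ({φ x} : Set (PLocal.actGroup V)) from
            hle hw
          refine sup_le (iSup_le fun i r hr => ?_) ?_
          · rw [Subgroup.mem_centralizer_singleton_iff]
            have := hc i r hr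
            rw [hψ] at this
            exact this.symm
          · rintro _ ⟨y, hy, rfl⟩
            rw [Subgroup.mem_centralizer_singleton_iff]
            have := congrArg ψ (hJc y hy x hx)
            rwa [map_mul, map_mul, hψ, hψ] at this
        exact (Subgroup.mem_centralizer_singleton_iff.1 hw').trans rfl
      have hDn : H' ≤ Subgroup.normalizer (D : Set (PLocal.actGroup V)) := by
        intro w hw
        rw [hH', ← PLocal.actHom_range V] at hw
        obtain ⟨y, rfl⟩ := hw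
        haveI : N.Normal := Subgroup.normalClosure_normal
        have hy : y ∈ Subgroup.normalizer (((T : Subgroup Y) ⊓ N : Subgroup Y) : Set Y) ⊔ N := by
          rw [PLocal.normalizer_inf_sup_eq_top T N]; trivial
        obtain ⟨m, hm, n, hn, rfl⟩ := Subgroup.mem_sup_of_normal_right.1 hy
        rw [map_mul]
        refine mul_mem ?_ (Subgroup.centralizer_le_normalizer _ (Subgroup.mem_centralizer_iff.2
          fun z hz => (Subgroup.mem_centralizer_iff.1 hz.2 _ ⟨n, hn, rfl⟩).symm))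
        have hmJ : m ∈ Subgroup.normalizer (J : Set Y) := by
          have h1 := PGroups.normalizer_le_normalizer_thompson (p := 2) _ hm
          rwa [PGroups.thompsonSubgroupOf_eq_of_le inf_le_left (le_inf hJT hJN)] at h1
        refine Subgroup.inf_normalizer_le_normalizer_inf ⟨?_, ?_⟩
        · exact Subgroup.le_normalizer_map φ ⟨m, hmJ, rfl⟩
        · refine Balance.normalizer_le_normalizer_centralizer _ (Subgroup.le_normalizer_map φ ⟨m, ?_, rfl⟩)
          exact Subgroup.le_normalizer_of_normal (Subgroup.mem_top m)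
      have hO' : Cfsg.pCore 2 ↥H' = ⊥ := by
        let e : (Y ⧸ C) ≃* ↥H' := MonoidHom.ofInjective SemidirectProduct.inr_injective
        rw [← Cores.map_pCore_equiv e, hO, Subgroup.map_bot]
      haveI : (D.subgroupOf H').Normal := Subgroup.normal_subgroupOf_of_le_normalizer hDn
      have h2 := Cores.le_pCore (p := 2) (N := D.subgroupOf H') ((hJbp.to_le (inf_le_left : D ≤ Jb)).comap_subtype (K := H'))
      rw [hO'] at h2
      exact congrArg Subtype.val (Subgroup.mem_bot.1 (h2 (x := ⟨φ x, hφH x⟩) hxD))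
    · intro K hKn hJK
      rw [hNf, Subgroup.map_le_iff_le_comap]
      haveI : (K.comap π).Normal := hKn.comap π
      exact Subgroup.normalClosure_le_normal fun x hx => hJK ⟨x, hx, rfl⟩
    · haveI : N.Normal := Subgroup.normalClosure_normal
      refine top_le_iff.1 ?_
      rw [← Subgroup.map_top_of_surjective π (QuotientGroup.mk'_surjective Q),
        ← PLocal.normalizer_inf_sup_eq_top T N, Subgroup.map_sup]
      refine sup_le ?_ le_sup_left
      refine le_trans (Subgroup.map_mono fun m hm => ?_) (le_trans (Subgroup.le_normalizer_map π) le_sup_right)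
      have h1 := PGroups.normalizer_le_normalizer_thompson (p := 2) _ hm
      rwa [PGroups.thompsonSubgroupOf_eq_of_le inf_le_left (le_inf hJT hJN)] at h1
  obtain ⟨gf, hg, hgJ, hgab, hgn, hgN, hgc, hgl⟩ := hExt.lift
  choose g hg' using fun i => QuotientGroup.mk'_surjective Q (gf i)
  set R0 := Q ⊔ Subgroup.closure (Set.range g) with hR0
  have hRimg : R0.map π = Subgroup.closure (Set.range gf) := by
    rw [hR0, Subgroup.map_sup, hπ, QuotientGroup.map_mk'_self, bot_sup_eq, MonoidHom.map_closure]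
    congr 1
    rw [← Set.range_comp]
    exact congrArg Set.range (funext hg')
  have hRcomap : R0 = (Subgroup.closure (Set.range gf)).comap π := by
    rw [← hRimg, Subgroup.comap_map_eq, hπ, QuotientGroup.ker_mk', hR0]
    exact (sup_eq_left.2 le_sup_left).symm
  have hzimg : ∀ x, (Subgroup.zpowers x ⊔ Q).map π = Subgroup.zpowers (π x) := fun x => by
    rw [Subgroup.map_sup, MonoidHom.map_zpowers, hπ, QuotientGroup.map_mk'_self, sup_bot_eq]
  have hzmem : ∀ x y, π y ∈ Subgroup.zpowers (π x) → y ∈ Subgroup.zpowers x ⊔ Q := fun x y hy => by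
    rw [← hzimg] at hy
    obtain ⟨w, hw, hwy⟩ := hy
    have h1 : w⁻¹ * y ∈ Q := hπ1.1 (by rw [map_mul, map_inv, hwy, inv_mul_cancel])
    have : y = w * (w⁻¹ * y) := by group
    rw [this]
    exact mul_mem hw (Subgroup.mem_sup_right h1)
  refine ⟨⟨ι, inferInstance, b, g, hbJ, fun i hi => (hg i).2.1 ((hg' i).symm.trans (hπ1.2 hi)), ?_, ?_,
    ?_, ?_, ?_, ?_, ?_, ?_, ?_, ?_, hcoreMax⟩⟩
  · intro i
    rw [← hπ1, map_pow, hg']
    exact (hg i).1
  · intro i
    rw [← hπ1, map_mul, map_mul, map_mul, map_inv, hg', (hg i).2.2.1, inv_mul_cancel]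
  · intro i j hij
    rw [← hπ1, map_mul, map_mul, map_mul, map_inv, map_inv, hg', (hg i).2.2.2 j hij, mul_inv_cancel]
  · intro i c hc
    refine hzmem _ _ ?_
    rw [map_mul, map_mul, map_inv, hg']
    exact hgJ i _ ⟨c, hc, rfl⟩
  · rw [← hR0, hRcomap]
    exact hgn.comap π
  · rw [← hR0, Subgroup.commutator_le]
    intro x hx y hy
    rw [← hπ1, map_commutatorElement, commutatorElement_eq_one_iff_mul_comm]
    exact hgab _ (hRimg.le ⟨x, hx, rfl⟩) _ (hRimg.le ⟨y, hy, rfl⟩)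
  · rw [← hR0]
    have e : R0 ⊔ J = Nf.comap π := by
      rw [← hgN, ← hRimg, hJf, ← Subgroup.map_sup, Subgroup.comap_map_eq, hπ, QuotientGroup.ker_mk',
        eq_comm, sup_eq_left]
      exact le_sup_left.trans le_sup_left
    rw [e]
    infer_instance
  · intro x hx
    rw [← hπ1, map_pow]
    have hx' := hRimg.le ⟨x, hx, rfl⟩
    generalize π x = y at hx' ⊢
    induction hx' using Subgroup.closure_induction with
    | mem w hw => obtain ⟨i, rfl⟩ := hw; exact (hg i).1
    | one => simp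
    | mul u v hu hv ihu ihv =>
      exact (Commute.mul_pow (hgab u hu v hv) 3).trans (by rw [ihu, ihv, one_mul])
    | inv u hu ihu => rw [inv_pow, ihu, inv_one]
  · intro x hx hc
    refine hπ1.1 (hgc _ ⟨x, hx, rfl⟩ fun i => ?_)
    have := hπ1.2 (hc (g i) (Subgroup.mem_sup_right (Subgroup.subset_closure ⟨i, rfl⟩)))
    rw [map_commutatorElement, commutatorElement_eq_one_iff_mul_comm, hg'] at this
    exact this
  · intro x hx hxQ hline
    obtain ⟨i, hi⟩ := hgl (π x) (hRimg.le ⟨x, hx, rfl⟩) (fun h1 => hxQ (hπ1.1 h1)) (by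
      rintro _ ⟨c, hc, rfl⟩
      rw [← hzimg, ← map_inv, ← map_mul, ← map_mul]
      exact ⟨_, hline c hc, rfl⟩)
    refine ⟨i, ?_⟩
    have key : ∀ u, Subgroup.zpowers u ⊔ Q = (Subgroup.zpowers (π u)).comap π := fun u => by
      rw [← hzimg u, Subgroup.comap_map_eq, hπ, QuotientGroup.ker_mk', sup_assoc, sup_idem]
    rw [key, key, hi, hg']

end Cfsg.Agent.Lib.LAEven56.JComp
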