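import Cfsg.Agent.Lib.LAEven56.JComp.Basic
import Cfsg.Agent.Lib.LAEven56.JComp.Offender

/-!
# The members of `jOvergroups T`: the structure of `J(T)^L O₂(L) / O₂(L)`

Owner: helper56.
-/

set_option autoImplicit false
set_option linter.style.haveILetI false
set_option linter.unusedSectionVars false

open Cfsg
open scoped commutatorElement

namespace Cfsg.Agent.Lib.LAEven56.JComp

open Cfsg.Agent.Lib

variable {G : Type*} [Group G] [Finite G] {T L : Subgroup G}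

/-- `x` spans a `J(T)`-invariant line of `R / O₂(L)`. -/
def IsLine (T L R : Subgroup G) (x : G) : Prop :=
  x ∈ R ∧ x ∉ Cfsg.pCoreOf 2 L ∧ ∀ c ∈ jT T, c * x * c⁻¹ ∈ Subgroup.zpowers x ⊔ Cfsg.pCoreOf 2 L

/-- `R / O₂(L)` is the odd part of `J(T)^L O₂(L) / O₂(L) ≅ S₃ × ⋯ × S₃`. -/
structure LocalData (T L R : Subgroup G) : Prop where
  le : R ≤ L
  norm : L ≤ Subgroup.normalizer (R : Set G)
  supNorm : L ≤ Subgroup.normalizer ((R ⊔ jT T : Subgroup G) : Set G)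
  coreLe : Cfsg.pCoreOf 2 L ≤ R
  abelian : ⁅R, R⁆ ≤ Cfsg.pCoreOf 2 L
  cube : ∀ x ∈ R, x ^ 3 ∈ Cfsg.pCoreOf 2 L
  cent : ∀ x ∈ jT T, (∀ r ∈ R, ⁅x, r⁆ ∈ Cfsg.pCoreOf 2 L) → x ∈ Cfsg.pCoreOf 2 L
  lineInv : ∀ x, IsLine T L R x → ∃ b ∈ jT T, ⁅x, b⁆ ∉ Cfsg.pCoreOf 2 L
  sep : ∀ x y, IsLine T L R x → IsLine T L R y →
    Subgroup.zpowers x ⊔ Cfsg.pCoreOf 2 L ≠ Subgroup.zpowers y ⊔ Cfsg.pCoreOf 2 L →
      ∃ b ∈ jT T, ⁅x, b⁆ ∉ Cfsg.pCoreOf 2 L ∧ ⁅y, b⁆ ∈ Cfsg.pCoreOf 2 L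
  gen : R ≤ Cfsg.pCoreOf 2 L ⊔ Subgroup.closure {x | IsLine T L R x}
  coreMax : ∃ A ∈ PGroups.maxElemAbIn 2 T, A ≤ Cfsg.pCoreOf 2 L

theorem localHyp (hG : ZNHyp G) (hL : L ∈ Cfsg.jOvergroups T) :
    ∃ S : Sylow 2 L, (S : Subgroup L).map L.subtype = T ∧ LocalHyp S := by
  haveI : Fact (Nat.Prime 2) := ⟨Nat.prime_two⟩
  obtain ⟨S, hS⟩ := (isSylowIn_of_two hL.1).exists_sylow
  refine ⟨S, hS.symm, hG.jOver_solvable hL, ?_, ?_, ?_⟩
  · exact (CosetGraph.SylowIn.charP_iff 2 L).2 (inf_le_right.trans hL.2.2)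
  · intro h
    refine hL.2.1 ?_
    have h1 := Subgroup.map_mono (f := L.subtype) h
    rw [PGroups.map_thompsonSubgroupOf _ L.subtype_injective, ← hS] at h1
    exact h1
  · intro c hc
    set Q := Cfsg.pCoreOf 2 L
    obtain ⟨S0, hS0⟩ := hL.1.2.1.exists_le_sylow
    have hZ : Cfsg.omegaCenterOf (S0 : Subgroup G) ≤ PLocal.omegaCenterOf 2 Q := by
      have hQS : Q ≤ (S0 : Subgroup G) :=
        (CosetGraph.SylowIn.pCoreOf_le_sylow (isSylowIn_of_two hL.1)).trans hS0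
      have h1 : Cfsg.omegaCenterOf (S0 : Subgroup G) ≤ Subgroup.centralizer (Q : Set G) :=
        (Subgroup.le_centralizer_iff.1 (PLocal.le_centralizer_omegaCenterOf _)).trans
          (Subgroup.centralizer_le (SetLike.coe_subset_coe.2 hQS))
      exact fun x hx => PGroups.mem_omegaOne_of_pow ⟨hL.2.2 (h1 hx), h1 hx⟩
        ((PLocal.omegaCenterOf_elemAb (S0 : Subgroup G)).2 x hx)
    have hcS : (c : G) ∈ Subgroup.normalizer ((S0 : Subgroup G) : Set G) := by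
      refine hG.z S0 (Subgroup.mem_centralizer_iff.2 fun z hz => ?_)
      have hz' : z ∈ (PLocal.omegaCenterOf 2 (Cfsg.pCore 2 ↥L)).map L.subtype := by
        rw [PLocal.map_omegaCenterOf _ L.subtype_injective]
        exact hZ hz
      obtain ⟨w, hw, rfl⟩ := hz'
      exact congrArg Subtype.val (Subgroup.mem_centralizer_iff.1 hc w hw)
    have hTeq : (S0 : Subgroup G) ⊓ L = T :=
      sylowTwoIn_max hL.1 (S0.isPGroup'.to_le inf_le_left) (le_inf hS0 hL.1.1) inf_le_right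
    have hcT : (c : G) ∈ Subgroup.normalizer (T : Set G) := by
      rw [← hTeq]
      exact Subgroup.inf_normalizer_le_normalizer_inf ⟨hcS, Subgroup.le_normalizer c.2⟩
    have hSsub : (S : Subgroup L) = T.comap L.subtype := by
      rw [hS, Subgroup.comap_map_eq_self_of_injective L.subtype_injective]
    rw [hSsub]
    exact Subgroup.le_normalizer_comap L.subtype hcT

theorem Pieces.comm_iff {Y : Type*} [Group Y] {Q : Subgroup Y} [Q.Normal] {x y b : Y}
    (h : Subgroup.zpowers x ⊔ Q = Subgroup.zpowers y ⊔ Q) (hx : ⁅x, b⁆ ∈ Q) : ⁅y, b⁆ ∈ Q := by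
  set π := QuotientGroup.mk' Q
  have hmem : ∀ u, ⁅u, b⁆ ∈ Q ↔ u ∈ (Subgroup.centralizer ({π b} : Set (Y ⧸ Q))).comap π := by
    intro u
    rw [Subgroup.mem_comap, Subgroup.mem_centralizer_singleton_iff, ← QuotientGroup.eq_one_iff]
    change π ⁅u, b⁆ = 1 ↔ _
    rw [map_commutatorElement, commutatorElement_eq_one_iff_mul_comm]
  rw [hmem] at hx ⊢
  have hle : Subgroup.zpowers x ⊔ Q ≤ (Subgroup.centralizer ({π b} : Set (Y ⧸ Q))).comap π := by
    refine sup_le (Subgroup.zpowers_le.2 hx) fun q hq => (hmem q).1 ?_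
    exact Subgroup.commutator_le_left Q ⊤ (Subgroup.commutator_mem_commutator hq (Subgroup.mem_top b))
  exact hle (h ▸ Subgroup.mem_sup_left (Subgroup.mem_zpowers y))

theorem exists_localData (hG : ZNHyp G) (hL : L ∈ Cfsg.jOvergroups T) :
    ∃ R : Subgroup G, LocalData T L R := by
  haveI : Fact (Nat.Prime 2) := ⟨Nat.prime_two⟩
  obtain ⟨S, hS, hloc⟩ := localHyp hG hL
  obtain ⟨D⟩ := exists_pieces hloc
  haveI := D.fin
  set Q := Cfsg.pCore 2 ↥L with hQdef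
  set R0 := Q ⊔ Subgroup.closure (Set.range D.g) with hR0
  set J0 := Cfsg.thompsonSubgroupOf 2 (S : Subgroup L) with hJ0
  have hJ : J0.map L.subtype = jT T := by
    rw [hJ0, PGroups.map_thompsonSubgroupOf _ L.subtype_injective, hS]
  have hQG : Q.map L.subtype = Cfsg.pCoreOf 2 L := rfl
  have hQmem : ∀ {u : L}, (u : G) ∈ Cfsg.pCoreOf 2 L ↔ u ∈ Q := fun {u} => by
    rw [← hQG]; exact Subgroup.mem_map_iff_mem L.subtype_injective
  have hJmem : ∀ {u : L}, (u : G) ∈ jT T ↔ u ∈ J0 := fun {u} => by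
    rw [← hJ]; exact Subgroup.mem_map_iff_mem L.subtype_injective
  have hsupmem : ∀ {u x : L}, (u : G) ∈ Subgroup.zpowers (x : G) ⊔ Cfsg.pCoreOf 2 L ↔
      u ∈ Subgroup.zpowers x ⊔ Q := fun {u x} => by
    rw [← hQG, show Subgroup.zpowers (x : G) = (Subgroup.zpowers x).map L.subtype from
      (MonoidHom.map_zpowers L.subtype x).symm, ← Subgroup.map_sup]
    exact Subgroup.mem_map_iff_mem L.subtype_injective
  set R := R0.map L.subtype with hR
  have hJT : jT T ≤ L := (PGroups.thompsonSubgroupOf_le 2 T).trans hL.1.1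
  -- the pieces in `↥L`
  have hinv : ∀ i, ⁅D.g i, D.b i⁆ ∉ Q := by
    intro i h
    have h1 : D.g i * D.g i ∈ Q := by
      have h3 := Q.mul_mem h (D.inv i)
      rwa [commutatorElement_def, show D.g i * D.b i * (D.g i)⁻¹ * (D.b i)⁻¹ *
        (D.b i * D.g i * (D.b i)⁻¹ * D.g i) = D.g i * D.b i * (D.b i)⁻¹ * D.g i by group,
        mul_inv_cancel_right] at h3
    have h2 := Q.mul_mem (Q.inv_mem h1) (D.g_cube i)
    rw [show (D.g i * D.g i)⁻¹ * D.g i ^ 3 = D.g i by rw [pow_succ, pow_two]; group] at h2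
    exact D.g_not i h2
  have hfix : ∀ i j, j ≠ i → ⁅D.g j, D.b i⁆ ∈ Q := by
    intro i j hij
    rw [← inv_mem_iff, commutatorElement_inv, commutatorElement_def]
    exact D.fix i j hij
  have hline : ∀ x, IsLine T L R x → ∃ (x' : L) (i : D.ι), (x' : G) = x ∧
      Subgroup.zpowers x' ⊔ Q = Subgroup.zpowers (D.g i) ⊔ Q := by
    rintro x ⟨hx, hxQ, hxJ⟩
    obtain ⟨x', hx', rfl⟩ := hx
    obtain ⟨i, hi⟩ := D.line x' hx' (fun h => hxQ (hQmem.2 h)) fun c hc =>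
      hsupmem.1 (by simpa using hxJ (c : G) (hJmem.2 hc))
    exact ⟨x', i, rfl, hi⟩
  refine ⟨R, ⟨Subgroup.map_subtype_le _, ?_, ?_, Subgroup.map_mono le_sup_left, ?_, ?_, ?_, ?_, ?_, ?_, ?_⟩⟩
  · haveI : R0.Normal := D.normal
    exact CosetGraph.SylowIn.le_normalizer_map_subtype L R0
  · haveI : (R0 ⊔ J0).Normal := D.sup_normal
    rw [← hJ, hR, ← Subgroup.map_sup]
    exact CosetGraph.SylowIn.le_normalizer_map_subtype L (R0 ⊔ J0)
  · rw [hR, ← Subgroup.map_commutator]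
    exact Subgroup.map_mono D.abelian
  · rintro _ ⟨x, hx, rfl⟩
    rw [← map_pow]
    exact hQmem.2 (D.cube x hx)
  · intro x hx hc
    obtain ⟨x', hx', rfl⟩ := hJ.symm.le hx
    refine hQmem.2 (D.cent x' hx' fun r hr => ?_)
    have := hc _ ⟨r, hr, rfl⟩
    rw [← map_commutatorElement] at this
    exact hQmem.1 this
  · intro x hx
    obtain ⟨x', i, rfl, hi⟩ := hline x hx
    refine ⟨D.b i, hJmem.2 (D.b_mem i), fun h => hinv i ?_⟩
    rw [← L.subtype_apply, ← L.subtype_apply, ← map_commutatorElement] at h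
    exact Pieces.comm_iff hi (hQmem.1 h)
  · intro x y hx hy hne
    obtain ⟨x', i, rfl, hi⟩ := hline x hx
    obtain ⟨y', j, rfl, hj⟩ := hline y hy
    have hij : j ≠ i := by
      rintro rfl
      apply hne
      rw [← hQG, show Subgroup.zpowers (x' : G) = (Subgroup.zpowers x').map L.subtype from
          (MonoidHom.map_zpowers L.subtype x').symm,
        show Subgroup.zpowers (y' : G) = (Subgroup.zpowers y').map L.subtype from
          (MonoidHom.map_zpowers L.subtype y').symm, ← Subgroup.map_sup, ← Subgroup.map_sup, hi, hj]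
    refine ⟨D.b i, hJmem.2 (D.b_mem i), fun h => hinv i ?_, ?_⟩
    · rw [← L.subtype_apply, ← L.subtype_apply, ← map_commutatorElement] at h
      exact Pieces.comm_iff hi (hQmem.1 h)
    · rw [← L.subtype_apply, ← L.subtype_apply, ← map_commutatorElement]
      exact hQmem.2 (Pieces.comm_iff hj.symm (hfix i j hij))
  · rw [hR, hR0, Subgroup.map_sup, hQG, MonoidHom.map_closure]
    refine sup_le le_sup_left ((Subgroup.closure_le _).2 ?_)
    rintro _ ⟨_, ⟨i, rfl⟩, rfl⟩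
    refine Subgroup.mem_sup_right (Subgroup.subset_closure ?_)
    refine ⟨Subgroup.mem_sup_right (Subgroup.subset_closure ⟨D.g i, ⟨i, rfl⟩, rfl⟩),
      fun h => D.g_not i (hQmem.1 h), fun c hc => ?_⟩
    obtain ⟨c', hc', rfl⟩ := hJ.symm.le hc
    have := hsupmem.2 (D.stable i c' hc')
    simpa using this
  · obtain ⟨A, hA, hAQ⟩ := D.coreMax
    refine ⟨A.map L.subtype, ?_, Subgroup.map_mono hAQ⟩
    rw [← hS, PGroups.map_maxElemAbIn _ L.subtype_injective]
    exact ⟨A, hA, rfl⟩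

end Cfsg.Agent.Lib.LAEven56.JComp
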