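import Cfsg.Agent.Lib.LAEven56.JComp.Comp
import Cfsg.Agent.Lib.LAEven56.JComp.Local

/-!
# The `J(T)`-components inside a member of `jOvergroups T`

Owner: helper56.
-/

set_option autoImplicit false
set_option linter.style.haveILetI false
set_option linter.unusedSectionVars false

open Cfsg
open scoped commutatorElement

namespace Cfsg.Agent.Lib.LAEven56.JComp

open Cfsg.Agent.Lib

variable {G : Type*} [Group G]

theorem mem_of_pow_coprime {S : Subgroup G} {x : G} {m n : ℕ} (h : Nat.Coprime m n)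
    (hm : x ^ m ∈ S) (hn : x ^ n ∈ S) : x ∈ S := by
  have h1 : (1 : ℤ) = (m : ℤ) * Nat.gcdA m n + (n : ℤ) * Nat.gcdB m n := by
    rw [← Nat.gcd_eq_gcd_ab, h.gcd_eq_one]; rfl
  have h2 : x = (x ^ m) ^ Nat.gcdA m n * (x ^ n) ^ Nat.gcdB m n := by
    rw [← zpow_natCast, ← zpow_natCast, ← zpow_mul, ← zpow_mul, ← zpow_add, ← h1, zpow_one]
  exact h2 ▸ S.mul_mem (S.zpow_mem hm _) (S.zpow_mem hn _)

theorem isJComponent_congr {T T' K : Subgroup G} (h : jT T' = jT T) (hK : Cfsg.IsJComponent T K) :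
    Cfsg.IsJComponent T' K := by
  unfold Cfsg.IsJComponent at hK ⊢
  change _ ∧ ⁅K, jT T'⁆ = K ∧ _ ∧ (∀ S, Cfsg.IsSylowTwoIn S (K ⊔ jT T') → jT T' ≤ S → _ = jT T') ∧ _
  rw [h]
  exact hK

variable [Finite G]

theorem le_normalizer_jT (T : Subgroup G) : T ≤ Subgroup.normalizer (jT T : Set G) :=
  Subgroup.le_normalizer.trans (normalizer_le_normalizer_jT T)

theorem isSylowTwoIn_map (g : G) {T L : Subgroup G} (h : Cfsg.IsSylowTwoIn T L) :
    Cfsg.IsSylowTwoIn (T.map (MulAut.conj g).toMonoidHom) (L.map (MulAut.conj g).toMonoidHom) :=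
  isSylowTwoIn_of ((isSylowIn_of_two h).conj g)

theorem map_conj_inv (g : G) (H : Subgroup G) :
    (H.map (MulAut.conj g⁻¹).toMonoidHom).map (MulAut.conj g).toMonoidHom = H := by
  rw [Subgroup.map_map]
  convert H.map_id
  ext x
  simp [mul_assoc]

theorem map_jT (g : G) (T : Subgroup G) :
    (jT T).map (MulAut.conj g).toMonoidHom = jT (T.map (MulAut.conj g).toMonoidHom) :=
  PGroups.thompsonSubgroupOf_conj g T

theorem isJComponent_map (g : G) {T K : Subgroup G} (hK : Cfsg.IsJComponent T K) :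
    Cfsg.IsJComponent (T.map (MulAut.conj g).toMonoidHom) (K.map (MulAut.conj g).toMonoidHom) := by
  obtain ⟨h1, h2, h3, h4, h5, h6⟩ := hK
  set f := (MulAut.conj g).toMonoidHom with hf
  have hinj : Function.Injective f := (MulAut.conj g).injective
  refine ⟨?_, ?_, ?_, ?_, ?_, ?_⟩
  · change oddGen (K.map f) = _
    rw [← map_oddGen f hinj]
    exact congrArg (Subgroup.map f) h1
  · rw [← PGroups.thompsonSubgroupOf_conj, ← Subgroup.map_commutator, h2]
  · rw [← CosetGraph.SylowIn.pCoreOf_map 2 K f hinj, Subgroup.relIndex_map_map_of_injective _ _ hinj, h3]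
  · intro S hS hJS
    change jT S = jT (T.map f)
    rw [← map_jT] at ⊢
    have hS' := isSylowTwoIn_map g⁻¹ hS
    have hinv : ∀ H : Subgroup G, (H.map f).map (MulAut.conj g⁻¹).toMonoidHom = H := fun H => by
      have := map_conj_inv g⁻¹ H
      rwa [inv_inv] at this
    have e : (K.map f ⊔ Cfsg.thompsonSubgroupOf 2 (T.map f)).map (MulAut.conj g⁻¹).toMonoidHom =
        K ⊔ Cfsg.thompsonSubgroupOf 2 T := by
      rw [← PGroups.thompsonSubgroupOf_conj, ← Subgroup.map_sup, hinv]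
    rw [e] at hS'
    have hle : jT T ≤ S.map (MulAut.conj g⁻¹).toMonoidHom := by
      have := Subgroup.map_mono (f := (MulAut.conj g⁻¹).toMonoidHom) hJS
      rwa [← PGroups.thompsonSubgroupOf_conj g T, hinv] at this
    have h7 : jT (S.map (MulAut.conj g⁻¹).toMonoidHom) = jT T := h4 _ hS' hle
    rw [← h7, map_jT, map_conj_inv]
  · rw [← map_wOf f hinj, Subgroup.card_map_of_injective hinj, h5]
  · rw [← map_wOf f hinj]
    rintro _ ⟨w, hw, rfl⟩
    rw [← map_mul, h6 w hw, map_one]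

/-- Components are determined by `J(T)`; conjugation by `N(J(T))` permutes them. -/
theorem isJComponent_map_of_normalizes {T K : Subgroup G} {g : G}
    (hg : g ∈ Subgroup.normalizer (jT T : Set G)) (hK : Cfsg.IsJComponent T K) :
    Cfsg.IsJComponent T (K.map (MulAut.conj g).toMonoidHom) := by
  refine isJComponent_congr ?_ (isJComponent_map g hK)
  rw [← map_jT, mem_normalizer_iff_map.1 hg]

variable {T K L R : Subgroup G}

theorem preComp_of (hT : IsPGroup 2 T) (hK : Cfsg.IsJComponent T K) : PreComp T K := by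
  refine ⟨hT, hK.1, hK.2.1, hK.2.2.1, ?_⟩
  have hJ : IsPGroup 2 (jT T) := hT.to_le (PGroups.thompsonSubgroupOf_le 2 T)
  obtain ⟨S, hS, hJS⟩ := exists_sylowTwoIn hJ (le_sup_right : jT T ≤ K ⊔ jT T)
  intro A hA B hB hBe
  obtain ⟨A', hA'⟩ := PGroups.maxElemAbIn_nonempty 2 S
  refine (isBoundedBy_of_le hS le_rfl A' hA' B hB hBe).trans (hA.2.2 A' ?_ hA'.2.1)
  refine (PGroups.le_thompsonSubgroupOf hA').trans ?_
  rw [hK.2.2.2.1 S hS hJS]
  exact PGroups.thompsonSubgroupOf_le 2 T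

namespace PreComp

theorem conj_mem (h : PreComp T K) {k c : G} (hk : k ∈ K) (hc : c ∈ jT T) : c * k * c⁻¹ ∈ K :=
  (Subgroup.mem_normalizer_iff.1 (h.le_normalizer hc) k).1 hk

theorem inf_centralizer_le (h : PreComp T K) (hW : Cfsg.wOf K ≠ ⊥) :
    K ⊓ Subgroup.centralizer (Cfsg.wOf K : Set G) ≤ Cfsg.pCoreOf 2 K := by
  obtain ⟨d, hd, hdQ, hd3, hgen⟩ := h.exists_three
  set X := K ⊓ Subgroup.centralizer (Cfsg.wOf K : Set G)
  have hle : Cfsg.pCoreOf 2 K ≤ X := le_inf core_le h.core_centralizes_wOf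
  have hm := Subgroup.relIndex_mul_relIndex (Cfsg.pCoreOf 2 K) X K hle inf_le_left
  rw [h.index] at hm
  rcases (Nat.dvd_prime (by norm_num : Nat.Prime 3)).1 (Dvd.intro _ hm) with h1 | h1
  · exact Subgroup.relIndex_eq_one.1 h1
  · rw [h1] at hm
    have hKX : K ≤ X := Subgroup.relIndex_eq_one.1 (by omega)
    obtain ⟨w, hw, hw1⟩ := (Subgroup.bot_or_exists_ne_one _).resolve_left hW
    exact absurd (h.no_fixed hd hd3 hgen w hw
      ((Subgroup.mem_centralizer_iff.1 (hKX hd).2 w hw).symm)) hw1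

end PreComp

namespace LocalData

theorem jT_le (hL : L ∈ Cfsg.jOvergroups T) : jT T ≤ L :=
  (PGroups.thompsonSubgroupOf_le 2 T).trans hL.1.1

theorem core_le_T (hL : L ∈ Cfsg.jOvergroups T) : Cfsg.pCoreOf 2 L ≤ T := by
  haveI : Fact (Nat.Prime 2) := ⟨Nat.prime_two⟩
  exact CosetGraph.SylowIn.pCoreOf_le_sylow (isSylowIn_of_two hL.1)

theorem mem_core_of_two (D : LocalData T L R) {x : G} (hx : x ∈ R) {k : ℕ} (hk : x ^ 2 ^ k = 1) :
    x ∈ Cfsg.pCoreOf 2 L :=
  mem_of_pow_coprime (Nat.Coprime.pow_left k (by norm_num : Nat.Coprime 2 3))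
    (hk ▸ Subgroup.one_mem _) (D.cube x hx)

theorem pGroup_le_core (D : LocalData T L R) {P : Subgroup G} (hP : IsPGroup 2 P) (hPR : P ≤ R) :
    P ≤ Cfsg.pCoreOf 2 L := fun x hx => by
  obtain ⟨k, hk⟩ := isPGroup_iff_pow_pow_eq_one.1 hP ⟨x, hx⟩
  exact D.mem_core_of_two (hPR hx) (congrArg Subtype.val hk)

/-- A conjugate `r k r⁻¹` of an odd element of `K` stays in `K`. -/
theorem le_normalizer_of_abelian (D : LocalData T L R) (hK : oddGen K = K) (hKR : K ≤ R)
    (hQ : Cfsg.pCoreOf 2 L ≤ Subgroup.normalizer (K : Set G)) :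
    R ≤ Subgroup.normalizer (K : Set G) := by
  intro r hr
  rw [mem_normalizer_iff_map]
  refine Subgroup.eq_of_le_of_card_ge ?_
    (Subgroup.card_map_of_injective (MulAut.conj r).injective).ge
  conv_lhs => rw [← hK, map_oddGen _ (MulAut.conj r).injective]
  refine oddGen_le_of_forall ?_
  rintro _ ⟨k, hk, rfl⟩ ho
  refine odd_mem_of_mem_sup hQ (CharP.isPGroup_pCoreOf 2 L) ?_ ho
  change r * k * r⁻¹ ∈ _
  rw [show r * k * r⁻¹ = ⁅r, k⁆ * k by rw [commutatorElement_def]; group]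
  exact mul_mem (Subgroup.mem_sup_right (D.abelian (Subgroup.commutator_mem_commutator hr (hKR hk))))
    (Subgroup.mem_sup_left hk)

/-! ### A component inside `L` -/

theorem core_le_normalizer (_hG : ZNHyp G) (hL : L ∈ Cfsg.jOvergroups T) (hK : Cfsg.IsJComponent T K)
    (hKL : K ≤ L) : Cfsg.pCoreOf 2 L ≤ Subgroup.normalizer (K : Set G) :=
  le_normalizer_comp hK.2.1 (hL.1.2.1.to_le (PGroups.thompsonSubgroupOf_le 2 T)) hK.1
    (hKL.trans (CharP.le_normalizer_pCoreOf 2 L)) ((core_le_T hL).trans (le_normalizer_jT T))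

theorem comp_le (D : LocalData T L R) (hL : L ∈ Cfsg.jOvergroups T) (hK : Cfsg.IsJComponent T K)
    (hKL : K ≤ L) : K ≤ R := by
  have h1 : K ≤ R ⊔ jT T := by
    calc K = ⁅K, jT T⁆ := hK.2.1.symm
      _ ≤ ⁅L, R ⊔ jT T⁆ := Subgroup.commutator_mono hKL le_sup_right
      _ ≤ R ⊔ jT T := by
        rw [Subgroup.commutator_comm]
        exact Subgroup.le_normalizer_iff_commutator_le_left.1 D.supNorm
  rw [← hK.1]
  exact oddGen_le_of_forall fun g hg ho =>
    odd_mem_of_mem_sup ((jT_le hL).trans D.norm) (hL.1.2.1.to_le (PGroups.thompsonSubgroupOf_le 2 T))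
      (h1 hg) ho

theorem le_normalizer_of_comp (D : LocalData T L R) (hG : ZNHyp G) (hL : L ∈ Cfsg.jOvergroups T)
    (hK : Cfsg.IsJComponent T K) (hKL : K ≤ L) : R ≤ Subgroup.normalizer (K : Set G) :=
  D.le_normalizer_of_abelian hK.1 (D.comp_le hL hK hKL) (core_le_normalizer hG hL hK hKL)

theorem comp_core_le (D : LocalData T L R) (hL : L ∈ Cfsg.jOvergroups T) (hK : Cfsg.IsJComponent T K)
    (hKL : K ≤ L) : Cfsg.pCoreOf 2 K ≤ Cfsg.pCoreOf 2 L :=
  D.pGroup_le_core (CharP.isPGroup_pCoreOf 2 K) ((CharP.pCoreOf_le 2 K).trans (D.comp_le hL hK hKL))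

theorem core_inf_le (hKL : K ≤ L) : K ⊓ Cfsg.pCoreOf 2 L ≤ Cfsg.pCoreOf 2 K :=
  CharP.le_pCoreOf ((CharP.isPGroup_pCoreOf 2 L).to_le inf_le_right) inf_le_left fun _ hk =>
    Subgroup.inf_normalizer_le_normalizer_inf
      ⟨Subgroup.le_normalizer hk, CharP.le_normalizer_pCoreOf 2 L (hKL hk)⟩

theorem exists_line (D : LocalData T L R) (hL : L ∈ Cfsg.jOvergroups T) (hK : Cfsg.IsJComponent T K)
    (hKL : K ≤ L) : ∃ d ∈ K, d ^ 3 = 1 ∧ Cfsg.pCoreOf 2 K ⊔ Subgroup.zpowers d = K ∧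
      IsLine T L R d ∧ K ⊔ Cfsg.pCoreOf 2 L = Subgroup.zpowers d ⊔ Cfsg.pCoreOf 2 L := by
  have hp := preComp_of hL.1.2.1 hK
  obtain ⟨d, hd, hdQ, hd3, hgen⟩ := hp.exists_three
  have hcore := D.comp_core_le hL hK hKL
  have hle : K ≤ Subgroup.zpowers d ⊔ Cfsg.pCoreOf 2 L := by
    rw [← hgen]
    exact sup_le (hcore.trans le_sup_right) le_sup_left
  refine ⟨d, hd, hd3, hgen, ⟨D.comp_le hL hK hKL hd, fun h => hdQ (core_inf_le hKL ⟨hd, h⟩),
    fun c hc => hle (hp.conj_mem hd hc)⟩, le_antisymm (sup_le hle le_sup_right) ?_⟩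
  exact sup_le_sup_right (Subgroup.zpowers_le.2 hd) _

theorem eq_of_sup_eq (hG : ZNHyp G) (hL : L ∈ Cfsg.jOvergroups T) {K' : Subgroup G}
    (hK : Cfsg.IsJComponent T K) (hKL : K ≤ L) (hK' : Cfsg.IsJComponent T K') (hKL' : K' ≤ L)
    (h : K ⊔ Cfsg.pCoreOf 2 L = K' ⊔ Cfsg.pCoreOf 2 L) : K = K' := by
  rw [← oddGen_sup_eq (core_le_normalizer hG hL hK hKL) (CharP.isPGroup_pCoreOf 2 L) hK.1, h,
    oddGen_sup_eq (core_le_normalizer hG hL hK' hKL') (CharP.isPGroup_pCoreOf 2 L) hK'.1]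

theorem isSubnormal (D : LocalData T L R) (hG : ZNHyp G) (hL : L ∈ Cfsg.jOvergroups T)
    (hK : Cfsg.IsJComponent T K) (hKL : K ≤ L) : (K.subgroupOf L).IsSubnormal := by
  refine Subgroup.IsSubnormal.step _ (R.subgroupOf L)
    (Subgroup.comap_mono (D.comp_le hL hK hKL))
    ((Subgroup.normal_subgroupOf_of_le_normalizer D.norm).isSubnormal) ?_
  refine Subgroup.normal_subgroupOf_of_le_normalizer ?_
  intro r hr
  exact Subgroup.le_normalizer_comap L.subtype (D.le_normalizer_of_comp hG hL hK hKL hr)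

/-- Two components inside `L` with intersecting modules are equal. -/
theorem eq_of_mem_wOf (D : LocalData T L R) (hG : ZNHyp G) (hL : L ∈ Cfsg.jOvergroups T)
    {K' : Subgroup G} (hK : Cfsg.IsJComponent T K) (hKL : K ≤ L) (hK' : Cfsg.IsJComponent T K')
    (hKL' : K' ≤ L) {w : G} (hw : w ∈ Cfsg.wOf K) (hw' : w ∈ Cfsg.wOf K') (hw1 : w ≠ 1) : K = K' := by
  haveI : Fact (Nat.Prime 2) := ⟨Nat.prime_two⟩
  have hp := preComp_of hL.1.2.1 hK
  have hp' := preComp_of hL.1.2.1 hK'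
  obtain ⟨d, hd, hd3, hgen, hline, hsup⟩ := D.exists_line hL hK hKL
  obtain ⟨d', hd', hd3', hgen', hline', hsup'⟩ := D.exists_line hL hK' hKL'
  set W := Cfsg.wOf K with hWdef
  have hWne : W ≠ ⊥ := fun h => hw1 (Subgroup.mem_bot.1 (h ▸ hw))
  have hfree := hp'.no_fixed hd' hd3' hgen'
  -- a subgroup of `W'` invariant under `d'` is trivial or everything
  have hbig : ∀ X : Subgroup G, X ≤ Cfsg.wOf K' → ∀ u ∈ X, u ≠ 1 → d' * u * d'⁻¹ ∈ X →
      X = Cfsg.wOf K' := by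
    intro X hX u hu hu1 hdu
    refine Subgroup.eq_of_le_of_card_ge hX ?_
    rw [hK'.2.2.2.2.1]
    have h3 : 3 ≤ Nat.card X := by
      classical
      haveI := Fintype.ofFinite X
      rw [Nat.card_eq_fintype_card]
      have hne : (d' * u * d'⁻¹ : G) ≠ u := fun e => hu1 (hfree u (hX hu) (mul_inv_eq_iff_eq_mul.1 e))
      have hne1 : (d' * u * d'⁻¹ : G) ≠ 1 := fun e => hu1 (conj_eq_one_iff.1 e)
      have hs : ({1, ⟨u, hu⟩, ⟨_, hdu⟩} : Finset X).card = 3 :=
        Finset.card_eq_three.2 ⟨1, ⟨u, hu⟩, ⟨_, hdu⟩, fun e => hu1 (congrArg Subtype.val e).symm,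
          fun e => hne1 (congrArg Subtype.val e).symm, fun e => hne (congrArg Subtype.val e).symm, rfl⟩
      exact hs ▸ Finset.card_le_univ _
    have hdvd : Nat.card X ∣ 4 := hK'.2.2.2.2.1 ▸ Subgroup.card_dvd_of_le hX
    have hle4 := Nat.le_of_dvd (by norm_num) hdvd
    have : Nat.card X ≠ 3 := fun e => absurd (e ▸ hdvd) (by norm_num)
    omega
  have hKW : K' ≤ Subgroup.normalizer (W : Set G) :=
    ((D.comp_le hL hK' hKL').trans (D.le_normalizer_of_comp hG hL hK hKL)).trans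
      (normalizer_le_normalizer_wOf K)
  have hWW' : W = Cfsg.wOf K' := by
    have h1 := hbig (W ⊓ Cfsg.wOf K') inf_le_right w ⟨hw, hw'⟩ hw1
      ⟨(Subgroup.mem_normalizer_iff.1 (hKW hd') w).1 hw,
        (Subgroup.mem_normalizer_iff.1 ((Subgroup.le_normalizer.trans (normalizer_le_normalizer_wOf K')) hd') w).1 hw'⟩
    refine (Subgroup.eq_of_le_of_card_ge (inf_eq_right.1 h1) ?_).symm
    rw [hK.2.2.2.2.1, hK'.2.2.2.2.1]
  refine eq_of_sup_eq hG hL hK hKL hK' hKL' ?_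
  rw [hsup, hsup']
  by_contra hne
  obtain ⟨b, hb, hdb, hdb'⟩ := D.sep d d' hline hline' hne
  -- `b` centralises `W`
  have hbW : jT T ≤ Subgroup.normalizer (W : Set G) :=
    hp.le_normalizer.trans (normalizer_le_normalizer_wOf K)
  have hbp : IsPGroup 2 (Subgroup.zpowers b) := hp.isPGroup_jT.to_le (Subgroup.zpowers_le.2 hb)
  obtain ⟨u, hu, hu1⟩ := (Subgroup.bot_or_exists_ne_one _).resolve_left
    (PLocal.fixOn_ne_bot ((Subgroup.zpowers_le.2 hb).trans hbW) (PLocal.pActsOn_of_isPGroup hbp)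
      (PGroups.elemAb_isPGroup hp.wOf_elemAb) hWne)
  obtain ⟨huW, huf⟩ := PLocal.mem_fixOn.1 hu
  have hbu : b * u = u * b := huf b (Subgroup.mem_zpowers b)
  have hfix : (d' * u * d'⁻¹) ∈ W ⊓ Subgroup.centralizer ({b} : Set G) := by
    have hu' : d' * u * d'⁻¹ ∈ W := (Subgroup.mem_normalizer_iff.1 (hKW hd') u).1 huW
    refine ⟨hu', Subgroup.mem_centralizer_singleton_iff.2 ?_⟩
    set q := ⁅b, d'⁆ with hq
    have hqK : q ∈ K' := by
      rw [hq, commutatorElement_def]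
      exact K'.mul_mem (hp'.conj_mem hd' hb) (K'.inv_mem hd')
    have hqQ : q ∈ Cfsg.pCoreOf 2 L := (CharP.comm_mem_symm _).1 hdb'
    have hqc := Subgroup.mem_centralizer_iff.1 (hp'.core_centralizes_wOf (core_inf_le hKL' ⟨hqK, hqQ⟩))
      (d' * u * d'⁻¹) (hWW' ▸ hu')
    have e : b * (d' * u * d'⁻¹) * b⁻¹ = d' * u * d'⁻¹ := by
      calc b * (d' * u * d'⁻¹) * b⁻¹ = q * d' * (b * u * b⁻¹) * (q * d')⁻¹ := by
            rw [hq, commutatorElement_def]; group
        _ = q * (d' * u * d'⁻¹) * q⁻¹ := by rw [hbu]; group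
        _ = _ := by rw [← hqc]; group
    exact (mul_inv_eq_iff_eq_mul.1 e).symm
  have hall := hbig (W ⊓ Subgroup.centralizer ({b} : Set G)) (hWW' ▸ inf_le_left) u
    ⟨huW, Subgroup.mem_centralizer_singleton_iff.2 hbu.symm⟩ hu1 hfix
  rw [← hWW'] at hall
  have hbc : b ∈ Subgroup.centralizer (W : Set G) := Subgroup.mem_centralizer_iff.2 fun v hv =>
    Subgroup.mem_centralizer_singleton_iff.1 (inf_eq_left.1 hall hv)
  refine hdb (D.comp_core_le hL hK hKL (hp.inf_centralizer_le hWne ⟨?_, ?_⟩))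
  · rw [commutatorElement_def, show d * b * d⁻¹ * b⁻¹ = d * (b * d⁻¹ * b⁻¹) by group]
    exact K.mul_mem hd (hp.conj_mem (K.inv_mem hd) hb)
  · rw [commutatorElement_def]
    refine Subgroup.mul_mem _ ?_ (Subgroup.inv_mem _ hbc)
    have hdW : d ∈ Subgroup.normalizer (W : Set G) :=
      Subgroup.le_normalizer.trans (normalizer_le_normalizer_wOf K) hd
    refine Subgroup.mem_centralizer_iff.2 fun v hv => ?_
    have hv' : d⁻¹ * v * d ∈ W := by
      have := (Subgroup.mem_normalizer_iff.1 (inv_mem hdW) v).1 hv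
      simpa using this
    have h1 := Subgroup.mem_centralizer_iff.1 hbc _ hv'
    calc v * (d * b * d⁻¹) = d * ((d⁻¹ * v * d) * b) * d⁻¹ := by group
      _ = d * (b * (d⁻¹ * v * d)) * d⁻¹ := by rw [h1]
      _ = _ := by group

/-! ### Constructing components -/

theorem comm_mem_of_centralizes (hG : ZNHyp G) (hL : L ∈ Cfsg.jOvergroups T) {g b : G} (hg : g ∈ L)
    (hgV : g ∈ Subgroup.centralizer (Cfsg.omegaCenterOf (Cfsg.pCoreOf 2 L) : Set G)) (hb : b ∈ jT T) :
    ⁅g, b⁆ ∈ Cfsg.pCoreOf 2 L := by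
  obtain ⟨S, hS, hloc⟩ := localHyp hG hL
  set V := PLocal.omegaCenterOf 2 (Cfsg.pCore 2 ↥L)
  have hVmap : V.map L.subtype = Cfsg.omegaCenterOf (Cfsg.pCoreOf 2 L) :=
    PLocal.map_omegaCenterOf _ L.subtype_injective _
  haveI : V.Normal := omegaCenterOf_pCore_normal
  haveI : (Subgroup.centralizer (V : Set L)).Normal := Subgroup.normal_centralizer
  have hbS : ∃ b' ∈ (S : Subgroup L), (b' : G) = b := by
    have : b ∈ (S : Subgroup L).map L.subtype := hS ▸ PGroups.thompsonSubgroupOf_le 2 T hb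
    exact this
  obtain ⟨b', hb', rfl⟩ := hbS
  have hgc : (⟨g, hg⟩ : L) ∈ Subgroup.centralizer (V : Set L) := Subgroup.mem_centralizer_iff.2
    fun v hv => Subtype.ext (Subgroup.mem_centralizer_iff.1 hgV v (hVmap ▸ ⟨v, hv, rfl⟩))
  refine ⟨⁅(⟨g, hg⟩ : L), b'⁆, normal_le_normalizer hloc.cent ⟨?_, ?_⟩, by simp⟩
  · rw [commutatorElement_def]
    exact (S : Subgroup L).mul_mem ((Subgroup.mem_normalizer_iff.1 (hloc.cent hgc) b').1 hb')
      ((S : Subgroup L).inv_mem hb')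
  · rw [commutatorElement_def, show (⟨g, hg⟩ : L) * b' * (⟨g, hg⟩ : L)⁻¹ * b'⁻¹ =
      (⟨g, hg⟩ : L) * (b' * (⟨g, hg⟩ : L)⁻¹ * b'⁻¹) by group]
    exact mul_mem hgc (Subgroup.Normal.conj_mem inferInstance _ (inv_mem hgc) b')

theorem exists_comp_of_line (D : LocalData T L R) (hG : ZNHyp G) (hL : L ∈ Cfsg.jOvergroups T) {x : G}
    (hx : IsLine T L R x) :
    ∃ K, Cfsg.IsJComponent T K ∧ K ≤ L ∧ x ∈ K ⊔ Cfsg.pCoreOf 2 L ∧
      K ≤ Subgroup.zpowers x ⊔ Cfsg.pCoreOf 2 L := by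
  haveI : Fact (Nat.Prime 2) := ⟨Nat.prime_two⟩
  set Q := Cfsg.pCoreOf 2 L with hQ
  set H := Subgroup.zpowers x ⊔ Q with hH
  set K := oddGen H with hK
  have hHR : H ≤ R := sup_le (Subgroup.zpowers_le.2 hx.1) D.coreLe
  have hKR : K ≤ R := (oddGen_le H).trans hHR
  have hKL : K ≤ L := hKR.trans D.le
  have hxH : x ∈ H := Subgroup.mem_sup_left (Subgroup.mem_zpowers x)
  obtain ⟨a, ha⟩ := CharP.exists_pow_coprime (p := 2) x
  have hx'K : x ^ 2 ^ a ∈ K := mem_oddGen (H.pow_mem hxH _) (odd_orderOf_coprime.2 ha)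
  have hxKQ : x ∈ K ⊔ Q := mem_of_pow_coprime (Nat.Coprime.pow_left a (by norm_num : Nat.Coprime 2 3))
    (Subgroup.mem_sup_left hx'K) (Subgroup.mem_sup_right (D.cube x hx.1))
  refine ⟨K, ?_, hKL, hxKQ, oddGen_le H⟩
  have hJH : jT T ≤ Subgroup.normalizer (H : Set G) := by
    refine Subgroup.le_normalizer_iff.2 fun c hc h hh => ?_
    change h ∈ H.comap (MulAut.conj c).toMonoidHom
    refine (sup_le ?_ ?_ : H ≤ H.comap (MulAut.conj c).toMonoidHom) hh
    · exact Subgroup.zpowers_le.2 (hx.2.2 c hc)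
    · exact fun q hq => Subgroup.mem_sup_right
        ((Subgroup.mem_normalizer_iff.1 (CharP.le_normalizer_pCoreOf 2 L (jT_le hL hc)) q).1 hq)
  have hJK : jT T ≤ Subgroup.normalizer (K : Set G) := hJH.trans (normalizer_le_normalizer_oddGen H)
  have hRK : R ≤ Subgroup.normalizer (K : Set G) := by
    refine le_trans ?_ (normalizer_le_normalizer_oddGen H)
    refine Subgroup.le_normalizer_iff.2 fun r hr h hh => ?_
    rw [show r * h * r⁻¹ = ⁅r, h⁆ * h by rw [commutatorElement_def]; group]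
    exact mul_mem (Subgroup.mem_sup_right (D.abelian (Subgroup.commutator_mem_commutator hr (hHR hh)))) hh
  have hodd : oddGen K = K := oddGen_idem H
  have hcore : Cfsg.pCoreOf 2 K = K ⊓ Q := le_antisymm
    (le_inf (CharP.pCoreOf_le 2 K) (D.pGroup_le_core (CharP.isPGroup_pCoreOf 2 K) ((CharP.pCoreOf_le 2 K).trans hKR)))
    (core_inf_le hKL)
  -- index 3
  have hindex : (Cfsg.pCoreOf 2 K).relIndex K = 3 := by
    rw [hcore, Subgroup.inf_relIndex_left]
    set N := Subgroup.normalizer (Q : Set G) with hN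
    haveI : (Q.subgroupOf N).Normal := Subgroup.normal_subgroupOf_of_le_normalizer le_rfl
    have hKN : K ≤ N := hKL.trans (CharP.le_normalizer_pCoreOf 2 L)
    have hxN : x ∈ N := CharP.le_normalizer_pCoreOf 2 L (D.le hx.1)
    set π := QuotientGroup.mk' (Q.subgroupOf N)
    have hπQ : (Q.subgroupOf N).map π = ⊥ := QuotientGroup.map_mk'_self _
    have hmap : (K.subgroupOf N).map π = Subgroup.zpowers (π ⟨x, hxN⟩) := by
      have hz : (Subgroup.zpowers x).subgroupOf N = Subgroup.zpowers (⟨x, hxN⟩ : N) := by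
        ext y
        rw [Subgroup.mem_subgroupOf, Subgroup.mem_zpowers_iff, Subgroup.mem_zpowers_iff]
        exact exists_congr fun n => ⟨fun e => Subtype.ext e, fun e => congrArg Subtype.val e⟩
      refine le_antisymm ?_ (Subgroup.zpowers_le.2 ?_)
      · refine (Subgroup.map_mono (show K.subgroupOf N ≤ H.subgroupOf N from Subgroup.comap_mono (oddGen_le H))).trans ?_
        rw [hH, Subgroup.subgroupOf_sup (Subgroup.zpowers_le.2 hxN) Subgroup.le_normalizer,
          Subgroup.map_sup, hπQ, sup_bot_eq, hz, MonoidHom.map_zpowers]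
      · have h1 : π ⟨x, hxN⟩ ∈ ((K ⊔ Q).subgroupOf N).map π := ⟨_, hxKQ, rfl⟩
        rwa [Subgroup.subgroupOf_sup hKN Subgroup.le_normalizer, Subgroup.map_sup, hπQ, sup_bot_eq] at h1
    have h3 : orderOf (π ⟨x, hxN⟩) = 3 := by
      haveI : Fact (Nat.Prime 3) := ⟨Nat.prime_three⟩
      refine orderOf_eq_prime ?_ fun h => hx.2.1 ((QuotientGroup.eq_one_iff (N := Q.subgroupOf N) _).1 h)
      rw [← map_pow]
      exact (QuotientGroup.eq_one_iff (N := Q.subgroupOf N) _).2 (D.cube x hx.1)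
    have h1 := Subgroup.relIndex_ker (K := K.subgroupOf N) π
    rw [QuotientGroup.ker_mk', hmap, Nat.card_zpowers, h3, Subgroup.relIndex_subgroupOf hKN] at h1
    exact h1
  -- `[K, J] = K`
  have hcomm : ⁅K, jT T⁆ = K := by
    set M := ⁅K, jT T⁆
    have hMK : M ≤ K := Subgroup.le_normalizer_iff_commutator_le_left.1 hJK
    refine le_antisymm hMK ?_
    have hMQ : ¬ M ≤ Q := by
      intro h
      obtain ⟨b, hb, hxb⟩ := D.lineInv x hx
      refine hxb ?_
      have hxKQ' : x ∈ ((K ⊔ Q : Subgroup G) : Set G) := hxKQ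
      rw [Subgroup.coe_mul_of_left_le_normalizer_right _ _ (hKL.trans (CharP.le_normalizer_pCoreOf 2 L))] at hxKQ'
      obtain ⟨k, hk, q, hq, rfl⟩ := hxKQ'
      change ⁅k * q, b⁆ ∈ Q
      rw [show ⁅k * q, b⁆ = k * (q * (b * q⁻¹ * b⁻¹)) * k⁻¹ * ⁅k, b⁆ by
        simp only [commutatorElement_def]; group]
      refine Q.mul_mem ((Subgroup.mem_normalizer_iff.1 (CharP.le_normalizer_pCoreOf 2 L (hKL hk)) _).1
        (Q.mul_mem hq ((Subgroup.mem_normalizer_iff.1 (CharP.le_normalizer_pCoreOf 2 L (jT_le hL hb)) _).1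
          (Q.inv_mem hq)))) (h (Subgroup.commutator_mem_commutator hk hb))
    obtain ⟨m, hmM, hmQ⟩ := SetLike.not_le_iff_exists.1 hMQ
    have hKM : K ≤ Subgroup.normalizer (M : Set G) := Subgroup.normalizer_commutator_ge_left K (jT T)
    have hsup : M ⊔ Cfsg.pCoreOf 2 K = K := by
      have hm := Subgroup.relIndex_mul_relIndex (Cfsg.pCoreOf 2 K) (M ⊔ Cfsg.pCoreOf 2 K) K le_sup_right
        (sup_le hMK (CharP.pCoreOf_le 2 K))
      rw [hindex] at hm
      rcases (Nat.dvd_prime (by norm_num : Nat.Prime 3)).1 (Dvd.intro _ hm) with h1 | h1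
      · have := Subgroup.relIndex_eq_one.1 h1 (Subgroup.mem_sup_left hmM)
        rw [hcore] at this
        exact absurd this.2 hmQ
      · rw [h1] at hm
        exact le_antisymm (sup_le hMK (CharP.pCoreOf_le 2 K)) (Subgroup.relIndex_eq_one.1 (by omega))
    conv_lhs => rw [← hodd]
    exact oddGen_le_of_forall fun g hg ho => odd_mem_of_mem_sup ((CharP.pCoreOf_le 2 K).trans hKM)
      (CharP.isPGroup_pCoreOf 2 K) (hsup.symm ▸ hg) ho
  have hclause : ∀ S : Subgroup G, Cfsg.IsSylowTwoIn S (K ⊔ jT T) → jT T ≤ S → jT S = jT T :=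
    fun S hS hJS => jT_eq_of_le hL.1 hS.2.1 (hS.1.trans (sup_le hKL (jT_le hL))) hJS
  have hp : PreComp T K := by
    refine ⟨hL.1.2.1, hodd, hcomm, hindex, ?_⟩
    intro A hA B hB hBe
    exact isBoundedBy_of_le hL.1 (sup_le hKL (jT_le hL)) A hA B hB hBe
  -- `W ≠ 1`
  have hW : Cfsg.wOf K ≠ ⊥ := by
    intro hbot
    set V := Cfsg.omegaCenterOf Q with hV
    have hVQ : V ≤ Q := PLocal.omegaCenterOf_le _
    have hLV : L ≤ Subgroup.normalizer (V : Set G) := by
      refine (CharP.le_normalizer_pCoreOf 2 L).trans fun g hg => ?_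
      rw [mem_normalizer_iff_map] at hg ⊢
      change (PLocal.omegaCenterOf 2 Q).map _ = _
      rw [PLocal.map_omegaCenterOf _ (MulAut.conj g).injective, hg]
      rfl
    have hKU : K ≤ Subgroup.centralizer (Cfsg.omegaCenterOf (Cfsg.pCoreOf 2 K) : Set G) :=
      Subgroup.le_centralizer_iff.1 (Subgroup.commutator_eq_bot_iff_le_centralizer.1 hbot)
    have hVU : V ⊓ K ≤ Cfsg.omegaCenterOf (Cfsg.pCoreOf 2 K) := by
      rintro v ⟨hvV, hvK⟩
      refine PGroups.mem_omegaOne_of_pow ⟨core_inf_le hKL ⟨hvK, hVQ hvV⟩, ?_⟩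
        ((PLocal.omegaCenterOf_elemAb (p := 2) Q).2 v hvV)
      refine Subgroup.centralizer_le (SetLike.coe_subset_coe.2 (hcore ▸ inf_le_right)) ?_
      exact Subgroup.le_centralizer_iff.1 (PLocal.le_centralizer_omegaCenterOf Q) hvV
    have hKV : K ≤ Subgroup.centralizer (V : Set G) := by
      rw [← hodd]
      refine oddGen_le_of_forall fun k hk ho => ?_
      refine CharP.mem_centralizer_of_two_step (p := 2) (U := V ⊓ K) ?_ (odd_orderOf_coprime.1 ho)
        (fun v hv => ⟨?_, ?_⟩) ?_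
      · exact ((CharP.isPGroup_pCoreOf 2 L).to_le hVQ).to_le inf_le_left
      · rw [commutatorElement_def, show v * k * v⁻¹ * k⁻¹ = v * (k * v⁻¹ * k⁻¹) by group]
        exact V.mul_mem hv ((Subgroup.mem_normalizer_iff.1 (hLV (hKL hk)) _).1 (V.inv_mem hv))
      · rw [commutatorElement_def]
        exact K.mul_mem ((Subgroup.mem_normalizer_iff.1 (hRK (D.coreLe (hVQ hv))) k).1 hk) (K.inv_mem hk)
      · exact Subgroup.centralizer_le (SetLike.coe_subset_coe.2 hVU) (hKU hk)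
    obtain ⟨b, hb, hxb⟩ := D.lineInv x hx
    refine hxb (comm_mem_of_centralizes hG hL (D.le hx.1) ?_ hb)
    exact (sup_le hKV (PLocal.le_centralizer_omegaCenterOf Q) : K ⊔ Q ≤ _) hxKQ
  exact ⟨hodd, hcomm, hindex, hclause, hp.card_wOf hW, hp.wOf_sq⟩

theorem le_of_forall_comp (D : LocalData T L R) (hG : ZNHyp G) (hL : L ∈ Cfsg.jOvergroups T)
    {N : Subgroup G} (hQ : Cfsg.pCoreOf 2 L ≤ N)
    (h : ∀ K, Cfsg.IsJComponent T K → K ≤ L → K ≤ N) : R ≤ N := by
  refine D.gen.trans (sup_le hQ ((Subgroup.closure_le _).2 fun x hx => ?_))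
  obtain ⟨K, hK, hKL, hxK, -⟩ := D.exists_comp_of_line hG hL hx
  exact (sup_le (h K hK hKL) hQ : K ⊔ Cfsg.pCoreOf 2 L ≤ N) hxK

theorem le_sup_normalizer (D : LocalData T L R) (hL : L ∈ Cfsg.jOvergroups T) :
    L ≤ R ⊔ (L ⊓ Subgroup.normalizer (jT T : Set G)) := by
  haveI : Fact (Nat.Prime 2) := ⟨Nat.prime_two⟩
  obtain ⟨S, hS⟩ := (isSylowIn_of_two hL.1).exists_sylow
  have hXL : R ⊔ jT T ≤ L := sup_le D.le (jT_le hL)
  set X := (R ⊔ jT T).subgroupOf L with hX
  haveI : X.Normal := Subgroup.normal_subgroupOf_of_le_normalizer D.supNorm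
  have htop := PLocal.normalizer_inf_sup_eq_top S X
  have hmap : X.map L.subtype = R ⊔ jT T := Subgroup.map_subgroupOf_eq_of_le hXL
  set P := ((S : Subgroup L) ⊓ X).map L.subtype with hP
  have hPeq : P = T ⊓ (R ⊔ jT T) := by
    rw [hP, Subgroup.map_inf _ _ _ L.subtype_injective, hmap, ← hS]
  have hJP : jT P = jT T :=
    jT_eq_of_le hL.1 (hPeq ▸ hL.1.2.1.to_le inf_le_left) (hPeq ▸ inf_le_left.trans hL.1.1)
      (hPeq ▸ le_inf (PGroups.thompsonSubgroupOf_le 2 T) le_sup_right)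
  have hN : (Subgroup.normalizer (((S : Subgroup L) ⊓ X : Subgroup L) : Set L)).map L.subtype ≤
      L ⊓ Subgroup.normalizer (jT T : Set G) := by
    refine le_inf (Subgroup.map_subtype_le _) ?_
    rw [← hJP]
    refine le_trans ?_ (normalizer_le_normalizer_jT P)
    exact Subgroup.le_normalizer_map _
  have h1 : L ≤ (R ⊔ jT T) ⊔ (L ⊓ Subgroup.normalizer (jT T : Set G)) := by
    calc L = (⊤ : Subgroup L).map L.subtype := by rw [← MonoidHom.range_eq_map, Subgroup.range_subtype]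
      _ = _ := by rw [← htop, Subgroup.map_sup]
      _ ≤ _ := sup_le (hN.trans le_sup_right) (hmap.le.trans le_sup_left)
  refine h1.trans (sup_le (sup_le le_sup_left ?_) le_sup_right)
  exact le_sup_of_le_right (le_inf (jT_le hL) Subgroup.le_normalizer)

theorem inf_normalizer_wOf_le (D : LocalData T L R) (hG : ZNHyp G) (hL : L ∈ Cfsg.jOvergroups T)
    (hK : Cfsg.IsJComponent T K) (hKL : K ≤ L) :
    L ⊓ Subgroup.normalizer (Cfsg.wOf K : Set G) ≤ Subgroup.normalizer (K : Set G) := by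
  rintro g ⟨hgL, hgW⟩
  have hRK := D.le_normalizer_of_comp hG hL hK hKL
  have h := D.le_sup_normalizer hL hgL
  have hn : L ⊓ Subgroup.normalizer (jT T : Set G) ≤ Subgroup.normalizer (R : Set G) := inf_le_left.trans D.norm
  have h' : g ∈ ((R ⊔ (L ⊓ Subgroup.normalizer (jT T : Set G)) : Subgroup G) : Set G) := h
  rw [Subgroup.coe_mul_of_right_le_normalizer_left R _ hn] at h'
  obtain ⟨r, hr, n, hn', rfl⟩ := h'
  have hnW : n ∈ Subgroup.normalizer (Cfsg.wOf K : Set G) := by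
    have := mul_mem (inv_mem (normalizer_le_normalizer_wOf K (hRK hr))) hgW
    rwa [inv_mul_cancel_left] at this
  refine mul_mem (hRK hr) (mem_normalizer_iff_map.2 ?_)
  have hcomp := isJComponent_map_of_normalizes hn'.2 hK
  have hleL : K.map (MulAut.conj n).toMonoidHom ≤ L := by
    rintro _ ⟨k, hk, rfl⟩
    exact L.mul_mem (L.mul_mem hn'.1 (hKL hk)) (L.inv_mem hn'.1)
  have hWeq : Cfsg.wOf (K.map (MulAut.conj n).toMonoidHom) = Cfsg.wOf K := by
    rw [← map_wOf _ (MulAut.conj n).injective, mem_normalizer_iff_map.1 hnW]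
  have hne : Cfsg.wOf K ≠ ⊥ := fun e => by
    have := hK.2.2.2.2.1
    rw [e, Subgroup.card_bot] at this
    omega
  obtain ⟨w, hw, hw1⟩ := (Subgroup.bot_or_exists_ne_one _).resolve_left hne
  exact D.eq_of_mem_wOf hG hL hcomp hleL hK hKL (hWeq.symm ▸ hw) hw hw1

theorem exists_comp (D : LocalData T L R) (hG : ZNHyp G) (hL : L ∈ Cfsg.jOvergroups T) :
    ∃ K, Cfsg.IsJComponent T K ∧ K ≤ L := by
  by_contra hc
  push Not at hc
  have hR : R ≤ Cfsg.pCoreOf 2 L := D.le_of_forall_comp hG hL le_rfl fun K hK hKL => absurd hKL (hc K hK)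
  refine hL.2.1 fun x hx => D.cent x hx fun r hr => ?_
  rw [commutatorElement_def]
  exact Subgroup.mul_mem _
    ((Subgroup.mem_normalizer_iff.1 (CharP.le_normalizer_pCoreOf 2 L (jT_le hL hx)) r).1 (hR hr))
    (Subgroup.inv_mem _ (hR hr))

end LocalData

end Cfsg.Agent.Lib.LAEven56.JComp
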