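import Cfsg.Agent.Lib.LAEven56.JComp.Second

/-!
# Pairs over a maximal straddling subgroup

Owner: helper56.
-/

set_option autoImplicit false
set_option linter.style.haveILetI false
set_option linter.unusedSectionVars false

open Cfsg
open scoped commutatorElement

namespace Cfsg.Agent.Lib.LAEven56.JComp

open Cfsg.Agent.Lib

variable {G : Type*} [Group G] [Finite G] {M T K L K' L' : Subgroup G}

theorem Frame.exists_vertex (F : Frame G M) (hT : T ∈ Cfsg.maxStraddlingTwoSubgroups M)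
    (hK : K ∈ Cfsg.jComponentsOutside M T) : ∃ L, Vertex T K L := by
  obtain ⟨L, hL, hKL, huniq, -, hsyl⟩ := F.uniqueness hT hK
  exact ⟨L, hL, F.mem_jOvergroups hT hL.1 (fun h => hK.2.1 ((le_sup_left.trans hKL).trans h)) hsyl.1,
    hK.1.1, le_sup_left.trans hKL, huniq⟩

theorem Frame.exists_pair (F : Frame G M) (hT : T ∈ Cfsg.maxStraddlingTwoSubgroups M) :
    ∃ K L K' L', Pair T K L K' L' := by
  obtain ⟨K, hK⟩ := F.outside_nonempty hT
  obtain ⟨L, v⟩ := F.exists_vertex hT hK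
  obtain ⟨K', L', p⟩ := v.exists_pair F.zn F.core
  exact ⟨K, L, K', L', p⟩

namespace Pair

theorem comp_ne (p : Pair T K L K' L') : K ≠ K' := fun e =>
  p.ne (p.right.uniq L p.left.maximal (e ▸ p.left.sup_le))

theorem core_sup_eq_bot (p : Pair T K L K' L') (hG : ZNHyp G) :
    Cfsg.pCoreOf 2 ((K ⊔ T) ⊔ (K' ⊔ T)) = ⊥ := by
  by_contra hne
  obtain ⟨X, hX, hle⟩ := exists_maximal_ge (isTwoLocal_normalizer (CharP.isPGroup_pCoreOf 2 _) hne)
  have h := (CharP.le_normalizer_pCoreOf 2 ((K ⊔ T) ⊔ (K' ⊔ T))).trans hle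
  refine p.ne ((p.left.uniq X hX ?_).symm.trans (p.right.uniq X hX ?_))
  · exact sup_le (le_trans (le_trans le_sup_left le_sup_left) h)
      (le_trans ((PGroups.thompsonSubgroupOf_le 2 T).trans (le_trans le_sup_right le_sup_left)) h)
  · exact sup_le (le_trans (le_trans le_sup_left le_sup_right) h)
      (le_trans ((PGroups.thompsonSubgroupOf_le 2 T).trans (le_trans le_sup_right le_sup_left)) h)

theorem relIndex_core (p : Pair T K L K' L') (hG : ZNHyp G) : (Cfsg.pCoreOf 2 L).relIndex L = 6 := by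
  have hmul : (Cfsg.pCoreOf 2 L).relIndex L * Nat.card (Cfsg.pCoreOf 2 L) = Nat.card L := by
    rw [Subgroup.relIndex, ← Subgroup.index_mul_card ((Cfsg.pCoreOf 2 L).subgroupOf L),
      Nat.card_congr (Subgroup.subgroupOfEquivOfLe (CharP.pCoreOf_le 2 L)).toEquiv]
  rw [p.card_core hG, p.card_local hG] at hmul
  have h := Nat.card_pos (α := cK T K)
  nlinarith

theorem commutator_not_le (p : Pair T K L K' L') (hG : ZNHyp G) :
    ¬ ⁅K ⊔ T, K ⊔ T⁆ ≤ Cfsg.pCoreOf 2 L := fun h =>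
  not_isPGroup_of_comp p.left.comp (CharP.isPGroup_pCoreOf 2 L) <| by
    calc K = ⁅K, jT T⁆ := p.left.comp.2.1.symm
      _ ≤ ⁅K ⊔ T, K ⊔ T⁆ := Subgroup.commutator_mono le_sup_left
          ((PGroups.thompsonSubgroupOf_le 2 T).trans le_sup_right)
      _ ≤ _ := h

theorem omegaCenter_comm_ne_bot (p : Pair T K L K' L') (hG : ZNHyp G) :
    ⁅Cfsg.omegaCenterOf T, K ⊔ T⁆ ≠ ⊥ := by
  rw [p.omegaCenter_eq hG]
  intro h
  obtain ⟨w, hw, hw1, hwc⟩ := exists_wZ p.left.two p.left.comp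
  refine hwc ⟨hw.1, Subgroup.mem_centralizer_iff.2 fun k hk => ?_⟩
  exact Subgroup.mem_centralizer_iff.1
    (Subgroup.commutator_eq_bot_iff_le_centralizer.1 h hw.1) k (Subgroup.mem_sup_left hk)

/-- The case distinction for `Ω₁Z(S)`. -/
theorem omega_cases (p : Pair T K L K' L') (hG : ZNHyp G) (S : Sylow 2 G) (hTS : T ≤ (S : Subgroup G)) :
    zJ T ⊓ Cfsg.wOf K ≠ ⊥ ∧
      ((Cfsg.omegaCenterOf (S : Subgroup G) = zJ T ∧ Nat.card (zJ T) = 2) ∨
        (Cfsg.omegaCenterOf (S : Subgroup G) = zJ T ∧ Nat.card (zJ T) = 4 ∧ T = (S : Subgroup G)) ∨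
        (Cfsg.omegaCenterOf T = zJ T ∧ Nat.card (zJ T) = 4 ∧
          (L ⊓ Subgroup.centralizer (zJ T : Set G)).relIndex (Subgroup.normalizer (zJ T : Set G)) = 2)) := by
  haveI : Fact (Nat.Prime 2) := ⟨Nat.prime_two⟩
  have hT := p.left.two
  refine ⟨fun e => ?_, ?_⟩
  · have := (split hT p.left.comp).2.1
    rw [show Cfsg.omegaCenterOf (jT T) ⊓ Cfsg.wOf K = ⊥ from e, Subgroup.card_bot] at this
    omega
  set Z := Cfsg.omegaCenterOf (S : Subgroup G) with hZdef
  have hT1 : T ≠ ⊥ := fun e => not_isPGroup_of_comp p.left.comp IsPGroup.of_bot (by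
    have h2 := p.left.comp.2.1
    have hJ0 : jT T = ⊥ := le_bot_iff.1 ((PGroups.thompsonSubgroupOf_le 2 T).trans e.le)
    change ⁅K, jT T⁆ = K at h2
    rw [hJ0, Subgroup.commutator_bot_right] at h2
    exact h2.symm.le)
  have hZne : Z ≠ ⊥ := omegaCenter_ne_bot S.isPGroup' fun e => hT1 (le_bot_iff.1 (e ▸ hTS))
  have hZle : Z ≤ zJ T := (p.left.omegaCenter_sylow_le S hTS).trans p.left.omegaCenter_le
  have hcard : Nat.card (zJ T) = 2 ∨ Nat.card (zJ T) = 4 := by
    have h1 := card_zJ hT p.left.comp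
    have := p.card_cK_le
    have := Nat.card_pos (α := cK T K)
    omega
  rcases hcard with h2 | h4
  · refine Or.inl ⟨Subgroup.eq_of_le_of_card_ge hZle ?_, h2⟩
    have h3 : Nat.card Z ≠ 1 := fun e => hZne (Subgroup.card_eq_one.1 e)
    have := Nat.card_pos (α := Z)
    omega
  obtain ⟨c, hc, hc1⟩ : ∃ c ∈ cK T K, c ≠ 1 := by
    refine (Subgroup.bot_or_exists_ne_one _).resolve_left fun e => ?_
    have h1 := card_zJ hT p.left.comp
    rw [e, Subgroup.card_bot] at h1
    omega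
  have hCc : Subgroup.centralizer ({c} : Set G) = L := p.local_eq_centralizer hG hc hc1
  have hnot : ∀ y ∈ (S : Subgroup G), y ∈ Subgroup.normalizer (T : Set G) → y * c * y⁻¹ = c → y ∈ T := by
    intro y hy hyN hyc
    refine p.left.mem_T S.isPGroup' hy ?_ hyN
    rw [← hCc]
    exact Subgroup.mem_centralizer_singleton_iff.2 (mul_inv_eq_iff_eq_mul.1 hyc)
  by_cases hZ : Z = zJ T
  · refine Or.inr (Or.inl ⟨hZ, h4, le_antisymm hTS (not_not.1 fun hlt => ?_)⟩)
    obtain ⟨y, hy, hyT, hyN⟩ := exists_normalizing S.isPGroup' hTS hlt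
    refine hyT (hnot y hy hyN (conj_eq_of_comm ?_))
    exact Subgroup.mem_centralizer_iff.1 (PLocal.le_centralizer_omegaCenterOf _ hy) c (hZ.symm ▸ hc.1)
  refine Or.inr (Or.inr ⟨p.omegaCenter_eq hG, h4, ?_⟩)
  obtain ⟨z, hz, hz1⟩ := (Subgroup.bot_or_exists_ne_one _).resolve_left hZne
  have hSz : ∀ y ∈ (S : Subgroup G), y * z * y⁻¹ = z := fun y hy =>
    conj_eq_of_comm (Subgroup.mem_centralizer_iff.1 (PLocal.le_centralizer_omegaCenterOf _ hy) z hz)
  have hTlt : ¬ (S : Subgroup G) ≤ T := fun h => hZ <| by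
    change Cfsg.omegaCenterOf (S : Subgroup G) = zJ T
    rw [← le_antisymm hTS h, p.omegaCenter_eq hG]
  obtain ⟨g, hg, hgT, hgN⟩ := exists_normalizing S.isPGroup' hTS hTlt
  have hgZ : g ∈ Subgroup.normalizer (zJ T : Set G) := by
    rw [mem_normalizer_iff_map]
    change (PLocal.omegaCenterOf 2 (jT T)).map _ = _
    rw [PLocal.map_omegaCenterOf _ (MulAut.conj g).injective,
      mem_normalizer_iff_map.1 (normalizer_le_normalizer_jT T hgN)]
    rfl
  set c' := g * c * g⁻¹ with hc'd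
  have hc'c : c' ≠ c := fun e => hgT (hnot g hg hgN e)
  have hc'J : c' ∈ zJ T := (Subgroup.mem_normalizer_iff.1 hgZ c).1 hc.1
  have hc'1 : c' ≠ 1 := fun e => hc1 (conj_eq_one_iff.1 e)
  have hgg : g * z * g⁻¹ = z := hSz g hg
  have hzJz : z ∈ zJ T := hZle hz
  -- nothing moves `z` to `c`
  have hcard_lt : Nat.card T < Nat.card (S : Subgroup G) := by
    by_contra hcon
    exact hTlt (Subgroup.eq_of_le_of_card_ge hTS (by omega)).ge
  have hmove : ∀ n : G, n * z * n⁻¹ ≠ c := by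
    intro n e
    have hle : (S : Subgroup G).map (MulAut.conj n).toMonoidHom ≤ L := by
      rw [← hCc]
      rintro _ ⟨y, hy, rfl⟩
      refine Subgroup.mem_centralizer_singleton_iff.2 (mul_inv_eq_iff_eq_mul.1 ?_)
      change n * y * n⁻¹ * c * (n * y * n⁻¹)⁻¹ = c
      rw [← e, show n * y * n⁻¹ * (n * z * n⁻¹) * (n * y * n⁻¹)⁻¹ = n * (y * z * y⁻¹) * n⁻¹ by group, hSz y hy]
    obtain ⟨X, hX, hSX⟩ := exists_sylowTwoIn (S.isPGroup'.map _) hle
    have h := Subgroup.card_le_of_le hSX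
    rw [Subgroup.card_map_of_injective (MulAut.conj n).injective, (isSylowIn_of_two hX).card_eq,
      ← (isSylowIn_of_two p.left.mem.1).card_eq] at h
    omega
  have hzc : z ≠ c := fun e => hmove 1 (by simpa using e)
  have hzc' : z ≠ c' := fun e => hzc (mul_left_cancel (mul_right_cancel (e.trans hc'd |> hgg.trans)))
  have hCle : L ⊓ Subgroup.centralizer (zJ T : Set G) = Subgroup.centralizer (zJ T : Set G) := by
    refine inf_eq_right.2 ?_
    rw [← hCc]
    exact Subgroup.centralizer_le (Set.singleton_subset_iff.2 hc.1)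
  rw [hCle, Subgroup.relIndex, Subgroup.index_eq_two_iff]
  have hN4 : ∀ b ∈ Subgroup.normalizer (zJ T : Set G), b * z * b⁻¹ = z ∧ (b * c * b⁻¹ = c ∨ b * c * b⁻¹ = c') := by
    intro b hb
    have hcc : c * c = 1 := by rw [← pow_two]; exact (zJ_elemAb T).2 c hc.1
    have hc'ne : c' ≠ c := hc'c
    have hzeq : z = c' * c := by
      rcases four_cases h4 hc.1 hc1 hcc hc'J hc'1 hc'c hzJz with e | e | e | e
      · exact absurd e hz1
      · exact absurd e hzc
      · exact absurd e hzc'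
      · exact e
    have hbz : b * z * b⁻¹ = z := by
      rcases four_cases h4 hc.1 hc1 hcc hc'J hc'1 hc'c ((Subgroup.mem_normalizer_iff.1 hb z).1 hzJz) with
        e | e | e | e
      · exact absurd (conj_eq_one_iff.1 e) hz1
      · exact absurd e (hmove b)
      · refine absurd ?_ (hmove (g⁻¹ * b))
        calc g⁻¹ * b * z * (g⁻¹ * b)⁻¹ = g⁻¹ * (b * z * b⁻¹) * g := by group
          _ = c := by rw [e, hc'd]; group
      · exact e.trans hzeq.symm
    refine ⟨hbz, ?_⟩
    rcases four_cases h4 hc.1 hc1 hcc hc'J hc'1 hc'c ((Subgroup.mem_normalizer_iff.1 hb c).1 hc.1) with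
      e | e | e | e
    · exact absurd (conj_eq_one_iff.1 e) hc1
    · exact Or.inl e
    · exact Or.inr e
    · exact absurd (mul_left_cancel (mul_right_cancel ((e.trans hzeq.symm).trans hbz.symm))).symm hzc
  have hmemC : ∀ b ∈ Subgroup.normalizer (zJ T : Set G),
      (b ∈ Subgroup.centralizer (zJ T : Set G) ↔ b * c * b⁻¹ = c) := by
    intro b hb
    constructor
    · intro h
      exact conj_eq_of_comm (Subgroup.mem_centralizer_iff.1 h c hc.1)
    · intro h
      exact mem_centralizer_of_two h4 hc.1 hc1 hzJz hz1 hzc (mul_inv_eq_iff_eq_mul.1 h)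
        (mul_inv_eq_iff_eq_mul.1 (hN4 b hb).1)
  refine ⟨⟨g, hgZ⟩, fun b => ?_⟩
  rw [Subgroup.mem_subgroupOf, Subgroup.mem_subgroupOf, Subgroup.coe_mul, hmemC _ b.2,
    hmemC _ (Subgroup.mul_mem _ b.2 hgZ)]
  change Xor ((b : G) * g * c * ((b : G) * g)⁻¹ = c) ((b : G) * c * (b : G)⁻¹ = c)
  rw [show (b : G) * g * c * ((b : G) * g)⁻¹ = (b : G) * c' * (b : G)⁻¹ by rw [hc'd]; group]
  rcases (hN4 b b.2).2 with e | e
  · exact Or.inr ⟨e, fun h => hc'c (mul_left_cancel (mul_right_cancel (h.trans e.symm)))⟩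
  · refine Or.inl ⟨?_, fun h => hc'c (e.symm.trans h)⟩
    rcases four_cases h4 hc.1 hc1 (by rw [← pow_two]; exact (zJ_elemAb T).2 c hc.1) hc'J hc'1 hc'c
      ((Subgroup.mem_normalizer_iff.1 b.2 c').1 hc'J) with f | f | f | f
    · exact absurd (conj_eq_one_iff.1 f) hc'1
    · exact f
    · exact absurd (mul_left_cancel (mul_right_cancel (f.trans e.symm))) hc'c
    · exfalso
      have hzeq : z = c' * c := by
        rcases four_cases h4 hc.1 hc1 (by rw [← pow_two]; exact (zJ_elemAb T).2 c hc.1) hc'J hc'1 hc'c hzJz with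
          e' | e' | e' | e'
        · exact absurd e' hz1
        · exact absurd e' hzc
        · exact absurd e' hzc'
        · exact e'
      exact hzc' (mul_left_cancel (mul_right_cancel ((f.trans hzeq.symm).trans (hN4 b b.2).1.symm))).symm

end Pair

end Cfsg.Agent.Lib.LAEven56.JComp
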