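import Cfsg.Agent.Lib.LAEven56.JComp.Comps
import Cfsg.Agent.Lib.Involutions.StronglyEmbedded

/-!
# The straddling 2-subgroups of `M ⊇ N(J(S))`

Owner: helper56.
-/

set_option autoImplicit false
set_option linter.style.haveILetI false
set_option linter.unusedSectionVars false

open Cfsg
open scoped commutatorElement

namespace Cfsg.Agent.Lib.LAEven56.JComp

open Cfsg.Agent.Lib

variable {G : Type*} [Group G] [Finite G]

theorem exists_invol_of_ne_bot {P : Subgroup G} (hP : IsPGroup 2 P) (h : P ≠ ⊥) :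
    ∃ z ∈ P, orderOf z = 2 := by
  haveI : Fact (Nat.Prime 2) := ⟨Nat.prime_two⟩
  obtain ⟨n, hn⟩ := IsPGroup.iff_card.1 hP
  have hn0 : n ≠ 0 := fun e => h (Subgroup.card_eq_one.1 (by rw [hn, e, pow_zero]))
  obtain ⟨t, ht⟩ := Involutions.Basic.exists_invol (G := P) (by rw [hn]; exact even_two.pow_of_ne_zero hn0)
  exact ⟨t, t.2, by rw [Subgroup.orderOf_coe, ht]⟩

theorem jT_ne_bot {T : Subgroup G} (hT : IsPGroup 2 T) (h : T ≠ ⊥) : jT T ≠ ⊥ := by
  haveI : Fact (Nat.Prime 2) := ⟨Nat.prime_two⟩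
  obtain ⟨z, hz, hz2⟩ := exists_invol_of_ne_bot hT h
  obtain ⟨A, hA⟩ := PGroups.maxElemAbIn_nonempty 2 T
  intro hbot
  have hA1 : A = ⊥ := le_bot_iff.1 (hbot ▸ PGroups.le_thompsonSubgroupOf hA)
  have hle := hA.2.2 (Subgroup.zpowers z) (Subgroup.zpowers_le.2 hz)
    (PGroups.elemAb_zpowers (by rw [← hz2, pow_orderOf_eq_one]))
  rw [hA1, Subgroup.card_bot, Nat.card_zpowers, hz2] at hle
  omega

/-- The hypotheses on `M`. -/
structure Frame (G : Type*) [Group G] [Finite G] (M : Subgroup G) : Prop where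
  zn : ZNHyp G
  core : Cfsg.pCore 2 G = ⊥
  local' : Cfsg.IsTwoLocal M
  sylow : ∃ S : Sylow 2 G, Subgroup.normalizer (jT (S : Subgroup G) : Set G) ≤ M

variable {M : Subgroup G}

namespace Frame

theorem ne_top (F : Frame G M) : M ≠ ⊤ := by
  obtain ⟨P, hP, hP1, hM⟩ := F.local'
  intro h
  refine hP1 (le_bot_iff.1 ?_)
  rw [← F.core, ← CharP.pCoreOf_top]
  refine CharP.le_pCoreOf hP le_top ?_
  rw [← hM, h]

theorem sylow_le (F : Frame G M) : ∃ S : Sylow 2 G, (S : Subgroup G) ≤ M ∧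
    Subgroup.normalizer (jT (S : Subgroup G) : Set G) ≤ M := by
  obtain ⟨S, hS⟩ := F.sylow
  exact ⟨S, (le_normalizer_jT _).trans hS, hS⟩

theorem stronglyEmbedded_iff (F : Frame G M) :
    Cfsg.IsStronglyEmbedded M ↔ Cfsg.straddlingTwoSubgroups M = ∅ := by
  haveI : Fact (Nat.Prime 2) := ⟨Nat.prime_two⟩
  constructor
  · intro hSE
    refine Set.eq_empty_iff_forall_notMem.2 ?_
    rintro T ⟨hT, hT1, hTM, _, ⟨P, hP, hP1, rfl⟩, hTL, hLM⟩
    obtain ⟨t, htT, ht2⟩ := exists_invol_of_ne_bot hT hT1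
    set V := PLocal.omegaCenterOf 2 P
    have hVP : V ≤ P := PLocal.omegaCenterOf_le P
    have hV1 : V ≠ ⊥ := by
      obtain ⟨c, hc, hc1⟩ := (Subgroup.bot_or_exists_ne_one _).resolve_left
        (PLocal.fixOn_ne_bot (p := 2) (A := P) (V := P) Subgroup.le_normalizer
          (PLocal.pActsOn_of_isPGroup hP) hP hP1)
      obtain ⟨hcP, hcf⟩ := PLocal.mem_fixOn.1 hc
      intro hV
      have hZ : P ⊓ Subgroup.centralizer (P : Set G) = ⊥ :=
        CosetGraph.SylowIn.eq_bot_of_omegaOne_eq_bot (p := 2) (hP.to_le inf_le_left) hV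
      exact hc1 (Subgroup.mem_bot.1 (hZ ▸ ⟨hcP, Subgroup.mem_centralizer_iff.2 fun a ha => hcf a ha⟩))
    have hNV : Subgroup.normalizer (P : Set G) ≤ Subgroup.normalizer (V : Set G) := fun g hg => by
      rw [mem_normalizer_iff_map] at hg ⊢
      rw [PLocal.map_omegaCenterOf _ (MulAut.conj g).injective, hg]
    obtain ⟨u, hu, hu1⟩ := (Subgroup.bot_or_exists_ne_one _).resolve_left
      (PLocal.fixOn_ne_bot (p := 2) ((Subgroup.zpowers_le.2 (hTL htT)).trans hNV)
        (PLocal.pActsOn_of_isPGroup (hT.to_le (Subgroup.zpowers_le.2 htT))) (hP.to_le hVP) hV1)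
    obtain ⟨huV, huf⟩ := PLocal.mem_fixOn.1 hu
    have hu2 : orderOf u = 2 := orderOf_eq_prime ((PLocal.omegaCenterOf_elemAb P).2 u huV) hu1
    have huM : u ∈ M := by
      refine Involutions.StronglyEmbedded.mem_of_conj_mem hSE ht2 (hTM htT) ?_
      rw [← huf t (Subgroup.mem_zpowers t), mul_inv_cancel_right]
      exact hTM htT
    have hPM : P ≤ M := fun x hx => by
      refine Involutions.StronglyEmbedded.mem_of_conj_mem hSE hu2 huM ?_
      rw [← (Subgroup.mem_centralizer_iff.1 (PLocal.le_centralizer_omegaCenterOf P hx) u huV),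
        mul_inv_cancel_right]
      exact huM
    exact hLM fun g hg => Involutions.StronglyEmbedded.mem_of_conj_mem hSE hu2 huM
      (hPM ((Subgroup.mem_normalizer_iff.1 hg u).1 (hVP huV)))
  · intro h
    obtain ⟨S, hSM, -⟩ := F.sylow_le
    have hS1 : (S : Subgroup G) ≠ ⊥ := S.ne_bot_of_dvd_card (even_iff_two_dvd.1 F.zn.char2.1)
    refine (Involutions.StronglyEmbedded.isStronglyEmbedded_iff_normalizer F.ne_top (S.subtype hSM) ?_).2 fun X hX hX1 => ?_
    · intro e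
      refine hS1 ?_
      rw [← Subgroup.map_subgroupOf_eq_of_le hSM]
      rw [Sylow.coe_subtype] at e
      rw [e, Subgroup.map_bot]
    · by_contra hN
      have hne : X.map M.subtype ≠ ⊥ := fun e =>
        hX1 ((Subgroup.map_eq_bot_iff_of_injective _ M.subtype_injective).1 e)
      have hp : IsPGroup 2 (X.map M.subtype) := (((S.subtype hSM).2).to_le hX).map _
      have hmem : X.map M.subtype ∈ Cfsg.straddlingTwoSubgroups M :=
        ⟨hp, hne, Subgroup.map_subtype_le X, _, isTwoLocal_normalizer hp hne, Subgroup.le_normalizer, hN⟩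
      rw [h] at hmem
      exact hmem

variable {T : Subgroup G}

/-- A straddling subgroup containing `J(T)` ties with `T`. -/
theorem tie (hT : T ∈ Cfsg.maxStraddlingTwoSubgroups M) {T' : Subgroup G}
    (hT' : T' ∈ Cfsg.straddlingTwoSubgroups M) (h : jT T ≤ T') :
    Cfsg.maxElemAbelianOrder T' = Cfsg.maxElemAbelianOrder T ∧ jT T' = jT T ∧
      Nat.card T' ≤ Nat.card T := by
  obtain ⟨h1, h2⟩ := hT.2 T' hT'
  have ha : Cfsg.maxElemAbelianOrder T' = Cfsg.maxElemAbelianOrder T :=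
    le_antisymm h1 (maxElemAbelianOrder_mono h)
  obtain ⟨h3, h4⟩ := h2 ha
  have hle : jT T ≤ jT T' := jT_le_of_bounded h (isBoundedBy_iff.2 ha.le)
  have hJ : jT T' = jT T := (Subgroup.eq_of_le_of_card_ge hle h3).symm
  exact ⟨ha, hJ, h4 (congrArg (fun H : Subgroup G => Nat.card H) hJ)⟩

theorem normalizer_jT_le (F : Frame G M) (hT : T ∈ Cfsg.maxStraddlingTwoSubgroups M) :
    Subgroup.normalizer (jT T : Set G) ≤ M := by
  haveI : Fact (Nat.Prime 2) := ⟨Nat.prime_two⟩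
  obtain ⟨hTp, hT1, hTM, -⟩ := hT.1
  have hJp : IsPGroup 2 (jT T) := hTp.to_le (PGroups.thompsonSubgroupOf_le 2 T)
  by_contra hN
  set N := Subgroup.normalizer (jT T : Set G)
  obtain ⟨T3, hT3, hle3⟩ := exists_sylowTwoIn hTp (le_inf (le_normalizer_jT T) hTM : T ≤ N ⊓ M)
  have hmem : T3 ∈ Cfsg.straddlingTwoSubgroups M :=
    ⟨hT3.2.1, fun e => hT1 (le_bot_iff.1 (e ▸ hle3)), hT3.1.trans inf_le_right, N,
      isTwoLocal_normalizer hJp (jT_ne_bot hTp hT1), hT3.1.trans inf_le_left, hN⟩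
  have hT3T : T3 = T := (Subgroup.eq_of_le_of_card_ge hle3
    (tie hT hmem ((PGroups.thompsonSubgroupOf_le 2 T).trans hle3)).2.2).symm
  rw [hT3T] at hT3
  obtain ⟨S, hSM, hSN⟩ := F.sylow_le
  have hSylM : CosetGraph.SylowIn.IsSylowIn 2 (S : Subgroup G) M := by
    have h1 := CosetGraph.SylowIn.isSylowIn_map_sylow (S.subtype hSM)
    rwa [Sylow.coe_subtype, Subgroup.map_subgroupOf_eq_of_le hSM] at h1
  obtain ⟨S', hS', hTS'⟩ := CosetGraph.SylowIn.IsSylowIn.exists_le (p := 2) hTp hTM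
  have hTeq : T = S' := by
    refine le_antisymm hTS' ?_
    by_contra hlt
    haveI := hS'.isPGroup.isNilpotent
    have hlt' : T.subgroupOf S' < ⊤ := by
      rw [lt_top_iff_ne_top]
      intro e
      exact hlt fun x hx => (e ▸ Subgroup.mem_top (⟨x, hx⟩ : S') : (⟨x, hx⟩ : S') ∈ T.subgroupOf S')
    obtain ⟨y, hy, hyT⟩ := SetLike.exists_of_lt
      (Group.normalizerCondition_of_isNilpotent _ hlt')
    refine hyT (Subgroup.mem_subgroupOf.2 ?_)
    have hyN : (y : G) ∈ Subgroup.normalizer (T : Set G) := by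
      rw [Subgroup.mem_normalizer_iff]
      intro x
      constructor
      · intro hx
        exact (Subgroup.mem_normalizer_iff.1 hy ⟨x, hTS' hx⟩).1 hx
      · intro hx
        have hxS : x ∈ S' := by
          have := S'.mul_mem (S'.mul_mem (S'.inv_mem y.2) (hTS' hx)) y.2
          simpa [mul_assoc] using this
        exact (Subgroup.mem_normalizer_iff.1 hy ⟨x, hxS⟩).2 hx
    obtain ⟨k, hk⟩ := isPGroup_iff_pow_pow_eq_one.1 hS'.isPGroup y
    exact mem_sylowTwoIn_of_normalizer hT3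
      ⟨normalizer_le_normalizer_jT T hyN, hS'.le y.2⟩ (congrArg Subtype.val hk) hyN
  obtain ⟨m, hm, hmS⟩ := hSylM.exists_conj hS'
  apply hN
  change Subgroup.normalizer (jT T : Set G) ≤ M
  rw [hTeq, ← hmS]
  intro g hg
  have hg' : m⁻¹ * g * m ∈ Subgroup.normalizer (jT (S : Subgroup G) : Set G) := by
    rw [mem_normalizer_iff_map] at hg ⊢
    rw [← map_jT] at hg
    have h2 := congrArg (Subgroup.map (MulAut.conj m⁻¹).toMonoidHom) hg
    rw [Subgroup.map_map, Subgroup.map_map, Subgroup.map_map] at h2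
    convert h2 using 2
    · ext x; simp [mul_assoc]
    · have e : (MulAut.conj m⁻¹).toMonoidHom.comp (MulAut.conj m).toMonoidHom = MonoidHom.id G := by
        ext x; simp [mul_assoc]
      rw [e, Subgroup.map_id]
  have h3 := M.mul_mem (M.mul_mem hm (hSN hg')) (M.inv_mem hm)
  simpa [mul_assoc] using h3

/-- Every Sylow subgroup of a 2-local `L ⊄ M` containing `J(T)` lies in `M` and ties with `T`. -/
theorem sylow_of_local (F : Frame G M) (hT : T ∈ Cfsg.maxStraddlingTwoSubgroups M) {L T₀ : Subgroup G}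
    (hL : Cfsg.IsTwoLocal L) (hLM : ¬ L ≤ M) (hT₀ : Cfsg.IsSylowTwoIn T₀ L) (hJ : jT T ≤ T₀) :
    jT T₀ = jT T ∧ T₀ ∈ Cfsg.straddlingTwoSubgroups M ∧ L ∈ Cfsg.jOvergroups T₀ := by
  haveI : Fact (Nat.Prime 2) := ⟨Nat.prime_two⟩
  obtain ⟨hTp, hT1, hTM, -⟩ := hT.1
  have hJ2 : jT T ≤ T₀ ⊓ M := le_inf hJ ((PGroups.thompsonSubgroupOf_le 2 T).trans hTM)
  have hmem : T₀ ⊓ M ∈ Cfsg.straddlingTwoSubgroups M :=
    ⟨hT₀.2.1.to_le inf_le_left, fun e => jT_ne_bot hTp hT1 (le_bot_iff.1 (e ▸ hJ2)), inf_le_right, L,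
      hL, inf_le_left.trans hT₀.1, hLM⟩
  have hJeq := (tie hT hmem hJ2).2.1
  have hT0M : T₀ ≤ M := by
    by_contra hlt
    haveI := hT₀.2.1.isNilpotent
    have hlt' : M.subgroupOf T₀ < ⊤ := by
      rw [lt_top_iff_ne_top]
      intro e
      exact hlt fun x hx => (e ▸ Subgroup.mem_top (⟨x, hx⟩ : T₀) : (⟨x, hx⟩ : T₀) ∈ M.subgroupOf T₀)
    obtain ⟨y, hy, hyM⟩ := SetLike.exists_of_lt (Group.normalizerCondition_of_isNilpotent _ hlt')
    refine hyM (Subgroup.mem_subgroupOf.2 (F.normalizer_jT_le hT ?_))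
    rw [← hJeq]
    refine normalizer_le_normalizer_jT _ ?_
    rw [Subgroup.mem_normalizer_iff]
    intro x
    constructor
    · rintro ⟨hx, hxM⟩
      exact ⟨T₀.mul_mem (T₀.mul_mem y.2 hx) (T₀.inv_mem y.2),
        (Subgroup.mem_normalizer_iff.1 hy ⟨x, hx⟩).1 hxM⟩
    · rintro ⟨hx, hxM⟩
      have hxT : x ∈ T₀ := by
        have := T₀.mul_mem (T₀.mul_mem (T₀.inv_mem y.2) hx) y.2
        simpa [mul_assoc] using this
      exact ⟨hxT, (Subgroup.mem_normalizer_iff.1 hy ⟨x, hxT⟩).2 hxM⟩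
  rw [inf_eq_left.2 hT0M] at hmem hJeq
  refine ⟨hJeq, hmem, hT₀, ?_, F.zn.centralizer_pCoreOf_le hL⟩
  intro hle
  change jT T₀ ≤ _ at hle
  have hQT : Cfsg.pCoreOf 2 L ≤ T₀ := CosetGraph.SylowIn.pCoreOf_le_sylow (isSylowIn_of_two hT₀)
  have hJQ : jT (Cfsg.pCoreOf 2 L) = jT T := by
    rw [← hJeq]
    exact PGroups.thompsonSubgroupOf_eq_of_le hQT hle
  exact hLM (((CharP.le_normalizer_pCoreOf 2 L).trans (normalizer_le_normalizer_jT _)).trans
    (hJQ ▸ F.normalizer_jT_le hT))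

theorem mem_jOvergroups (F : Frame G M) (hT : T ∈ Cfsg.maxStraddlingTwoSubgroups M) {L : Subgroup G}
    (hL : Cfsg.IsTwoLocal L) (hLM : ¬ L ≤ M) (hTL : T ≤ L) : L ∈ Cfsg.jOvergroups T := by
  obtain ⟨T', hT', hle⟩ := exists_sylowTwoIn hT.1.1 hTL
  obtain ⟨-, hmem, hover⟩ := F.sylow_of_local hT hL hLM hT'
    ((PGroups.thompsonSubgroupOf_le 2 T).trans hle)
  have h := (tie hT hmem ((PGroups.thompsonSubgroupOf_le 2 T).trans hle)).2.2
  rwa [← Subgroup.eq_of_le_of_card_ge hle h] at hover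

theorem jComponentsZero_mem (F : Frame G M) (hT : T ∈ Cfsg.maxStraddlingTwoSubgroups M) {K : Subgroup G}
    (hK : Cfsg.IsJComponent T K) (hKM : ¬ K ≤ M) : K ∈ Cfsg.jComponentsZero T := by
  refine ⟨hK, fun S hJS hS => ?_⟩
  have hne : Cfsg.wOf K ≠ ⊥ := fun e => by
    have := hK.2.2.2.2.1
    rw [e, Subgroup.card_bot] at this
    omega
  exact (F.sylow_of_local hT
    (isTwoLocal_normalizer (PGroups.elemAb_isPGroup (preComp_of hT.1.1 hK).wOf_elemAb) hne)
    (fun h => hKM ((Subgroup.le_normalizer.trans (normalizer_le_normalizer_wOf K)).trans h)) hS hJS).1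

theorem outside_nonempty (F : Frame G M) (hT : T ∈ Cfsg.maxStraddlingTwoSubgroups M) :
    (Cfsg.jComponentsOutside M T).Nonempty := by
  obtain ⟨-, -, hTM, L, hL, hTL, hLM⟩ := hT.1
  have hover := F.mem_jOvergroups hT hL hLM hTL
  obtain ⟨R, D⟩ := exists_localData F.zn hover
  obtain ⟨K, hK, hKL, hKM⟩ : ∃ K, Cfsg.IsJComponent T K ∧ K ≤ L ∧ ¬ K ≤ M := by
    by_contra hc
    push Not at hc
    exact hLM ((D.le_sup_normalizer hover).trans (sup_le
      (D.le_of_forall_comp F.zn hover ((LocalData.core_le_T hover).trans hTM) hc)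
      (inf_le_right.trans (F.normalizer_jT_le hT))))
  refine ⟨K, F.jComponentsZero_mem hT hK hKM, hKM, fun e => pCoreOf_ne_bot_of_twoLocal hL ?_⟩
  refine le_bot_iff.1 (e ▸ CharP.le_pCoreOf (CharP.isPGroup_pCoreOf 2 L) ?_ ?_)
  · exact (LocalData.core_le_T hover).trans le_sup_right
  · exact (sup_le hKL hTL).trans (CharP.le_normalizer_pCoreOf 2 L)

end Frame

end Cfsg.Agent.Lib.LAEven56.JComp
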