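import Cfsg.Agent.Lib.LAEven56.JComp.Adjacent

/-!
# The `V`s of a pair do not commute, and the structure of a pair

Owner: helper56.
-/

set_option autoImplicit false
set_option linter.style.haveILetI false
set_option linter.unusedSectionVars false

open Cfsg
open scoped commutatorElement

namespace Cfsg.Agent.Lib.LAEven56.JComp

open Cfsg.Agent.Lib

variable {G : Type*} [Group G] [Finite G] {T K L K' L' X Y Z : Subgroup G}

/-- Two vertices over one `T` with commuting `V`s. -/
def Adj (X Y : Subgroup G) : Prop :=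
  ∃ T K K' : Subgroup G, Pair T K X K' Y ∧ vC Y ≤ Subgroup.centralizer (vC X : Set G)

theorem Adj.symm (h : Adj X Y) : Adj Y X := by
  obtain ⟨T, K, K', p, hc⟩ := h
  exact ⟨T, K', K, p.symm, Subgroup.le_centralizer_iff.1 hc⟩

theorem Adj.comm (h : Adj X Y) : vC Y ≤ Subgroup.centralizer (vC X : Set G) := by
  obtain ⟨T, K, K', -, hc⟩ := h
  exact hc

theorem centralizer_map_le (g : G) {A B : Subgroup G} (h : B ≤ Subgroup.centralizer (A : Set G)) :
    B.map (MulAut.conj g).toMonoidHom ≤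
      Subgroup.centralizer ((A.map (MulAut.conj g).toMonoidHom : Subgroup G) : Set G) := by
  rintro _ ⟨b, hb, rfl⟩
  refine Subgroup.mem_centralizer_iff.2 ?_
  rintro _ ⟨a, ha, rfl⟩
  rw [← map_mul, ← map_mul, Subgroup.mem_centralizer_iff.1 (h hb) a ha]

theorem Adj.map (h : Adj X Y) (g : G) :
    Adj (X.map (MulAut.conj g).toMonoidHom) (Y.map (MulAut.conj g).toMonoidHom) := by
  obtain ⟨T, K, K', p, hc⟩ := h
  refine ⟨_, _, _, p.map g, ?_⟩
  rw [← map_vC, ← map_vC]
  exact centralizer_map_le g hc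

theorem two_step (hG : ZNHyp G) (h1 : Adj X Y) (h2 : Adj X Z) :
    vC Z ≤ Subgroup.centralizer (vC Y : Set G) := by
  obtain ⟨T, K, Ky, p, hc⟩ := h1
  obtain ⟨T', K1, Kz, p', hc'⟩ := h2
  haveI : Fact (Nat.Prime 2) := ⟨Nat.prime_two⟩
  have hT := p.left.two
  obtain ⟨k, hk, hkT⟩ := (isSylowIn_of_two p.left.mem.1).exists_conj (isSylowIn_of_two p'.left.mem.1)
  have hp := preComp_of hT p.left.comp
  obtain ⟨d, hd, -, hd3, hgen⟩ := hp.exists_three
  obtain ⟨i, hi, hiN⟩ := p.sylow_cases hG hd hd3 hgen hk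
  have hdL := p.left.le hd
  have hiX : i ∈ X := by
    rcases hi with rfl | rfl | rfl <;> first | exact one_mem _ | exact hdL | exact mul_mem hdL hdL
  set f := (MulAut.conj i).toMonoidHom
  have hTi : T.map f = T' := by
    have h1 : T.map (MulAut.conj (i⁻¹ * k)).toMonoidHom = T := mem_normalizer_iff_map.1 hiN
    have h3 : (T.map (MulAut.conj (i⁻¹ * k)).toMonoidHom).map f = T.map (MulAut.conj k).toMonoidHom := by
      rw [Subgroup.map_map]; congr 1; ext x; simp [f, mul_assoc]
    rw [h1] at h3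
    rw [h3, hkT]
  have hXi : X.map f = X := mem_normalizer_iff_map.1 (Subgroup.le_normalizer hiX)
  have hKi : K.map f = K := mem_normalizer_iff_map.1 (p.local_le_normalizer hG hiX)
  have q : Pair T' K X (Ky.map f) (Y.map f) := by
    have := p.map i
    rwa [hTi, hXi, hKi] at this
  have hcq : vC (Y.map f) ≤ Subgroup.centralizer (vC X : Set G) := by
    have := centralizer_map_le i hc
    rwa [map_vC, map_vC, hXi] at this
  have hK1 : K = K1 := p'.comp_eq hG q.left.comp q.left.le
  subst hK1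
  have hZY : Z = Y.map f := by
    by_contra hne
    obtain ⟨s, hs, hs1, -⟩ := exists_wZ q.left.two q.left.comp
    exact hs1 (Pair.cK_disjoint ⟨p'.right, q.right, hne⟩ (p'.wZ_le_cK_of_comm hG hc' hs)
      (q.wZ_le_cK_of_comm hG hcq hs))
  rw [hZY, ← map_vC]
  rcases hi with rfl | rfl | rfl
  · rw [mem_normalizer_iff_map.1 (one_mem (Subgroup.normalizer (vC Y : Set G)))]
    exact fun x hx => Subgroup.mem_centralizer_iff.2 fun y hy => vC_comm hy hx
  · exact p.commute_conj hG hc hd hd3
  · refine p.commute_conj hG hc (mul_mem hd hd) ?_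
    rw [← pow_two, ← pow_mul, Nat.mul_comm, pow_mul, hd3, one_pow]

/-- Paths. -/
inductive Walk : ℕ → Subgroup G → Subgroup G → Prop
  | nil (X : Subgroup G) : Walk 0 X X
  | cons {n : ℕ} {X Y Z : Subgroup G} : Adj X Y → Walk n Y Z → Walk (n + 1) X Z

namespace Walk

theorem trans {n m : ℕ} (h : Walk n X Y) (h' : Walk m Y Z) : Walk (n + m) X Z := by
  induction h with
  | nil => rwa [Nat.zero_add]
  | cons ha _ ih => rw [Nat.add_right_comm]; exact Walk.cons ha (ih h')

theorem symm {n : ℕ} (h : Walk n X Y) : Walk n Y X := by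
  induction h with
  | nil => exact Walk.nil _
  | cons ha _ ih => exact ih.trans (Walk.cons ha.symm (Walk.nil _))

theorem snoc {n : ℕ} (h : Walk (n + 1) X Z) : ∃ Y, Walk n X Y ∧ Adj Y Z := by
  obtain ⟨⟩ | ⟨ha, hw⟩ := h.symm
  exact ⟨_, hw.symm, ha.symm⟩

theorem map {n : ℕ} (h : Walk n X Y) (g : G) :
    Walk n (X.map (MulAut.conj g).toMonoidHom) (Y.map (MulAut.conj g).toMonoidHom) := by
  induction h with
  | nil => exact Walk.nil _
  | cons ha _ ih => exact Walk.cons (ha.map g) ih

end Walk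

theorem exists_central_comm (hG : ZNHyp G) (h : Adj X Y) {u v : G} (hv : v ∈ vC Y)
    (hu : u ∈ Subgroup.centralizer (vC X : Set G)) (huv : u * v ≠ v * u) :
    ∃ c ∈ vC X, Subgroup.centralizer ({c} : Set G) = X ∧ u * v * u⁻¹ = v * c := by
  obtain ⟨T, K, K', p, hc⟩ := h
  obtain ⟨s, r, ⟨hs, hs1, hsK⟩, ⟨hr, hr1, hrK⟩, -⟩ := p.exists_edge hG hc
  have hrV : r ∈ vC X := p.cK_le_vC hG hrK
  refine ⟨r, hrV, p.local_eq_centralizer hG hrK hr1, ?_⟩
  have hus : u * s = s * u := (Subgroup.mem_centralizer_iff.1 hu s (p.wOf_le_vC hG hs.2)).symm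
  have hur : u * r = r * u := (Subgroup.mem_centralizer_iff.1 hu r hrV).symm
  have huY : u ∈ Y := by
    rw [← p.symm.local_eq_centralizer hG hsK hs1]
    exact Subgroup.mem_centralizer_singleton_iff.2 hus
  have hp' := preComp_of p.left.two p.right.comp
  have hv' : v ∈ ((Cfsg.wOf K' ⊔ cK T K' : Subgroup G) : Set G) := p.symm.omegaCore_eq hG ▸ hv
  rw [Subgroup.coe_mul_of_left_le_normalizer_right _ _ (fun w hw => Subgroup.centralizer_le_normalizer _
    (Subgroup.mem_centralizer_iff.2 fun z hz =>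
      (zJ_comm (show z ∈ cK T K' from hz).1 ((split p.left.two p.right.comp).1 hw)).symm))] at hv'
  obtain ⟨z, hz, c, hc', rfl⟩ := hv'
  have huc : u * c * u⁻¹ = c := by
    rcases eq_one_or_eq_of_card_two p.symm.card_cK_le hsK hs1 hc' with rfl | rfl
    · simp
    · exact conj_eq_of_comm hus.symm
  have huz : u * z ≠ z * u := fun e => huv (by
    change u * (z * c) = z * c * u
    rw [← mul_assoc, e, mul_assoc, mul_inv_eq_iff_eq_mul.1 huc, ← mul_assoc])
  have hz1 : z ≠ 1 := fun e => huz (by rw [e]; simp)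
  have hzr : z ≠ r := fun e => huz (e ▸ hur)
  have h1 := (conj_cases (hp'.card_wOf (wOf_ne_bot p.right.comp)) hr.2 hr1 hz hz1 hzr
    (normalizer_le_normalizer_wOf K' (p.symm.local_le_normalizer hG huY))
    (conj_eq_of_comm hur.symm)).resolve_left fun e => huz (mul_inv_eq_iff_eq_mul.1 e)
  change u * (z * c) * u⁻¹ = z * c * r
  rw [← conj_mul, h1, huc, mul_assoc, mul_assoc,
    zJ_comm hr.1 ((zJ_le_jT T) hc'.1)]

theorem walk_comm (hG : ZNHyp G) : ∀ n (X Y : Subgroup G), Walk n X Y →
    vC Y ≤ Subgroup.centralizer (vC X : Set G) := by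
  intro n
  induction n using Nat.strong_induction_on with
  | _ n ih =>
    intro X Y h
    match n, h with
    | 0, .nil _ => exact fun x hx => Subgroup.mem_centralizer_iff.2 fun y hy => vC_comm hy hx
    | 1, .cons ha (.nil _) => exact ha.comm
    | 2, .cons ha (.cons hb (.nil _)) => exact two_step hG ha.symm hb
    | m + 3, .cons (Y := a) ha hw =>
      obtain ⟨b, hw', hb⟩ := hw.snoc
      by_contra hn
      obtain ⟨v, hv, hvC⟩ := SetLike.not_le_iff_exists.1 hn
      obtain ⟨u, hu, hvu⟩ := exists_not_commute hvC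
      have huC : u ∈ Subgroup.centralizer (vC b : Set G) :=
        Subgroup.le_centralizer_iff.1 (ih (m + 2) (by omega) X b (Walk.cons ha hw')) hu
      have hvCa : v ∈ Subgroup.centralizer (vC a : Set G) := ih (m + 2) (by omega) a Y hw hv
      obtain ⟨c, hcb, hcC, huv⟩ := exists_central_comm hG hb hv huC (fun e => hvu e.symm)
      obtain ⟨c', hc'a, hc'C, hvu'⟩ := exists_central_comm hG ha.symm hu hvCa hvu
      have h1 : u * v = v * c * u := mul_inv_eq_iff_eq_mul.1 huv
      have h2 : v * u = u * c' * v := mul_inv_eq_iff_eq_mul.1 hvu'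
      have hvc' : v * c' = c' * v := (Subgroup.mem_centralizer_iff.1 hvCa c' hc'a).symm
      have huc : u * c = c * u := (Subgroup.mem_centralizer_iff.1 huC c hcb).symm
      have h3 : u * v = u * v * (c' * c) := by
        calc u * v = v * (c * u) := by rw [h1, mul_assoc]
          _ = v * u * c := by rw [← huc, mul_assoc]
          _ = u * (c' * v) * c := by rw [h2, mul_assoc u]
          _ = _ := by rw [← hvc']; group
      have h4 : c' * c = 1 := (mul_eq_left.1 h3.symm)
      have hcc : c' = c := (eq_inv_of_mul_eq_one_left h4).trans (inv_eq_of_mul_eq_one_right (vC_sq hcb))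
      have hab : a = b := by rw [← hc'C, ← hcC, hcc]
      exact hn (ih 2 (by omega) X Y (Walk.cons ha (Walk.cons (hab ▸ hb) (Walk.nil _))))

namespace Pair

/-- **The `V`s of a pair do not commute.** -/
theorem not_comm (p : Pair T K L K' L') (hG : ZNHyp G) :
    ¬ vC L' ≤ Subgroup.centralizer (vC L : Set G) := by
  intro hc
  have hA : Adj L L' := ⟨T, K, K', p, hc⟩
  let S : Set (Subgroup G) := {X | ∃ n, Walk n L X}
  set N := Subgroup.closure (⋃ X ∈ S, (vC X : Set G)) with hN
  have hNe : Cfsg.IsElementaryAbelian 2 N := by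
    refine PGroups.elemAb_closure ?_ ?_
    · intro a ha b hb
      simp only [Set.mem_iUnion] at ha hb
      obtain ⟨X, ⟨n, hX⟩, ha⟩ := ha
      obtain ⟨Y, ⟨m, hY⟩, hb⟩ := hb
      exact Subgroup.mem_centralizer_iff.1 (walk_comm hG _ X Y (hX.symm.trans hY) hb) a ha
    · intro a ha
      simp only [Set.mem_iUnion] at ha
      obtain ⟨X, -, ha⟩ := ha
      exact (PLocal.omegaCenterOf_elemAb _).2 a ha
  have hLN : ∀ X, (∃ n, Walk n L X) → X ≤ Subgroup.normalizer (N : Set G) := by
    rintro X ⟨m, hX⟩ g hg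
    rw [mem_normalizer_iff_map]
    refine Subgroup.eq_of_le_of_card_ge ?_ (Subgroup.card_map_of_injective (MulAut.conj g).injective).ge
    rw [hN, MonoidHom.map_closure]
    refine Subgroup.closure_mono ?_
    rintro _ ⟨x, hx, rfl⟩
    simp only [Set.mem_iUnion] at hx
    obtain ⟨Y, ⟨n, hY⟩, hxY⟩ := hx
    simp only [Set.mem_iUnion]
    refine ⟨Y.map (MulAut.conj g).toMonoidHom, ?_, ?_⟩
    · have h := (hX.symm.trans hY).map g
      rw [mem_normalizer_iff_map.1 (Subgroup.le_normalizer hg)] at h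
      exact ⟨_, hX.trans h⟩
    · rw [← map_vC]; exact ⟨x, hxY, rfl⟩
  have hVN : vC L ≤ N := fun x hx => Subgroup.subset_closure <| by
    simp only [Set.mem_iUnion]
    exact ⟨L, ⟨0, Walk.nil L⟩, hx⟩
  have hN1 : N ≠ ⊥ := fun e => by
    have h := Subgroup.card_le_of_le (hVN.trans e.le)
    rw [Subgroup.card_bot, p.card_omegaCore hG] at h
    have := Nat.card_pos (α := cK T K)
    omega
  have h1 := p.left.maximal.2 _ (isTwoLocal_normalizer (PGroups.elemAb_isPGroup hNe) hN1) (hLN L ⟨0, Walk.nil L⟩)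
  have h2 := p.right.maximal.2 _ (isTwoLocal_normalizer (PGroups.elemAb_isPGroup hNe) hN1)
    (hLN L' ⟨1, Walk.cons hA (Walk.nil _)⟩)
  exact p.ne (h1.symm.trans h2)

end Pair

end Cfsg.Agent.Lib.LAEven56.JComp
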