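import Cfsg.Agent.Lib.LAEven56.JComp.Frame

/-!
# Normalisers of components; uniqueness of the maximal 2-local over a component outside `M`

Owner: helper56.
-/

set_option autoImplicit false
set_option linter.style.haveILetI false
set_option linter.unusedSectionVars false

open Cfsg
open scoped commutatorElement

namespace Cfsg.Agent.Lib.LAEven56.JComp

open Cfsg.Agent.Lib

variable {G : Type*} [Group G] [Finite G] {T K : Subgroup G}

theorem wOf_ne_bot (hK : Cfsg.IsJComponent T K) : Cfsg.wOf K ≠ ⊥ := fun e => by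
  have := hK.2.2.2.2.1
  rw [e, Subgroup.card_bot] at this
  omega

theorem sup_le_normalizer_wOf (hT : IsPGroup 2 T) (hK : Cfsg.IsJComponent T K) :
    K ⊔ jT T ≤ Subgroup.normalizer (Cfsg.wOf K : Set G) :=
  sup_le (Subgroup.le_normalizer.trans (normalizer_le_normalizer_wOf K))
    ((preComp_of hT hK).le_normalizer.trans (normalizer_le_normalizer_wOf K))

theorem isTwoLocal_normalizer_wOf (hT : IsPGroup 2 T) (hK : Cfsg.IsJComponent T K) :
    Cfsg.IsTwoLocal (Subgroup.normalizer (Cfsg.wOf K : Set G)) :=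
  isTwoLocal_normalizer (PGroups.elemAb_isPGroup (preComp_of hT hK).wOf_elemAb) (wOf_ne_bot hK)

theorem maxElemAbelianOrder_eq_of_jT {T' : Subgroup G} (h : jT T' = jT T) :
    Cfsg.maxElemAbelianOrder T' = Cfsg.maxElemAbelianOrder T :=
  le_antisymm (maxElemAbelianOrder_mono (h.le.trans (PGroups.thompsonSubgroupOf_le 2 T)))
    (maxElemAbelianOrder_mono (h.ge.trans (PGroups.thompsonSubgroupOf_le 2 T')))

/-- `𝒦₀`: the normaliser of `W_K` is in the family of every Sylow subgroup containing `J(T)`. -/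
theorem zero_overgroup (hG : ZNHyp G) (hT : IsPGroup 2 T) (hK : K ∈ Cfsg.jComponentsZero T) :
    ∃ S, Cfsg.IsSylowTwoIn S (Subgroup.normalizer (Cfsg.wOf K : Set G)) ∧ jT S = jT T ∧
      Subgroup.normalizer (Cfsg.wOf K : Set G) ∈ Cfsg.jOvergroups S ∧ Cfsg.IsJComponent S K := by
  set N := Subgroup.normalizer (Cfsg.wOf K : Set G) with hN
  have hJ : IsPGroup 2 (jT T) := hT.to_le (PGroups.thompsonSubgroupOf_le 2 T)
  have hKJ := sup_le_normalizer_wOf hT hK.1
  obtain ⟨S, hS, hJS⟩ := exists_sylowTwoIn hJ (le_sup_right.trans hKJ)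
  have hJeq : jT S = jT T := hK.2 S hJS hS
  refine ⟨S, hS, hJeq, ⟨hS, ?_, hG.centralizer_pCoreOf_le (isTwoLocal_normalizer_wOf hT hK.1)⟩,
    isJComponent_congr hJeq hK.1⟩
  intro hle
  change jT S ≤ _ at hle
  rw [hJeq] at hle
  have hK2 : K ≤ Cfsg.pCoreOf 2 N := by
    calc K = ⁅K, jT T⁆ := hK.1.2.1.symm
      _ ≤ ⁅N, Cfsg.pCoreOf 2 N⁆ := Subgroup.commutator_mono (le_sup_left.trans hKJ) hle
      _ ≤ _ := by
        rw [Subgroup.commutator_comm]
        exact Subgroup.le_normalizer_iff_commutator_le_left.1 (CharP.le_normalizer_pCoreOf 2 N)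
  have h1 : K ≤ ⊥ := by
    rw [← hK.1.1]
    exact oddGen_le_of_forall fun g hg ho =>
      Subgroup.mem_bot.2 (eq_one_of_odd (CharP.isPGroup_pCoreOf 2 N) (hK2 hg) ho)
  have h2 := hK.1.2.2.1
  rw [le_bot_iff.1 h1, Subgroup.relIndex_bot_right] at h2
  omega

theorem normalizer_eq (hG : ZNHyp G) (hT : IsPGroup 2 T) (hK : K ∈ Cfsg.jComponentsZero T) :
    Subgroup.normalizer (K : Set G) = Subgroup.normalizer (Cfsg.wOf K : Set G) := by
  refine le_antisymm (normalizer_le_normalizer_wOf K) ?_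
  obtain ⟨S, hS, -, hover, hKS⟩ := zero_overgroup hG hT hK
  obtain ⟨R, D⟩ := exists_localData hG hover
  have h := D.inf_normalizer_wOf_le hG hover hKS (Subgroup.le_normalizer.trans (normalizer_le_normalizer_wOf K))
  rwa [inf_idem] at h

theorem jT_eq_conj (hG : ZNHyp G) (hT : IsPGroup 2 T) (hK : K ∈ Cfsg.jComponentsZero T) (g : G)
    {S' : Subgroup G} (hS' : Cfsg.IsSylowTwoIn S' (Subgroup.normalizer (Cfsg.wOf K : Set G)))
    (h : jT (T.map (MulAut.conj g).toMonoidHom) ≤ S') :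
    jT S' = jT (T.map (MulAut.conj g).toMonoidHom) := by
  haveI : Fact (Nat.Prime 2) := ⟨Nat.prime_two⟩
  obtain ⟨S, hS, hJ, -, -⟩ := zero_overgroup hG hT hK
  obtain ⟨n, -, rfl⟩ := (isSylowIn_of_two hS).exists_conj (isSylowIn_of_two hS')
  refine (Subgroup.eq_of_le_of_card_ge (jT_le_of_bounded h (isBoundedBy_iff.2 (le_of_eq ?_))) ?_).symm
  · rw [map_maxElemAbelianOrder, map_maxElemAbelianOrder, maxElemAbelianOrder_eq_of_jT hJ]
  · rw [card_jT_map, card_jT_map, hJ]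

theorem isJComponent_conj (hG : ZNHyp G) (hT : IsPGroup 2 T) (hK : K ∈ Cfsg.jComponentsZero T) (g : G)
    (h : jT (T.map (MulAut.conj g).toMonoidHom) ≤ Subgroup.normalizer (Cfsg.wOf K : Set G)) :
    Cfsg.IsJComponent (T.map (MulAut.conj g).toMonoidHom) K := by
  haveI : Fact (Nat.Prime 2) := ⟨Nat.prime_two⟩
  obtain ⟨S', hS', hJS'⟩ := exists_sylowTwoIn ((hT.map _).to_le (PGroups.thompsonSubgroupOf_le 2 _)) h
  have hJ' := jT_eq_conj hG hT hK g hS' hJS'
  obtain ⟨S, hS, -, -, hKS⟩ := zero_overgroup hG hT hK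
  obtain ⟨n, hn, rfl⟩ := (isSylowIn_of_two hS).exists_conj (isSylowIn_of_two hS')
  refine isJComponent_congr hJ'.symm ?_
  have h1 := isJComponent_map n hKS
  have hnK : n ∈ Subgroup.normalizer (K : Set G) := by rw [normalizer_eq hG hT hK]; exact hn
  rwa [mem_normalizer_iff_map.1 hnK] at h1

theorem zero_conj (hG : ZNHyp G) (hT : IsPGroup 2 T) (hK : K ∈ Cfsg.jComponentsZero T) (g : G)
    (h : jT (T.map (MulAut.conj g).toMonoidHom) ≤ Subgroup.normalizer (Cfsg.wOf K : Set G)) :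
    K ∈ Cfsg.jComponentsZero (T.map (MulAut.conj g).toMonoidHom) :=
  ⟨isJComponent_conj hG hT hK g h, fun _ hS hS' => jT_eq_conj hG hT hK g hS' hS⟩

theorem exists_maximal_ge {N : Subgroup G} (hN : Cfsg.IsTwoLocal N) :
    ∃ L, Cfsg.IsMaximalTwoLocal L ∧ N ≤ L := by
  obtain ⟨L, hNL, hL⟩ := (Set.toFinite {X : Subgroup G | Cfsg.IsTwoLocal X}).exists_le_maximal hN
  exact ⟨L, ⟨hL.1, fun X hX hle => le_antisymm (hL.2 hX hle) hle⟩, hNL⟩

theorem normalizer_le_of_maximal {L : Subgroup G} (hL : Cfsg.IsMaximalTwoLocal L) :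
    Subgroup.normalizer (L : Set G) ≤ L := by
  refine (normalizer_le_normalizer_pCoreOf 2 L).trans (le_of_eq ?_)
  exact hL.2 _ (isTwoLocal_normalizer (CharP.isPGroup_pCoreOf 2 L) (pCoreOf_ne_bot_of_twoLocal hL.1))
    (CharP.le_normalizer_pCoreOf 2 L)

namespace Frame

variable {M : Subgroup G}

/-- The data attached to a maximal 2-local over `K J(T)`, `K ≰ M`. -/
theorem setup (F : Frame G M) (hT : T ∈ Cfsg.maxStraddlingTwoSubgroups M) (hK : Cfsg.IsJComponent T K)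
    (hKM : ¬ K ≤ M) {L : Subgroup G} (hL : Cfsg.IsTwoLocal L) (hle : K ⊔ jT T ≤ L) :
    ∃ T' R, L ∈ Cfsg.jOvergroups T' ∧ jT T' = jT T ∧ LocalData T' L R := by
  obtain ⟨T', hT', hJT'⟩ := exists_sylowTwoIn (hT.1.1.to_le (PGroups.thompsonSubgroupOf_le 2 T))
    (le_sup_right.trans hle)
  obtain ⟨hJ, -, hover⟩ := F.sylow_of_local hT hL (fun h => hKM ((le_sup_left.trans hle).trans h)) hT' hJT'
  obtain ⟨R, D⟩ := exists_localData F.zn hover
  exact ⟨T', R, hover, hJ, D⟩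

theorem core_jT {T₀ : Subgroup G} (hJ : jT T₀ = jT T) {L R : Subgroup G} (D : LocalData T₀ L R)
    (hover : L ∈ Cfsg.jOvergroups T₀) : jT (Cfsg.pCoreOf 2 L) ≤ jT T ∧
      Cfsg.maxElemAbelianOrder (Cfsg.pCoreOf 2 L) = Cfsg.maxElemAbelianOrder T := by
  haveI : Fact (Nat.Prime 2) := ⟨Nat.prime_two⟩
  obtain ⟨A, hA, hAQ⟩ := D.coreMax
  have hQT := LocalData.core_le_T hover
  refine ⟨(PGroups.thompsonSubgroupOf_mono hQT hA hAQ).trans hJ.le, ?_⟩
  rw [maxElemAbelianOrder_eq (A := A) ⟨hAQ, hA.2.1, fun B hB => hA.2.2 B (hB.trans hQT)⟩,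
    ← maxElemAbelianOrder_eq hA,
    maxElemAbelianOrder_eq_of_jT hJ]

theorem maximal_eq (F : Frame G M) (hT : T ∈ Cfsg.maxStraddlingTwoSubgroups M) {Ka Kb La Lb : Subgroup G}
    (hKa : Cfsg.IsJComponent T Ka) (hKb : Cfsg.IsJComponent T Kb) (hKaM : ¬ Ka ≤ M) (hKbM : ¬ Kb ≤ M)
    (hLa : Cfsg.IsMaximalTwoLocal La) (hLb : Cfsg.IsMaximalTwoLocal Lb)
    (hNa : Subgroup.normalizer (Ka : Set G) ≤ La) (hNb : Subgroup.normalizer (Kb : Set G) ≤ Lb)
    (haa : Ka ⊔ jT T ≤ La) (hab : Ka ⊔ jT T ≤ Lb) (hba : Kb ⊔ jT T ≤ La) (hbb : Kb ⊔ jT T ≤ Lb) :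
    La = Lb := by
  have key : ∀ {Ka La Lb : Subgroup G}, Cfsg.IsJComponent T Ka → ¬ Ka ≤ M → Cfsg.IsMaximalTwoLocal La →
      Cfsg.IsMaximalTwoLocal Lb → Subgroup.normalizer (Ka : Set G) ≤ La → Ka ⊔ jT T ≤ La →
      Ka ⊔ jT T ≤ Lb → jT (Cfsg.pCoreOf 2 La) ≤ jT (Cfsg.pCoreOf 2 Lb) := by
    intro Ka La Lb hKa hKaM hLa hLb hNa haa hab
    obtain ⟨Ta, Ra, hoa, hJa, Da⟩ := F.setup hT hKa hKaM hLa.1 haa
    obtain ⟨Tb, Rb, hob, hJb, Db⟩ := F.setup hT hKa hKaM hLb.1 hab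
    obtain ⟨hle, hord⟩ := core_jT hJa Da hoa
    have hKb' := isJComponent_congr hJb hKa
    have hRN : Rb ≤ La :=
      (Db.le_normalizer_of_comp F.zn hob hKb' (le_sup_left.trans hab)).trans hNa
    have hsub : jT (Cfsg.pCoreOf 2 La) ≤ Cfsg.pCoreOf 2 Lb := by
      intro x hx
      have hxJ : x ∈ jT Tb := hJb.symm ▸ hle hx
      refine Db.cent x hxJ fun r hr => ?_
      have h1 : ⁅x, r⁆ ∈ jT (Cfsg.pCoreOf 2 La) := by
        rw [commutatorElement_def, show x * r * x⁻¹ * r⁻¹ = x * (r * x⁻¹ * r⁻¹) by group]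
        exact mul_mem hx ((Subgroup.mem_normalizer_iff.1 (((CharP.le_normalizer_pCoreOf 2 La).trans
          (normalizer_le_normalizer_jT _)) (hRN hr)) x⁻¹).1 (inv_mem hx))
      have h2 : ⁅x, r⁆ ∈ Rb := by
        rw [commutatorElement_def]
        exact mul_mem ((Subgroup.mem_normalizer_iff.1 (Db.norm (LocalData.jT_le hob hxJ)) r).1 hr) (inv_mem hr)
      obtain ⟨k, hk⟩ := isPGroup_iff_pow_pow_eq_one.1
        ((CharP.isPGroup_pCoreOf 2 La).to_le (PGroups.thompsonSubgroupOf_le 2 _)) ⟨_, h1⟩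
      exact Db.mem_core_of_two h2 (congrArg Subtype.val hk)
    refine jT_le_of_bounded hsub (isBoundedBy_iff.2 ?_)
    rw [hord, ← (core_jT hJb Db hob).2]
  have hJeq : jT (Cfsg.pCoreOf 2 La) = jT (Cfsg.pCoreOf 2 Lb) :=
    le_antisymm (key hKa hKaM hLa hLb hNa haa hab) (key hKb hKbM hLb hLa hNb hbb hba)
  have hmax : ∀ {L : Subgroup G}, Cfsg.IsMaximalTwoLocal L →
      Subgroup.normalizer (jT (Cfsg.pCoreOf 2 L) : Set G) = L := fun {L} hL =>
    hL.2 _ (isTwoLocal_normalizer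
      ((CharP.isPGroup_pCoreOf 2 L).to_le (PGroups.thompsonSubgroupOf_le 2 _))
      (jT_ne_bot (CharP.isPGroup_pCoreOf 2 L) (pCoreOf_ne_bot_of_twoLocal hL.1)))
      ((CharP.le_normalizer_pCoreOf 2 L).trans (normalizer_le_normalizer_jT _))
  rw [← hmax hLa, ← hmax hLb, hJeq]

theorem uniqueness (F : Frame G M) (hT : T ∈ Cfsg.maxStraddlingTwoSubgroups M)
    (hK : K ∈ Cfsg.jComponentsOutside M T) :
    ∃ L : Subgroup G, Cfsg.IsMaximalTwoLocal L ∧ K ⊔ jT T ≤ L ∧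
      (∀ L' : Subgroup G, Cfsg.IsMaximalTwoLocal L' → K ⊔ jT T ≤ L' → L' = L) ∧
      (K.subgroupOf L).IsSubnormal ∧ Cfsg.IsSylowTwoIn T L := by
  obtain ⟨⟨hKc, -⟩, hKM, hO⟩ := hK
  obtain ⟨L, hL, hNL⟩ := exists_maximal_ge (isTwoLocal_normalizer_wOf hT.1.1 hKc)
  have hKL : K ⊔ jT T ≤ L := (sup_le_normalizer_wOf hT.1.1 hKc).trans hNL
  have hNK : Subgroup.normalizer (K : Set G) ≤ L := (normalizer_le_normalizer_wOf K).trans hNL
  have huniq : ∀ L' : Subgroup G, Cfsg.IsMaximalTwoLocal L' → K ⊔ jT T ≤ L' → L' = L := by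
    intro L' hL' hKL'
    obtain ⟨T', R', hover, hJ, D'⟩ := F.setup hT hKc hKM hL'.1 hKL'
    have hKc' := isJComponent_congr hJ hKc
    have hKle : K ≤ L' := le_sup_left.trans hKL'
    refine (hL'.2 L hL.1 ?_).symm
    refine (D'.le_sup_normalizer hover).trans
      (sup_le ((D'.le_normalizer_of_comp F.zn hover hKc' hKle).trans hNK) ?_)
    rintro g ⟨hgL, hgJ⟩
    rw [hJ] at hgJ
    have hgM : g ∈ M := F.normalizer_jT_le hT hgJ
    set f := (MulAut.conj g).toMonoidHom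
    have hK2 : Cfsg.IsJComponent T (K.map f) := isJComponent_map_of_normalizes hgJ hKc
    have hK2L : K.map f ≤ L' := by
      rintro _ ⟨k, hk, rfl⟩
      exact L'.mul_mem (L'.mul_mem hgL (hKle hk)) (L'.inv_mem hgL)
    have hK2M : ¬ K.map f ≤ M := by
      intro h
      refine hKM fun k hk => ?_
      have := M.mul_mem (M.mul_mem (M.inv_mem hgM) (h ⟨k, hk, rfl⟩)) hgM
      simpa [f, mul_assoc] using this
    have hK2' := isJComponent_congr hJ hK2
    have hJg : (jT T).map f = jT T := mem_normalizer_iff_map.1 hgJ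
    have hL2 : Cfsg.IsMaximalTwoLocal (L.map f) := by
      have hloc : ∀ {X : Subgroup G} (a : G), Cfsg.IsTwoLocal X →
          Cfsg.IsTwoLocal (X.map (MulAut.conj a).toMonoidHom) := by
        rintro X a ⟨P, hP, hP1, rfl⟩
        refine ⟨P.map (MulAut.conj a).toMonoidHom, hP.map _,
          fun e => hP1 ((Subgroup.map_eq_bot_iff_of_injective _ (MulAut.conj a).injective).1 e), ?_⟩
        exact Subgroup.map_equiv_normalizer_eq P (MulAut.conj a)
      refine ⟨hloc g hL.1, fun X hX hle => ?_⟩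
      have h1 := hL.2 _ (hloc g⁻¹ hX) (fun l hl => ⟨_, hle ⟨l, hl, rfl⟩, by simp [f, mul_assoc]⟩)
      rw [← h1, map_conj_inv]
    have hN2 : Subgroup.normalizer ((K.map f : Subgroup G) : Set G) ≤ L.map f := by
      rw [show (K.map f) = K.map (MulAut.conj g).toMonoidHom from rfl,
        ← Subgroup.map_equiv_normalizer_eq K (MulAut.conj g)]
      exact Subgroup.map_mono hNK
    have e := F.maximal_eq hT hKc hK2 hKM hK2M hL hL2 hNK hN2 hKL ?_ ?_ ?_
    · exact normalizer_le_of_maximal hL (mem_normalizer_iff_map.2 e.symm)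
    · refine sup_le ((D'.comp_le hover hKc' hKle).trans
        ((D'.le_normalizer_of_comp F.zn hover hK2' hK2L).trans hN2)) ?_
      exact hJg.ge.trans (Subgroup.map_mono (le_sup_right.trans hKL))
    · exact sup_le ((D'.comp_le hover hK2' hK2L).trans
        ((D'.le_normalizer_of_comp F.zn hover hKc' hKle).trans hNK)) (le_sup_right.trans hKL)
    · rw [← hJg, ← Subgroup.map_sup]
      exact Subgroup.map_mono hKL
  have hTL : T ≤ L := by
    obtain ⟨L'', hL'', hle⟩ := exists_maximal_ge (isTwoLocal_normalizer (CharP.isPGroup_pCoreOf 2 _) hO)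
    have hKT : K ⊔ T ≤ L'' := (CharP.le_normalizer_pCoreOf 2 _).trans hle
    have := huniq L'' hL''
      ((sup_le_sup_left (PGroups.thompsonSubgroupOf_le 2 T) K).trans hKT)
    exact this ▸ le_sup_right.trans hKT
  have hover := F.mem_jOvergroups hT hL.1 (fun h => hKM ((le_sup_left.trans hKL).trans h)) hTL
  obtain ⟨R, D⟩ := exists_localData F.zn hover
  exact ⟨L, hL, hKL, huniq, D.isSubnormal F.zn hover hKc (le_sup_left.trans hKL), hover.1⟩

end Frame

end Cfsg.Agent.Lib.LAEven56.JComp
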