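import Cfsg.Agent.Lib.LAEven56.JComp.Action
import Cfsg.Agent.Lib.LAEven56.JComp.Zero
import Cfsg.Agent.Lib.LAEven54.Subnormal

/-!
# A subnormal member of `𝒦₀(Tᵍ)` inside `L ∈ jOvergroups T` is a `J(T)`-component

Owner: helper56.
-/

set_option autoImplicit false
set_option linter.style.haveILetI false
set_option linter.unusedSectionVars false

open Cfsg
open scoped commutatorElement

namespace Cfsg.Agent.Lib.LAEven56.JComp

open Cfsg.Agent.Lib

variable {G : Type*} [Group G] [Finite G] {T K L R : Subgroup G}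

/-- The 2-core of `X` normalises a subnormal subgroup generated by elements of odd order. -/
theorem core_le_normalizer_subnormal {X K : Subgroup G} (hKX : K ≤ X)
    (hK : (K.subgroupOf X).IsSubnormal) (hodd : oddGen K = K) :
    Cfsg.pCoreOf 2 X ≤ Subgroup.normalizer (K : Set G) := by
  intro o ho
  rw [mem_normalizer_iff_map]
  refine Subgroup.eq_of_le_of_card_ge ?_
    (Subgroup.card_map_of_injective (MulAut.conj o).injective).ge
  conv_lhs => rw [← hodd, map_oddGen _ (MulAut.conj o).injective]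
  refine oddGen_le_of_forall ?_
  rintro _ ⟨k, hk, rfl⟩ hko
  obtain ⟨o', ho', rfl⟩ := ho
  set k' : X := ⟨k, hKX hk⟩
  have h := LAEven54.Subnormal.mem_of_coprime (p := 2) (V := Cfsg.pCore 2 X) hK
    (Cores.pCore_isPGroup (G := X) 2) (g := o' * k' * o'⁻¹)
    (mul_mem (mul_mem (Subgroup.mem_sup_right ho') (Subgroup.mem_sup_left hk))
      (inv_mem (Subgroup.mem_sup_right ho'))) (by
        rw [← Subgroup.orderOf_coe]
        exact odd_orderOf_coprime.1 hko)
  exact h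

namespace LocalData

theorem le_normalizer_of_subnormal (D : LocalData T L R) (hG : ZNHyp G) (hL : L ∈ Cfsg.jOvergroups T)
    {T₀ : Subgroup G} (hp : PreComp T₀ K) (hcardW : Nat.card (Cfsg.wOf K) = 4)
    (hWK : Subgroup.normalizer (Cfsg.wOf K : Set G) ≤ Subgroup.normalizer (K : Set G)) (hKL : K ≤ L)
    (hsn : (K.subgroupOf (K ⊔ jT T)).IsSubnormal) : jT T ≤ Subgroup.normalizer (K : Set G) := by
  haveI : Fact (Nat.Prime 2) := ⟨Nat.prime_two⟩
  set Q := Cfsg.pCoreOf 2 L with hQdef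
  set J := jT T with hJdef
  set X := K ⊔ J with hXdef
  have hJp : IsPGroup 2 J := hL.1.2.1.to_le (PGroups.thompsonSubgroupOf_le 2 T)
  have hJL : J ≤ L := LocalData.jT_le hL
  have hXL : X ≤ L := sup_le hKL hJL
  have hXQ : X ≤ Subgroup.normalizer (Q : Set G) := hXL.trans (CharP.le_normalizer_pCoreOf 2 L)
  have hON : Cfsg.pCoreOf 2 X ≤ Subgroup.normalizer (K : Set G) :=
    core_le_normalizer_subnormal le_sup_left hsn hp.odd
  have hXR : X ≤ Subgroup.normalizer (R : Set G) := hXL.trans D.norm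
  set XR := X ⊓ R with hXR'
  have hXXR : X ≤ Subgroup.normalizer (XR : Set G) := fun x hx =>
    Subgroup.inf_normalizer_le_normalizer_inf ⟨Subgroup.le_normalizer hx, hXR hx⟩
  by_cases hcase : XR ≤ Q
  · -- `J(T) ≤ O₂(X)`
    set P0 := X ⊓ (R ⊔ J)
    have hP0 : IsPGroup 2 P0 := CharP.isPGroup_of_coprime_eq_one fun y hy hyo => by
      have hyR : y ∈ R := odd_mem_of_mem_sup (hJL.trans D.norm) hJp hy.2 (odd_orderOf_coprime.2 hyo)
      exact CharP.eq_one_of_coprime_of_mem (CharP.isPGroup_pCoreOf 2 L) (hcase ⟨hy.1, hyR⟩) hyo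
    have hn : X ≤ Subgroup.normalizer (P0 : Set G) := fun x hx =>
      Subgroup.inf_normalizer_le_normalizer_inf ⟨Subgroup.le_normalizer hx, D.supNorm (hXL hx)⟩
    exact ((le_inf le_sup_right le_sup_right : J ≤ P0).trans (CharP.le_pCoreOf hP0 inf_le_left hn)).trans hON
  -- the components lying over `X ∩ R`
  set M0 := XR ⊔ Q with hM0
  have hM0R : M0 ≤ R := sup_le inf_le_right D.coreLe
  have hXM0 : X ≤ Subgroup.normalizer (M0 : Set G) := fun x hx => by
    rw [mem_normalizer_iff_map, hM0, Subgroup.map_sup, mem_normalizer_iff_map.1 (hXXR hx),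
      mem_normalizer_iff_map.1 (hXQ hx)]
  obtain ⟨x, hxM, hxl⟩ := D.exists_line_le hL (M0 := M0) le_sup_right hM0R
    (fun h => hcase (le_sup_left.trans h)) (le_sup_right.trans hXM0)
  obtain ⟨K1, hK1, hK1L, -, hK1le⟩ := D.exists_comp_of_line hG hL hxl
  let S : Set (Subgroup G) := {K' | Cfsg.IsJComponent T K' ∧ K' ≤ L ∧ K' ≤ M0}
  have hK1S : K1 ∈ S := ⟨hK1, hK1L, hK1le.trans (sup_le (Subgroup.zpowers_le.2 hxM) le_sup_right)⟩
  have hSconj : ∀ K' ∈ S, ∀ y ∈ X, K'.map (MulAut.conj y).toMonoidHom ∈ S := by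
    rintro K' ⟨h1, h2, h3⟩ y hy
    obtain ⟨h4, h5⟩ := D.comp_conj hG hL h1 h2 (hXL hy)
    refine ⟨h4, h5, (Subgroup.map_mono h3).trans (le_of_eq (mem_normalizer_iff_map.1 (hXM0 hy)))⟩
  set V := Cfsg.omegaCenterOf Q with hV
  set E1 := ⨆ K' : S, Cfsg.wOf (K' : Subgroup G) with hE1
  have hWV : ∀ K' ∈ S, Cfsg.wOf K' ≤ V := fun K' h => D.wOf_le_omegaCore hG hL h.1 h.2.1
  have hE1V : E1 ≤ V := iSup_le fun K' => hWV K' K'.2
  have hVe : Cfsg.IsElementaryAbelian 2 V := PLocal.omegaCenterOf_elemAb Q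
  have hVJ : V ≤ J := D.omegaCore_le_jT hL
  have hVN : V ≤ Subgroup.normalizer (K : Set G) := by
    refine (CharP.le_pCoreOf (PGroups.elemAb_isPGroup hVe) (hVJ.trans le_sup_right) ?_).trans hON
    refine hXQ.trans fun g hg => ?_
    rw [mem_normalizer_iff_map] at hg ⊢
    change (PLocal.omegaCenterOf 2 Q).map _ = _
    rw [PLocal.map_omegaCenterOf _ (MulAut.conj g).injective, hg]
    rfl
  have hXE : X ≤ Subgroup.normalizer (E1 : Set G) := fun y hy => by
    rw [mem_normalizer_iff_map]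
    refine Subgroup.eq_of_le_of_card_ge ?_ (Subgroup.card_map_of_injective (MulAut.conj y).injective).ge
    rw [hE1, Subgroup.map_iSup]
    refine iSup_le fun K' => ?_
    rw [map_wOf _ (MulAut.conj y).injective]
    exact le_iSup (fun K'' : S => Cfsg.wOf (K'' : Subgroup G)) ⟨_, hSconj K' K'.2 y hy⟩
  -- `O₂(K)` centralises `E₁`
  have hPO : Cfsg.pCoreOf 2 K ≤ Cfsg.pCoreOf 2 X := by
    have hle : Cfsg.pCoreOf 2 K ≤ X := PreComp.core_le.trans le_sup_left
    have hsn' : ((Cfsg.pCoreOf 2 K).subgroupOf X).IsSubnormal := by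
      refine Subgroup.IsSubnormal.step _ (K.subgroupOf X) (Subgroup.comap_mono PreComp.core_le) hsn ?_
      refine Subgroup.normal_subgroupOf_of_le_normalizer ?_
      exact le_trans (Subgroup.comap_mono (CharP.le_normalizer_pCoreOf 2 K)) (Subgroup.le_normalizer_comap _)
    have h := Cores.IsSubnormal.le_pCore (p := 2) hsn' ((CharP.isPGroup_pCoreOf 2 K).comap_subtype)
    have h2 := Subgroup.map_mono (f := X.subtype) h
    rw [Subgroup.map_subgroupOf_eq_of_le hle] at h2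
    exact h2
  have hPE : Cfsg.pCoreOf 2 K ≤ Subgroup.centralizer (E1 : Set G) := by
    rw [Subgroup.le_centralizer_iff]
    refine iSup_le fun K' => ?_
    rw [Subgroup.le_centralizer_iff]
    intro p hp'
    obtain ⟨h1, h2, h3⟩ := K'.2
    obtain ⟨d', hd', hd3', hgen', -, hsup'⟩ := D.exists_line hL h1 h2
    have hpX : p ∈ X := (PreComp.core_le.trans le_sup_left) hp'
    have hrel : M0 ≤ relCent Q p := by
      refine sup_le (fun r hr => ⟨hXQ hr.1, ?_⟩) (self_le_relCent (hXQ hpX))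
      rw [commutatorElement_def]
      have ha : r * p * r⁻¹ * p⁻¹ ∈ Cfsg.pCoreOf 2 X :=
        mul_mem ((Subgroup.mem_normalizer_iff.1 (CharP.le_normalizer_pCoreOf 2 X hr.1) p).1 (hPO hp'))
          (inv_mem (hPO hp'))
      have hb : r * p * r⁻¹ * p⁻¹ ∈ R := by
        rw [show r * p * r⁻¹ * p⁻¹ = r * (p * r⁻¹ * p⁻¹) by group]
        exact R.mul_mem hr.2 ((Subgroup.mem_normalizer_iff.1 (hXR hpX) _).1 (R.inv_mem hr.2))
      obtain ⟨k, hk⟩ := isPGroup_iff_pow_pow_eq_one.1 (CharP.isPGroup_pCoreOf 2 X) ⟨_, ha⟩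
      exact D.mem_core_of_two hb (congrArg Subtype.val hk)
    have hdp : ⁅d', p⁆ ∈ Q := (hrel (h3 hd')).2
    have hpn : p ∈ Subgroup.normalizer (((K' : Subgroup G) ⊔ Q : Subgroup G) : Set G) := by
      rw [mem_normalizer_iff_map]
      refine Subgroup.eq_of_le_of_card_ge ?_ (Subgroup.card_map_of_injective (MulAut.conj p).injective).ge
      rw [hsup', Subgroup.map_sup, mem_normalizer_iff_map.1 (hXQ hpX), MonoidHom.map_zpowers]
      refine sup_le (Subgroup.zpowers_le.2 ?_) le_sup_right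
      change p * d' * p⁻¹ ∈ _
      rw [show p * d' * p⁻¹ = ⁅d', p⁆⁻¹ * d' by rw [commutatorElement_def]; group]
      exact mul_mem (Subgroup.mem_sup_right (Q.inv_mem hdp))
        (Subgroup.mem_sup_left (Subgroup.mem_zpowers d'))
    have hpK : p ∈ Subgroup.normalizer ((K' : Subgroup G) : Set G) := by
      have := normalizer_le_normalizer_oddGen _ hpn
      rwa [oddGen_sup_eq (core_le_normalizer hG hL h1 h2) (CharP.isPGroup_pCoreOf 2 L) h1.1] at this
    exact centralizes_wOf hL h1 h2 ((CharP.isPGroup_pCoreOf 2 K).to_le (Subgroup.zpowers_le.2 hp'))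
      hpK hd' hd3' hgen' hdp
  obtain ⟨d, hd, -, hd3, hgen⟩ := hp.exists_three
  set W := Cfsg.wOf K with hWdef
  have hWne : W ≠ ⊥ := fun e => by rw [e, Subgroup.card_bot] at hcardW; omega
  have hfree := hp.no_fixed hd hd3 hgen
  have hKW : K ≤ Subgroup.normalizer (W : Set G) :=
    Subgroup.le_normalizer.trans (normalizer_le_normalizer_wOf K)
  have hdX : d ∈ X := Subgroup.mem_sup_left hd
  -- `[E₁, d] ≤ W`
  have hcomm : ∀ e ∈ E1, ⁅e, d⁆ ∈ W := by
    have hU : ∀ e ∈ E1, ⁅e, d⁆ ∈ Cfsg.omegaCenterOf (Cfsg.pCoreOf 2 K) := by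
      intro e he
      have hfE : ⁅e, d⁆ ∈ E1 := by
        rw [commutatorElement_def, show e * d * e⁻¹ * d⁻¹ = e * (d * e⁻¹ * d⁻¹) by group]
        exact E1.mul_mem he ((Subgroup.mem_normalizer_iff.1 (hXE hdX) _).1 (E1.inv_mem he))
      have hfK : ⁅e, d⁆ ∈ K := by
        rw [commutatorElement_def]
        exact K.mul_mem ((Subgroup.mem_normalizer_iff.1 (hVN (hE1V he)) d).1 hd) (K.inv_mem hd)
      have hcore : E1 ⊓ K ≤ Cfsg.pCoreOf 2 K :=
        CharP.le_pCoreOf ((PGroups.elemAb_isPGroup hVe).to_le (inf_le_left.trans hE1V)) inf_le_right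
          fun k hk => Subgroup.inf_normalizer_le_normalizer_inf
            ⟨hXE (Subgroup.mem_sup_left hk), Subgroup.le_normalizer hk⟩
      refine PGroups.mem_omegaOne_of_pow ⟨hcore ⟨hfE, hfK⟩, ?_⟩ (hVe.2 _ (hE1V hfE))
      exact Subgroup.mem_centralizer_iff.2 fun p hp' =>
        (Subgroup.mem_centralizer_iff.1 (hPE hp') _ hfE).symm
    intro e he
    set e1 := d * e * d⁻¹ with he1
    set e2 := d * e1 * d⁻¹ with he2
    have hE : ∀ y ∈ E1, d * y * d⁻¹ ∈ E1 := fun y hy => (Subgroup.mem_normalizer_iff.1 (hXE hdX) y).1 hy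
    have hinv : ∀ y ∈ E1, y⁻¹ = y := fun y hy => inv_eq_of_mul_eq_one_right (by
      rw [← pow_two]; exact hVe.2 y (hE1V hy))
    have hcm : ∀ a ∈ E1, ∀ b ∈ E1, a * b = b * a := fun a ha b hb =>
      PGroups.elemAb_comm hVe (hE1V ha) (hE1V hb)
    have hform : ∀ y ∈ E1, ⁅y, d⁆ = y * (d * y * d⁻¹) := fun y hy => by
      rw [commutatorElement_def, show y * d * y⁻¹ * d⁻¹ = y * (d * y⁻¹ * d⁻¹) by group, hinv y hy]
    have he1E : e1 ∈ E1 := hE e he
    have he2E : e2 ∈ E1 := hE e1 he1E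
    have hf : ⁅e, d⁆ = e * e1 := hform e he
    have he1sq : e1 * e1 = 1 := by rw [← pow_two]; exact hVe.2 _ (hE1V he1E)
    have h1 : e * e2 ∈ W := by
      have h2 : ⁅⁅e, d⁆, d⁆ ∈ W := Subgroup.commutator_mem_commutator (hU e he) hd
      rw [hform _ (hf ▸ E1.mul_mem he he1E), hf,
        show d * (e * e1) * d⁻¹ = e1 * e2 by rw [he2, he1]; group] at h2
      rwa [show e * e1 * (e1 * e2) = e * (e1 * e1) * e2 by group, he1sq, mul_one] at h2
    have hde2 : d * e2 * d⁻¹ = e := by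
      rw [he2, he1, show d * (d * (d * e * d⁻¹) * d⁻¹) * d⁻¹ = d ^ 3 * e * (d ^ 3)⁻¹ by
        rw [pow_succ, pow_two]; group, hd3]
      group
    have h3 : d * (e * e2) * d⁻¹ ∈ W := (Subgroup.mem_normalizer_iff.1 (hKW hd) _).1 h1
    rw [show d * (e * e2) * d⁻¹ = e1 * (d * e2 * d⁻¹) by rw [he1]; group, hde2, hcm e1 he1E e he, ← hf] at h3
    exact h3
  -- some `W_{K'}` is moved by `d`
  obtain ⟨K', hK'S, w, hw, hdw⟩ : ∃ K' ∈ S, ∃ w ∈ Cfsg.wOf K', d * w ≠ w * d := by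
    by_contra hc
    push Not at hc
    set C := X ⊓ Subgroup.centralizer (E1 : Set G) with hC
    have hdC : d ∈ Subgroup.centralizer (E1 : Set G) := by
      have : E1 ≤ Subgroup.centralizer ({d} : Set G) := iSup_le fun K' w hw =>
        Subgroup.mem_centralizer_singleton_iff.2 (hc K' K'.2 w hw).symm
      exact Subgroup.mem_centralizer_iff.2 fun w hw => Subgroup.mem_centralizer_singleton_iff.1 (this hw)
    have hKC : K ≤ C := by
      rw [← hgen]
      exact sup_le (le_inf (PreComp.core_le.trans le_sup_left) hPE)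
        (Subgroup.zpowers_le.2 ⟨hdX, hdC⟩)
    have hJC : J ≤ Subgroup.normalizer (C : Set G) := fun j hj => Subgroup.inf_normalizer_le_normalizer_inf
      ⟨Subgroup.le_normalizer (Subgroup.mem_sup_right hj),
        Balance.normalizer_le_normalizer_centralizer _ (hXE (Subgroup.mem_sup_right hj))⟩
    obtain ⟨h1, h2, h3⟩ := hK1S
    obtain ⟨d', hd', hd3', hgen', -, -⟩ := D.exists_line hL h1 h2
    have hd'M : d' ∈ ((XR ⊔ Q : Subgroup G) : Set G) := h3 hd'
    rw [Subgroup.coe_mul_of_left_le_normalizer_right XR Q (inf_le_left.trans hXQ)] at hd'M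
    obtain ⟨r, hr, q, hq, rfl⟩ := hd'M
    have hQE : Q ≤ Subgroup.centralizer (E1 : Set G) :=
      (PLocal.le_centralizer_omegaCenterOf Q).trans (Subgroup.centralizer_le (SetLike.coe_subset_coe.2 hE1V))
    obtain ⟨a, ha⟩ := CharP.exists_pow_coprime (p := 2) r
    have hrC : r ∈ Subgroup.centralizer (E1 : Set G) := by
      refine mem_of_pow_coprime (Nat.Coprime.pow_left a (by norm_num : Nat.Coprime 2 3)) ?_
        (hQE (D.cube r hr.2))
      exact (odd_mem_of_mem_sup hJC hJp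
        ((sup_le_sup_right hKC J : X ≤ C ⊔ J) (X.pow_mem hr.1 _)) (odd_orderOf_coprime.2 ha)).2
    have hdc : r * q ∈ Subgroup.centralizer (E1 : Set G) := mul_mem hrC (hQE hq)
    have hne : Cfsg.wOf K1 ≠ ⊥ := wOf_ne_bot h1
    obtain ⟨w, hw, hw1⟩ := (Subgroup.bot_or_exists_ne_one _).resolve_left hne
    refine hw1 ((preComp_of hL.1.2.1 h1).no_fixed hd' hd3' hgen' w hw ?_)
    exact (Subgroup.mem_centralizer_iff.1 hdc w
      (le_iSup (fun K'' : S => Cfsg.wOf (K'' : Subgroup G)) ⟨K1, h1, h2, h3⟩ hw)).symm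
  obtain ⟨hK', hK'L, hK'M⟩ := hK'S
  have hp' := preComp_of hL.1.2.1 hK'
  set W' := Cfsg.wOf K' with hW'
  have hW'E : W' ≤ E1 := le_iSup (fun K'' : S => Cfsg.wOf (K'' : Subgroup G)) ⟨K', hK', hK'L, hK'M⟩
  set f := (MulAut.conj d).toMonoidHom with hf
  set K2 := K'.map f with hK2def
  obtain ⟨hK2, hK2L, hK2M⟩ := hSconj K' ⟨hK', hK'L, hK'M⟩ d hdX
  have hfix : K2 = K' := by
    by_contra hne
    set K3 := K2.map f with hK3def
    obtain ⟨hK3, hK3L, hK3M⟩ := hSconj K2 ⟨hK2, hK2L, hK2M⟩ d hdX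
    have hne32 : K3 ≠ K2 := fun e => hne (Subgroup.map_injective (MulAut.conj d).injective e)
    have hne31 : K3 ≠ K' := by
      intro e
      have h1 : K'.map (MulAut.conj (d ^ 3)).toMonoidHom = K2 := by
        rw [show (MulAut.conj (d ^ 3)).toMonoidHom = f.comp (f.comp f) by
          ext y; simp [hf, pow_succ, mul_assoc], ← Subgroup.map_map, ← Subgroup.map_map]
        change (K2.map f).map f = _
        rw [← hK3def, e]
      rw [hd3, map_one] at h1
      exact hne (h1.symm.trans K'.map_id)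
    obtain ⟨d1, hd1, hd13, hgen1, hline1, hsup1⟩ := D.exists_line hL hK' hK'L
    have hcent : ∀ {Ki : Subgroup G}, Cfsg.IsJComponent T Ki → Ki ≤ L → K' ≠ Ki →
        ∀ u ∈ Cfsg.wOf Ki, d1 * u = u * d1 := fun hKi hKiL hn u hu =>
      (Subgroup.mem_centralizer_iff.1
        (D.comp_centralizes hG hL hK' hK'L hKi hKiL hn hd1 hd13 hline1 hsup1) u hu).symm
    have hinv : ∀ y ∈ E1, y⁻¹ = y := fun y hy => inv_eq_of_mul_eq_one_right (by
      rw [← pow_two]; exact hVe.2 y (hE1V hy))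
    have hcm : ∀ a ∈ E1, ∀ b ∈ E1, a * b = b * a := fun a ha b hb =>
      PGroups.elemAb_comm hVe (hE1V ha) (hE1V hb)
    have hform : ∀ y ∈ E1, ⁅y, d⁆ = y * (d * y * d⁻¹) := fun y hy => by
      rw [commutatorElement_def, show y * d * y⁻¹ * d⁻¹ = y * (d * y⁻¹ * d⁻¹) by group, hinv y hy]
    have hmap2 : ∀ y ∈ W', d * y * d⁻¹ ∈ Cfsg.wOf K2 := fun y hy => by
      rw [hK2def, ← map_wOf f (MulAut.conj d).injective]
      exact ⟨y, hy, rfl⟩
    have hdisj : ∀ y ∈ W', y ∈ Cfsg.wOf K2 → y = 1 := fun y hy hy2 => by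
      by_contra h1
      exact hne (D.eq_of_mem_wOf hG hL hK2 hK2L hK' hK'L hy2 hy h1)
    -- `w ↦ w w^d` maps `W'` onto `W`
    let α : W' → W := fun y => ⟨⁅(y : G), d⁆, hcomm y (hW'E y.2)⟩
    have hα : Function.Injective α := by
      intro y z hyz
      have h1 : ⁅(y : G), d⁆ = ⁅(z : G), d⁆ := congrArg Subtype.val hyz
      rw [hform _ (hW'E y.2), hform _ (hW'E z.2)] at h1
      have h2 : (z : G)⁻¹ * y = (d * z * d⁻¹) * (d * y * d⁻¹)⁻¹ := by
        calc (z : G)⁻¹ * y = (z : G)⁻¹ * ((y : G) * (d * y * d⁻¹)) * (d * y * d⁻¹)⁻¹ := by group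
          _ = _ := by rw [h1]; group
      have hmem : (z : G)⁻¹ * y ∈ W' := W'.mul_mem (W'.inv_mem z.2) y.2
      have := hdisj _ hmem (by
        rw [h2]; exact mul_mem (hmap2 z z.2) (inv_mem (hmap2 y y.2)))
      exact Subtype.ext (inv_mul_eq_one.1 this).symm
    have hcardeq : Nat.card W' = Nat.card W := by rw [hcardW]; exact hK'.2.2.2.2.1
    have hsurj : Function.Surjective α := (Nat.bijective_iff_injective_and_card α).2 ⟨hα, hcardeq⟩ |>.2
    set u2 := d * w * d⁻¹ with hu2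
    set u3 := d * u2 * d⁻¹ with hu3
    have hu2E : u2 ∈ E1 := (Subgroup.mem_normalizer_iff.1 (hXE hdX) w).1 (hW'E hw)
    have hu3E : u3 ∈ E1 := (Subgroup.mem_normalizer_iff.1 (hXE hdX) u2).1 hu2E
    obtain ⟨⟨v, hv⟩, hvα⟩ := hsurj ⟨⁅u2, d⁆, hcomm u2 hu2E⟩
    have h1 : v * (d * v * d⁻¹) = u2 * u3 := by
      have := congrArg Subtype.val hvα
      change ⁅v, d⁆ = ⁅u2, d⁆ at this
      rwa [hform v (hW'E hv), hform u2 hu2E, ← hu3] at this
    set v2 := d * v * d⁻¹ with hv2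
    have hw2 : u2 ∈ Cfsg.wOf K2 := hmap2 w hw
    have hw3 : u3 ∈ Cfsg.wOf K3 := by
      rw [hK3def, ← map_wOf f (MulAut.conj d).injective]
      exact ⟨u2, hw2, rfl⟩
    have hvc : d1 * v = v * d1 := by
      have hveq : v = u2 * u3 * v2⁻¹ := by rw [← h1]; group
      rw [hveq]
      exact ((Commute.mul_right (hcent hK2 hK2L (Ne.symm hne) u2 hw2)
        (hcent hK3 hK3L hne31.symm u3 hw3)).mul_right
        (Commute.inv_right (hcent hK2 hK2L (Ne.symm hne) v2 (hmap2 v hv)))).eq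
    have hv1 : v = 1 := hp'.no_fixed hd1 hd13 hgen1 v hv hvc
    have h23 : u2 * u3 = 1 := by rw [← h1, hv2, hv1]; group
    have hu2eq : u2 ∈ Cfsg.wOf K3 := by
      rw [eq_inv_of_mul_eq_one_left h23]
      exact inv_mem hw3
    rcases eq_or_ne u2 1 with h | h
    · exact hdw (by rw [conj_eq_one_iff.1 h, mul_one, one_mul])
    · exact hne32 (D.eq_of_mem_wOf hG hL hK3 hK3L hK2 hK2L hu2eq hw2 h)
  -- so `W = W_{K'}`
  have hdW' : d ∈ Subgroup.normalizer (W' : Set G) :=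
    normalizer_le_normalizer_wOf K' (mem_normalizer_iff_map.2 hfix)
  set u := ⁅w, d⁆ with hu
  have huW' : u ∈ W' := by
    rw [hu, commutatorElement_def, show w * d * w⁻¹ * d⁻¹ = w * (d * w⁻¹ * d⁻¹) by group]
    exact W'.mul_mem hw ((Subgroup.mem_normalizer_iff.1 hdW' _).1 (W'.inv_mem hw))
  have hu1 : u ≠ 1 := fun e => hdw (commutatorElement_eq_one_iff_mul_comm.1 e).symm
  have huW : u ∈ W := hcomm w (hW'E hw)
  have heq := eq_of_fixed_free hcardW hfree (inf_le_left : W ⊓ W' ≤ W) ⟨huW, huW'⟩ hu1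
    ⟨(Subgroup.mem_normalizer_iff.1 (hKW hd) u).1 huW, (Subgroup.mem_normalizer_iff.1 hdW' u).1 huW'⟩
  have hWW : W = W' := Subgroup.eq_of_le_of_card_ge (inf_eq_left.1 heq) (by
    rw [hcardW]; exact hK'.2.2.2.2.1.le)
  refine le_trans ?_ hWK
  rw [hWW]
  exact hp'.le_normalizer.trans (normalizer_le_normalizer_wOf K')

end LocalData

end Cfsg.Agent.Lib.LAEven56.JComp
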