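import Cfsg.Agent.Lib.LAEven56.JComp.Vertex

/-!
# An element of `C_T(W_K)` cannot be moved into a non-central part of `Ω₁Z(J(T))`

Owner: helper56.
-/

set_option autoImplicit false
set_option linter.style.haveILetI false
set_option linter.unusedSectionVars false

open Cfsg
open scoped commutatorElement

namespace Cfsg.Agent.Lib.LAEven56.JComp

open Cfsg.Agent.Lib

variable {G : Type*} [Group G] [Finite G] {T K L : Subgroup G}

theorem zpow_cases_of_cube {d : G} (hd3 : d ^ 3 = 1) (n : ℤ) :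
    d ^ n = 1 ∨ d ^ n = d ∨ d ^ n = d * d := by
  have hd3' : d ^ (3 : ℤ) = 1 := by exact_mod_cast hd3
  have hsplit : d ^ n = d ^ (n % 3) := by
    conv_lhs => rw [← Int.emod_add_mul_ediv n 3]
    rw [zpow_add, zpow_mul, hd3', one_zpow, mul_one]
  have hn : n % 3 = 0 ∨ n % 3 = 1 ∨ n % 3 = 2 := by omega
  rcases hn with h | h | h <;> rw [hsplit, h]
  · exact Or.inl (zpow_zero d)
  · exact Or.inr (Or.inl (zpow_one d))
  · exact Or.inr (Or.inr (zpow_two d))

theorem PreComp.exists_zpow_mul {d : G} (hd : d ∈ K)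
    (hgen : Cfsg.pCoreOf 2 K ⊔ Subgroup.zpowers d = K) {k : G} (hk : k ∈ K) :
    ∃ n : ℤ, ∃ q ∈ Cfsg.pCoreOf 2 K, k = d ^ n * q := by
  have hk' : k ∈ ((Subgroup.zpowers d ⊔ Cfsg.pCoreOf 2 K : Subgroup G) : Set G) := by
    rw [sup_comm, hgen]; exact hk
  rw [Subgroup.coe_mul_of_left_le_normalizer_right _ _
    ((Subgroup.zpowers_le.2 hd).trans (CharP.le_normalizer_pCoreOf 2 K))] at hk'
  obtain ⟨e, ⟨n, rfl⟩, q, hq, rfl⟩ := hk'
  exact ⟨n, q, hq, rfl⟩

/-- **The offender lemma.** If `C_T(W_K)` moves an involution `x` of `C_T(W_K)` by `s ∈ Ω₁Z(J(T))`, then `K`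
centralises `s`. -/
theorem mem_cK_of_moved (hG : ZNHyp G) (hL : L ∈ Cfsg.jOvergroups T) (hK : Cfsg.IsJComponent T K)
    (hKL : K ≤ L) (hTK : T ≤ Subgroup.normalizer (K : Set G))
    (hTZ : T ≤ Subgroup.centralizer (zJ T : Set G)) {x s q₀ : G} (hx : x ∈ T)
    (hxW : x ∈ Subgroup.centralizer (Cfsg.wOf K : Set G)) (hx2 : x ^ 2 = 1) (hs : s ∈ zJ T)
    (hTx : ∀ t ∈ T, t * x * t⁻¹ = x ∨ t * x * t⁻¹ = x * s) (hq₀T : q₀ ∈ T)
    (hq₀W : q₀ ∈ Subgroup.centralizer (Cfsg.wOf K : Set G)) (hq₀x : q₀ * x ≠ x * q₀) :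
    s ∈ cK T K := by
  haveI : Fact (Nat.Prime 2) := ⟨Nat.prime_two⟩
  obtain ⟨R, D⟩ := exists_localData hG hL
  have hT : IsPGroup 2 T := hL.1.2.1
  have hp := preComp_of hT hK
  obtain ⟨d, hd, hdQ, hd3, hgen⟩ := hp.exists_three
  set W := Cfsg.wOf K with hWdef
  set Z := zJ T with hZdef
  have hWe := hp.wOf_elemAb
  have hWJ : W ≤ jT T := (split hT hK).1
  have hJT : jT T ≤ T := PGroups.thompsonSubgroupOf_le 2 T
  by_contra hsc
  have hTW : T ≤ Subgroup.normalizer (W : Set G) := hTK.trans (normalizer_le_normalizer_wOf K)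
  have hKW : K ≤ Subgroup.normalizer (W : Set G) :=
    Subgroup.le_normalizer.trans (normalizer_le_normalizer_wOf K)
  set C := Subgroup.centralizer (W : Set G) with hC
  have hZC : Z ≤ C := fun z hz => Subgroup.mem_centralizer_iff.2 fun w hw => zJ_comm hz (hWJ hw)
  -- `P = C_T(W)` is normal in `K T`
  set P := T ⊓ C with hP
  have hX : K ⊔ T ≤ L := sup_le hKL hL.1.1
  set P0 := (K ⊔ T) ⊓ C with hP0
  have hP0T : P0 = P := by
    have h2 : IsPGroup 2 P0 := CharP.isPGroup_of_coprime_eq_one fun y hy hyo => by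
      have hyK : y ∈ K := odd_mem_of_mem_sup hTK hT hy.1 (odd_orderOf_coprime.2 hyo)
      exact CharP.eq_one_of_coprime_of_mem (CharP.isPGroup_pCoreOf 2 K)
        (hp.inf_centralizer_le (wOf_ne_bot hK) ⟨hyK, hy.2⟩) hyo
    have hn : T ≤ Subgroup.normalizer (P0 : Set G) := fun t ht => Subgroup.inf_normalizer_le_normalizer_inf
      ⟨Subgroup.le_normalizer (Subgroup.mem_sup_right ht),
        Balance.normalizer_le_normalizer_centralizer _ (hTW ht)⟩
    have h3 := sylowTwoIn_max hL.1 (P := T ⊔ P0) (hT.to_sup_of_normal_right' h2 hn) le_sup_left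
      (sup_le hL.1.1 (inf_le_left.trans hX))
    exact le_antisymm (fun y hy => ⟨h3.le (Subgroup.mem_sup_right hy), hy.2⟩)
      (inf_le_inf_right _ le_sup_right)
  have hdP : d ∈ Subgroup.normalizer (P : Set G) := by
    rw [← hP0T]
    exact Subgroup.inf_normalizer_le_normalizer_inf ⟨Subgroup.le_normalizer (Subgroup.mem_sup_left hd),
      Balance.normalizer_le_normalizer_centralizer _ (hKW hd)⟩
  have hcoreP : Cfsg.pCoreOf 2 K ≤ P :=
    le_inf ((D.comp_core_le hL hK hKL).trans (LocalData.core_le_T hL)) hp.core_centralizes_wOf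
  -- `Zd = Ω₁Z(J) W`
  set Zd := W ⊔ Z with hZd
  have hPZd : ∀ q ∈ P, ∀ z ∈ Zd, q * z = z * q := by
    intro q hq z hz
    have hle : Zd ≤ Subgroup.centralizer ({q} : Set G) := sup_le
      (fun w hw => Subgroup.mem_centralizer_singleton_iff.2 (Subgroup.mem_centralizer_iff.1 hq.2 w hw))
      (fun z hz => Subgroup.mem_centralizer_singleton_iff.2 (Subgroup.mem_centralizer_iff.1 (hTZ hq.1) z hz))
    exact (Subgroup.mem_centralizer_singleton_iff.1 (hle hz)).symm
  have hZdP : Zd ≤ P := sup_le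
    (le_inf (hWJ.trans hJT) fun w hw => Subgroup.mem_centralizer_iff.2 fun v hv =>
      PGroups.elemAb_comm hWe hv hw)
    (le_inf ((zJ_le_jT T).trans hJT) hZC)
  have hZde : Cfsg.IsElementaryAbelian 2 Zd :=
    PGroups.elemAb_sup hWe (zJ_elemAb T) fun w hw z hz => zJ_comm hz (hWJ hw)
  obtain ⟨w0, hw0, hw01, hw0c⟩ := exists_wZ hT hK
  have hdZd : ∀ z ∈ Zd, d * z * d⁻¹ ∈ Zd := by
    intro z hz
    refine (sup_le ?_ ?_ : Zd ≤ Zd.comap (MulAut.conj d).toMonoidHom) hz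
    · exact fun w hw => Subgroup.mem_sup_left ((Subgroup.mem_normalizer_iff.1 (hKW hd) w).1 hw)
    · intro z hz
      change d * z * d⁻¹ ∈ Zd
      obtain ⟨c, hc, h | h⟩ := mem_zJ_cases hT hK hw0 hw01 hz <;> rw [h]
      · rw [Subgroup.mem_centralizer_iff.1 hc.2 d hd, mul_inv_cancel_right]
        exact Subgroup.mem_sup_right hc.1
      · rw [show d * (c * w0) * d⁻¹ = (d * c * d⁻¹) * (d * w0 * d⁻¹) by group,
          Subgroup.mem_centralizer_iff.1 hc.2 d hd, mul_inv_cancel_right]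
        exact mul_mem (Subgroup.mem_sup_right hc.1)
          (Subgroup.mem_sup_left ((Subgroup.mem_normalizer_iff.1 (hKW hd) w0).1 hw0.2))
  -- the conjugates of `x` and `s`
  set x1 := d * x * d⁻¹ with hx1
  set x2 := (d * d) * x * (d * d)⁻¹ with hx2d
  set s1 := d * s * d⁻¹ with hs1
  set s2 := (d * d) * s * (d * d)⁻¹ with hs2
  have hsZd : s ∈ Zd := Subgroup.mem_sup_right hs
  have hs1Zd : s1 ∈ Zd := hdZd s hsZd
  have hs2Zd : s2 ∈ Zd := by
    have := hdZd s1 hs1Zd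
    rwa [hs1, show d * (d * s * d⁻¹) * d⁻¹ = (d * d) * s * (d * d)⁻¹ by group] at this
  have hxP : x ∈ P := ⟨hx, hxW⟩
  have hs_ne : s ≠ 1 := fun e => hsc (e ▸ (cK T K).one_mem)
  have hd3' : d * d * d = 1 := by rw [← pow_two, ← pow_succ, hd3]
  have hs01 : s1 ≠ s := fun e => hsc (mem_cK_of_commute hT hK hd hd3 hgen hs (mul_inv_eq_iff_eq_mul.1 e))
  have hs12 : s2 ≠ s1 := fun e => hs01 (by
    have h1 : d⁻¹ * s2 * d = d⁻¹ * s1 * d := by rw [e]
    have h2 : d⁻¹ * s2 * d = s1 := by rw [hs2, hs1]; group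
    rw [← h2, h1, hs1]; group)
  have hs02 : s2 ≠ s := fun e => hs01 (by
    have h1 : d * s2 * d⁻¹ = d * s * d⁻¹ := by rw [e]
    rw [← hs1] at h1
    rw [← h1, hs2, show d * ((d * d) * s * (d * d)⁻¹) * d⁻¹ = (d * d * d) * s * (d * d * d)⁻¹ by group, hd3']
    group)
  have hPx : ∀ g ∈ Subgroup.normalizer (P : Set G), ∀ q ∈ P,
      q * (g * x * g⁻¹) * q⁻¹ = g * x * g⁻¹ ∨ q * (g * x * g⁻¹) * q⁻¹ = g * x * g⁻¹ * (g * s * g⁻¹) := by
    intro g hg q hq
    have hq' : g⁻¹ * q * g ∈ P := by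
      have := (Subgroup.mem_normalizer_iff.1 (inv_mem hg) q).1 hq
      simpa using this
    have e : q * (g * x * g⁻¹) * q⁻¹ = g * ((g⁻¹ * q * g) * x * (g⁻¹ * q * g)⁻¹) * g⁻¹ := by group
    rw [e]
    rcases hTx _ hq'.1 with h | h <;> rw [h]
    · exact Or.inl rfl
    · exact Or.inr (by group)
  have hd2P : d * d ∈ Subgroup.normalizer (P : Set G) := mul_mem hdP hdP
  have hmv : ∀ q ∈ P, (q * x * q⁻¹ = x ∨ q * x * q⁻¹ = x * s) ∧
      (q * x1 * q⁻¹ = x1 ∨ q * x1 * q⁻¹ = x1 * s1) ∧ (q * x2 * q⁻¹ = x2 ∨ q * x2 * q⁻¹ = x2 * s2) :=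
    fun q hq => ⟨hTx q hq.1, hPx d hdP q hq, hPx _ hd2P q hq⟩
  have hx1P : x1 ∈ P := (Subgroup.mem_normalizer_iff.1 hdP x).1 hxP
  have hx2P : x2 ∈ P := (Subgroup.mem_normalizer_iff.1 hd2P x).1 hxP
  have hcommute : ∀ {u v a b : G}, u ∈ P → v ∈ P → (u * v * u⁻¹ = v ∨ u * v * u⁻¹ = v * b) →
      (v * u * v⁻¹ = u ∨ v * u * v⁻¹ = u * a) → b ∈ Zd → a ∈ Zd → a ≠ b → b ≠ 1 → u * v = v * u := by
    intro u v a b hu hv h1 h2 hb ha hab hb1
    rcases h1 with h1 | h1
    · exact mul_inv_eq_iff_eq_mul.1 h1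
    exfalso
    have hbu : u * b = b * u := hPZd u hu b hb
    have hbv : v * b = b * v := hPZd v hv b hb
    have hb2 : b * b = 1 := by rw [← pow_two]; exact hZde.2 b hb
    have h3 : v * u * v⁻¹ = u * b := by
      have h4 : u * v = v * b * u := mul_inv_eq_iff_eq_mul.1 h1
      calc v * u * v⁻¹ = (b * b) * (v * u * v⁻¹) := by rw [hb2, one_mul]
        _ = b * (b * v) * u * v⁻¹ := by group
        _ = b * (v * b * u) * v⁻¹ := by rw [← hbv]; group
        _ = b * u := by rw [← h4]; group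
        _ = _ := hbu.symm
    rw [h3] at h2
    rcases h2 with e | e
    · exact hb1 (mul_eq_left.1 e)
    · exact hab (mul_left_cancel e).symm
  have hs1ne : s1 ≠ 1 := fun e => hs_ne (conj_eq_one_iff.1 e)
  have hs2ne : s2 ≠ 1 := fun e => hs_ne (conj_eq_one_iff.1 e)
  have c01 : x * x1 = x1 * x :=
    hcommute hxP hx1P (hmv x hxP).2.1 (hmv x1 hx1P).1 hs1Zd hsZd hs01.symm hs1ne
  have c02 : x * x2 = x2 * x :=
    hcommute hxP hx2P (hmv x hxP).2.2 (hmv x2 hx2P).1 hs2Zd hsZd hs02.symm hs2ne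
  have c12 : x1 * x2 = x2 * x1 :=
    hcommute hx1P hx2P (hmv x1 hx1P).2.2 (hmv x2 hx2P).2.1 hs2Zd hs1Zd hs12.symm hs2ne
  have hsq : ∀ g : G, (g * x * g⁻¹) ^ 2 = 1 := fun g => by rw [conj_pow, hx2]; group
  set Wd := Zd ⊔ Subgroup.zpowers x ⊔ Subgroup.zpowers x1 ⊔ Subgroup.zpowers x2 with hWd
  have hzc : ∀ {u v : G}, u * v = v * u → ∀ {z}, z ∈ Subgroup.zpowers v → u * z = z * u := by
    rintro u v h _ ⟨k, rfl⟩
    exact ((show Commute u v from h).zpow_right k).eq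
  have hWde : Cfsg.IsElementaryAbelian 2 Wd := by
    have e0 := PGroups.elemAb_sup hZde (PGroups.elemAb_zpowers hx2) fun z hz _ hu =>
      hzc (hPZd x hxP z hz).symm hu
    have e1 := PGroups.elemAb_sup e0 (PGroups.elemAb_zpowers (hsq d)) fun y hy _ hu => by
      refine hzc ?_ hu
      have hle : Zd ⊔ Subgroup.zpowers x ≤ Subgroup.centralizer ({x1} : Set G) := sup_le
        (fun z hz => Subgroup.mem_centralizer_singleton_iff.2 (hPZd x1 hx1P z hz).symm)
        (Subgroup.zpowers_le.2 (Subgroup.mem_centralizer_singleton_iff.2 c01))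
      exact Subgroup.mem_centralizer_singleton_iff.1 (hle hy)
    exact PGroups.elemAb_sup e1 (PGroups.elemAb_zpowers (hsq (d * d))) fun y hy _ hu => by
      refine hzc ?_ hu
      have hle : Zd ⊔ Subgroup.zpowers x ⊔ Subgroup.zpowers x1 ≤ Subgroup.centralizer ({x2} : Set G) :=
        sup_le (sup_le (fun z hz => Subgroup.mem_centralizer_singleton_iff.2 (hPZd x2 hx2P z hz).symm)
          (Subgroup.zpowers_le.2 (Subgroup.mem_centralizer_singleton_iff.2 c02)))
          (Subgroup.zpowers_le.2 (Subgroup.mem_centralizer_singleton_iff.2 c12))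
      exact Subgroup.mem_centralizer_singleton_iff.1 (hle hy)
  have hZdWd : Zd ≤ Wd := le_trans le_sup_left (le_trans le_sup_left le_sup_left)
  have hxWd : x ∈ Wd := Subgroup.mem_sup_left (Subgroup.mem_sup_left
    (Subgroup.mem_sup_right (Subgroup.mem_zpowers x)))
  have hx1Wd : x1 ∈ Wd := Subgroup.mem_sup_left (Subgroup.mem_sup_right (Subgroup.mem_zpowers x1))
  have hx2Wd : x2 ∈ Wd := Subgroup.mem_sup_right (Subgroup.mem_zpowers x2)
  have hWdP : Wd ≤ P := sup_le (sup_le (sup_le hZdP (Subgroup.zpowers_le.2 hxP))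
    (Subgroup.zpowers_le.2 hx1P)) (Subgroup.zpowers_le.2 hx2P)
  have hPn : ∀ q ∈ P, ∀ y ∈ Wd, q * y * q⁻¹ ∈ Wd := by
    intro q hq y hy
    refine (sup_le (sup_le (sup_le ?_ ?_) ?_) ?_ : Wd ≤ Wd.comap (MulAut.conj q).toMonoidHom) hy
    · intro z hz
      change q * z * q⁻¹ ∈ Wd
      rw [hPZd q hq z hz, mul_inv_cancel_right]
      exact hZdWd hz
    all_goals rw [Subgroup.zpowers_le]; change q * _ * q⁻¹ ∈ Wd
    · rcases (hmv q hq).1 with h | h <;> rw [h]
      · exact hxWd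
      · exact mul_mem hxWd (hZdWd hsZd)
    · rcases (hmv q hq).2.1 with h | h <;> rw [h]
      · exact hx1Wd
      · exact mul_mem hx1Wd (hZdWd hs1Zd)
    · rcases (hmv q hq).2.2 with h | h <;> rw [h]
      · exact hx2Wd
      · exact mul_mem hx2Wd (hZdWd hs2Zd)
  -- an offender
  obtain ⟨A, hA⟩ := exists_mover hT hK
  have hAT : A ≤ T := (PGroups.le_thompsonSubgroupOf hA.mem).trans hJT
  set A0 := A ⊓ C with hA0
  have hAc : ∀ u ∈ A, ∀ v ∈ A, u * v = v * u := fun u hu v hv => PGroups.elemAb_comm hA.mem.2.1 hu hv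
  obtain ⟨a, haA, haC, hax⟩ : ∃ a ∈ A, a ∉ C ∧ ((∀ q ∈ A0, q * x = x * q) ∨ a * x = x * a) := by
    obtain ⟨a, ha, haC⟩ := SetLike.not_le_iff_exists.1 hA.moves
    by_cases hax : a * x = x * a
    · exact ⟨a, ha, haC, Or.inr hax⟩
    by_cases hall : ∀ q ∈ A0, q * x = x * q
    · exact ⟨a, ha, haC, Or.inl hall⟩
    push Not at hall
    obtain ⟨q, hq, hqx⟩ := hall
    refine ⟨a * q, A.mul_mem ha hq.1, fun h => haC ((Subgroup.mul_mem_cancel_right _ hq.2).1 h), Or.inr ?_⟩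
    have h1 : a * x * a⁻¹ = x * s := (hTx a (hAT ha)).resolve_left fun e => hax (mul_inv_eq_iff_eq_mul.1 e)
    have h2 : q * x * q⁻¹ = x * s := (hTx q (hAT hq.1)).resolve_left fun e => hqx (mul_inv_eq_iff_eq_mul.1 e)
    have has : a * s * a⁻¹ = s := by
      rw [(Subgroup.mem_centralizer_iff.1 (hTZ (hAT ha)) s hs).symm, mul_inv_cancel_right]
    have hs2' : s * s = 1 := by rw [← pow_two]; exact (zJ_elemAb T).2 s hs
    refine mul_inv_eq_iff_eq_mul.1 ?_
    calc a * q * x * (a * q)⁻¹ = a * (q * x * q⁻¹) * a⁻¹ := by group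
      _ = (a * x * a⁻¹) * (a * s * a⁻¹) := by rw [h2]; group
      _ = x * (s * s) := by rw [h1, has, mul_assoc]
      _ = x := by rw [hs2', mul_one]
  have haT : a ∈ T := hAT haA
  have ha2 : a * a = 1 := by rw [← pow_two]; exact hA.mem.2.1.2 a haA
  -- `a` inverts `d`
  obtain ⟨qd, hqd, hada⟩ : ∃ q ∈ Cfsg.pCoreOf 2 K, a * d * a⁻¹ = d * d * q := by
    obtain ⟨n, q, hq, e⟩ := PreComp.exists_zpow_mul hd hgen ((Subgroup.mem_normalizer_iff.1 (hTK haT) d).1 hd)
    rcases zpow_cases_of_cube hd3 n with h | h | h <;> rw [h] at e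
    · exfalso
      rw [one_mul] at e
      exact hdQ ((Subgroup.mem_normalizer_iff.1 (normalizer_le_normalizer_pCoreOf 2 K (hTK haT)) d).2 (e ▸ hq))
    · exfalso
      obtain ⟨u, hu, hu1⟩ := (Subgroup.bot_or_exists_ne_one _).resolve_left
        (PLocal.fixOn_ne_bot ((Subgroup.zpowers_le.2 haT).trans hTW)
          (PLocal.pActsOn_of_isPGroup (hT.to_le (Subgroup.zpowers_le.2 haT))) (PGroups.elemAb_isPGroup hWe)
          (wOf_ne_bot hK))
      obtain ⟨huW, huf⟩ := PLocal.mem_fixOn.1 hu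
      have hau : a * u * a⁻¹ = u := by rw [huf a (Subgroup.mem_zpowers a), mul_inv_cancel_right]
      have hu' : d * u * d⁻¹ ∈ W := (Subgroup.mem_normalizer_iff.1 (hKW hd) u).1 huW
      have hadu : a * (d * u * d⁻¹) * a⁻¹ = d * u * d⁻¹ := by
        calc a * (d * u * d⁻¹) * a⁻¹ = (a * d * a⁻¹) * (a * u * a⁻¹) * (a * d * a⁻¹)⁻¹ := by group
          _ = d * (q * u) * q⁻¹ * d⁻¹ := by rw [e, hau]; group
          _ = _ := by rw [← Subgroup.mem_centralizer_iff.1 (hp.core_centralizes_wOf hq) u huW]; group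
      have hall := eq_of_fixed_free hK.2.2.2.2.1 (hp.no_fixed hd hd3 hgen)
        (inf_le_left : W ⊓ Subgroup.centralizer ({a} : Set G) ≤ W)
        ⟨huW, Subgroup.mem_centralizer_singleton_iff.2 (huf a (Subgroup.mem_zpowers a)).symm⟩ hu1
        ⟨hu', Subgroup.mem_centralizer_singleton_iff.2 (mul_inv_eq_iff_eq_mul.1 hadu).symm⟩
      exact haC (Subgroup.mem_centralizer_iff.2 fun v hv =>
        Subgroup.mem_centralizer_singleton_iff.1 (inf_eq_left.1 hall hv))
    · exact ⟨q, hq, e⟩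
  have hqdP : qd ∈ P := hcoreP hqd
  set y := a * x1 * a⁻¹ with hy
  have hyx2 : x2⁻¹ * y ∈ Zd := by
    have hz : a * x * a⁻¹ = x ∨ a * x * a⁻¹ = x * s := hTx a haT
    have hconj : ∀ z : G, a * (d * z * d⁻¹) * a⁻¹ = (d * d) * (qd * (a * z * a⁻¹) * qd⁻¹) * (d * d)⁻¹ := by
      intro z
      calc a * (d * z * d⁻¹) * a⁻¹ = (a * d * a⁻¹) * (a * z * a⁻¹) * (a * d * a⁻¹)⁻¹ := by group
        _ = _ := by rw [hada]; group
    have hz' : ∃ e ∈ Zd, qd * (a * x * a⁻¹) * qd⁻¹ = x * e := by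
      rcases hz with h | h <;> rw [h]
      · rcases (hmv qd hqdP).1 with h' | h' <;> rw [h']
        · exact ⟨1, one_mem _, (mul_one x).symm⟩
        · exact ⟨s, hsZd, rfl⟩
      · rw [show qd * (x * s) * qd⁻¹ = (qd * x * qd⁻¹) * (qd * s * qd⁻¹) by group, hPZd qd hqdP s hsZd,
          mul_inv_cancel_right]
        rcases (hmv qd hqdP).1 with h' | h' <;> rw [h']
        · exact ⟨s, hsZd, rfl⟩
        · exact ⟨s * s, mul_mem hsZd hsZd, by rw [mul_assoc]⟩
    obtain ⟨e, he, hee⟩ := hz'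
    rw [hy, hx1, hconj, hee, hx2d, show ((d * d) * x * (d * d)⁻¹)⁻¹ * ((d * d) * (x * e) * (d * d)⁻¹) =
      (d * d) * e * (d * d)⁻¹ by simp [mul_assoc]]
    have h1 := hdZd _ (hdZd e he)
    rwa [show d * (d * e * d⁻¹) * d⁻¹ = (d * d) * e * (d * d)⁻¹ by group] at h1
  have hyWd : y ∈ Wd := by
    have : y = x2 * (x2⁻¹ * y) := by group
    rw [this]
    exact mul_mem hx2Wd (hZdWd hyx2)
  set f1 := x1 * y with hf1
  have hf1Wd : f1 ∈ Wd := mul_mem hx1Wd hyWd
  have haf1 : a * f1 = f1 * a := by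
    refine mul_inv_eq_iff_eq_mul.1 ?_
    calc a * f1 * a⁻¹ = y * ((a * a) * x1 * (a * a)⁻¹) := by rw [hf1, hy]; group
      _ = y * x1 := by rw [ha2]; group
      _ = _ := PGroups.elemAb_comm hWde hyWd hx1Wd
  have has1 : a * s1 * a⁻¹ ≠ s1 := by
    intro h
    obtain ⟨c, hc, e | e⟩ := mem_zJ_cases hT hK hw0 hw01 hs
    · exact hsc (e ▸ hc)
    have hdc : d * c * d⁻¹ = c := by rw [Subgroup.mem_centralizer_iff.1 hc.2 d hd, mul_inv_cancel_right]
    have hac : a * c * a⁻¹ = c := by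
      rw [(Subgroup.mem_centralizer_iff.1 (hTZ haT) c hc.1).symm, mul_inv_cancel_right]
    have hw1' : s1 = c * (d * w0 * d⁻¹) := by
      rw [hs1, e, show d * (c * w0) * d⁻¹ = (d * c * d⁻¹) * (d * w0 * d⁻¹) by group, hdc]
    have hadw : a * (d * w0 * d⁻¹) * a⁻¹ = d * w0 * d⁻¹ := by
      rw [hw1', show a * (c * (d * w0 * d⁻¹)) * a⁻¹ = (a * c * a⁻¹) * (a * (d * w0 * d⁻¹) * a⁻¹) by group,
        hac] at h
      exact mul_left_cancel h
    have hw0a : a * w0 = w0 * a := (Subgroup.mem_centralizer_iff.1 (hTZ haT) w0 hw0.1).symm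
    have hall := eq_of_fixed_free hK.2.2.2.2.1 (hp.no_fixed hd hd3 hgen)
      (inf_le_left : W ⊓ Subgroup.centralizer ({a} : Set G) ≤ W)
      ⟨hw0.2, Subgroup.mem_centralizer_singleton_iff.2 hw0a.symm⟩ hw01
      ⟨(Subgroup.mem_normalizer_iff.1 (hKW hd) w0).1 hw0.2,
        Subgroup.mem_centralizer_singleton_iff.2 (mul_inv_eq_iff_eq_mul.1 hadw).symm⟩
    exact haC (Subgroup.mem_centralizer_iff.2 fun v hv =>
      Subgroup.mem_centralizer_singleton_iff.1 (inf_eq_left.1 hall hv))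
  have hA0P : A0 ≤ P := le_inf (inf_le_left.trans hAT) inf_le_right
  -- the kernel of the action of `A₀` on `Wd`
  set Kx := A0 ⊓ Subgroup.centralizer ({x} : Set G) with hKx
  set K0 := Kx ⊓ Subgroup.centralizer ({x1} : Set G) with hK0
  have htwo : ∀ {H : Subgroup G} {u e : G}, H ≤ P → (∀ q ∈ P, q * u * q⁻¹ = u ∨ q * u * q⁻¹ = u * e) →
      Nat.card H ≤ 2 * Nat.card (H ⊓ Subgroup.centralizer ({u} : Set G) : Subgroup G) := by
    intro H u e hH h
    refine card_le_two_mul_inf fun q hq hqu q' hq' hq'u => Subgroup.mem_centralizer_singleton_iff.2 ?_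
    have h1 := (h q (hH hq)).resolve_left fun e' =>
      hqu (Subgroup.mem_centralizer_singleton_iff.2 (mul_inv_eq_iff_eq_mul.1 e'))
    have h2 := (h q' (hH hq')).resolve_left fun e' =>
      hq'u (Subgroup.mem_centralizer_singleton_iff.2 (mul_inv_eq_iff_eq_mul.1 e'))
    refine mul_inv_eq_iff_eq_mul.1 ?_
    calc q⁻¹ * q' * u * (q⁻¹ * q')⁻¹ = q⁻¹ * (q' * u * q'⁻¹) * q := by group
      _ = q⁻¹ * (q * u * q⁻¹) * q := by rw [h1, h2]
      _ = u := by group
  have hKx2 : Nat.card A0 ≤ 2 * Nat.card Kx := htwo hA0P fun q hq => (hmv q hq).1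
  have hK02 : Nat.card Kx ≤ 2 * Nat.card K0 := htwo (inf_le_left.trans hA0P) fun q hq => (hmv q hq).2.1
  have hK0c : K0 ≤ Subgroup.centralizer (Wd : Set G) := by
    intro q hq
    have hqA : q ∈ A := hq.1.1.1
    have hqP : q ∈ P := hA0P hq.1.1
    have hq1 : q * x1 = x1 * q := Subgroup.mem_centralizer_singleton_iff.1 hq.2
    have hqy : q * y = y * q :=
      (((show Commute q a from hAc q hqA a haA).mul_right (show Commute q x1 from hq1)).mul_right
        (show Commute q a from hAc q hqA a haA).inv_right).eq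
    have hqx2 : q * x2 = x2 * q := by
      have h : Commute q (y * (x2⁻¹ * y)⁻¹) :=
        (show Commute q y from hqy).mul_right (show Commute q (x2⁻¹ * y) from hPZd q hqP _ hyx2).inv_right
      rwa [show y * (x2⁻¹ * y)⁻¹ = x2 by group] at h
    have hle : Wd ≤ Subgroup.centralizer ({q} : Set G) := sup_le (sup_le (sup_le
        (fun z hz => Subgroup.mem_centralizer_singleton_iff.2 (hPZd q hqP z hz).symm)
        (Subgroup.zpowers_le.2 (Subgroup.mem_centralizer_singleton_iff.2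
          (Subgroup.mem_centralizer_singleton_iff.1 hq.1.2).symm)))
        (Subgroup.zpowers_le.2 (Subgroup.mem_centralizer_singleton_iff.2 hq1.symm)))
        (Subgroup.zpowers_le.2 (Subgroup.mem_centralizer_singleton_iff.2 hqx2.symm))
    exact Subgroup.mem_centralizer_iff.2 fun z hz => Subgroup.mem_centralizer_singleton_iff.1 (hle hz)
  set M := Wd ⊓ Subgroup.centralizer ({a} : Set G) with hM
  set CA := Wd ⊓ Subgroup.centralizer (A : Set G) with hCA
  have hWdp : IsPGroup 2 Wd := PGroups.elemAb_isPGroup hWde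
  have hMp : IsPGroup 2 M := hWdp.to_le inf_le_left
  have hCAM : CA ≤ M := fun v hv =>
    ⟨hv.1, Subgroup.mem_centralizer_singleton_iff.2 (Subgroup.mem_centralizer_iff.1 hv.2 a haA).symm⟩
  -- index of `M`
  have hW4 : Nat.card M * 4 ≤ Nat.card Wd := by
    obtain ⟨v, hvW, hva⟩ : ∃ v ∈ W, a * v ≠ v * a := by
      by_contra hc
      push Not at hc
      exact haC (Subgroup.mem_centralizer_iff.2 fun v hv => (hc v hv).symm)
    have hvWd : v ∈ Wd := hZdWd (Subgroup.mem_sup_left hvW)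
    have hWle : W ≤ Wd := le_sup_left.trans hZdWd
    have h1 := PGroups.card_mul_le_card_of_mem (le_sup_left : M ≤ M ⊔ W)
      (hWdp.to_le (sup_le inf_le_left hWle)) (Subgroup.mem_sup_right hvW)
      fun h => hva (Subgroup.mem_centralizer_singleton_iff.1 h.2).symm
    have hx1M : x1 ∉ M ⊔ W := by
      intro h
      have h' : x1 ∈ ((M ⊔ W : Subgroup G) : Set G) := h
      rw [Subgroup.coe_mul_of_left_le_normalizer_right M W
        (fun m hm => Subgroup.centralizer_le_normalizer _ (Subgroup.mem_centralizer_iff.2 fun z hz =>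
          PGroups.elemAb_comm hWde (hWle hz) hm.1))] at h'
      obtain ⟨m, hm, z, hz, hmz⟩ := h'
      have hmz' : m * z = x1 := hmz
      have ham : a * m * a⁻¹ = m := by
        rw [(Subgroup.mem_centralizer_singleton_iff.1 hm.2).symm, mul_inv_cancel_right]
      have h1y : x1⁻¹ * y ∈ Zd := by
        rw [hy, ← hmz', show a * (m * z) * a⁻¹ = (a * m * a⁻¹) * (a * z * a⁻¹) by group, ham,
          show (m * z)⁻¹ * (m * (a * z * a⁻¹)) = z⁻¹ * (a * z * a⁻¹) by group]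
        exact Subgroup.mem_sup_left (W.mul_mem (W.inv_mem hz) ((Subgroup.mem_normalizer_iff.1 (hTW haT) z).1 hz))
      have h12 : x1⁻¹ * x2 ∈ Zd := by
        have := mul_mem h1y (inv_mem hyx2)
        rwa [show x1⁻¹ * y * (x2⁻¹ * y)⁻¹ = x1⁻¹ * x2 by group] at this
      have h01 : x⁻¹ * x1 ∈ Zd := by
        have := hdZd _ (hdZd _ h12)
        have e3 : d * (d * (x1⁻¹ * x2) * d⁻¹) * d⁻¹ = x⁻¹ * x1 := by
          rw [hx1, hx2d, show d * (d * ((d * x * d⁻¹)⁻¹ * ((d * d) * x * (d * d)⁻¹)) * d⁻¹) * d⁻¹ =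
            ((d * d * d) * x * (d * d * d)⁻¹)⁻¹ * (d * ((d * d * d) * x * (d * d * d)⁻¹) * d⁻¹) by simp [mul_assoc],
            hd3']
          group
        rwa [e3] at this
      have hqP : q₀ ∈ P := ⟨hq₀T, hq₀W⟩
      have hc : q₀ * x1 * q₀⁻¹ = (q₀ * x * q₀⁻¹) * (x⁻¹ * x1) := by
        calc q₀ * x1 * q₀⁻¹ = (q₀ * x * q₀⁻¹) * (q₀ * (x⁻¹ * x1) * q₀⁻¹) := by group
          _ = _ := by rw [hPZd q₀ hqP _ h01, mul_inv_cancel_right]
      have hq0 : q₀ * x * q₀⁻¹ = x * s :=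
        (hmv q₀ hqP).1.resolve_left fun e => hq₀x (mul_inv_eq_iff_eq_mul.1 e)
      rw [hq0, mul_assoc x, PGroups.elemAb_comm hZde hsZd h01, ← mul_assoc x, mul_inv_cancel_left] at hc
      rcases (hmv q₀ hqP).2.1 with e | e <;> rw [e] at hc
      · exact hs_ne (mul_eq_left.1 hc.symm)
      · exact hs01 (mul_left_cancel hc)
    have h2 := PGroups.card_mul_le_card_of_mem (sup_le inf_le_left hWle : M ⊔ W ≤ Wd) hWdp hx1Wd hx1M
    omega
  -- pairing
  have hnotCA : ∀ q ∈ A0, ∀ v : G, q * v ≠ v * q → v ∉ CA := fun q hq v hqv h =>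
    hqv (Subgroup.mem_centralizer_iff.1 h.2 q hq.1)
  have hf1moved : ∀ q ∈ A0, q * x1 ≠ x1 * q → q * f1 ≠ f1 * q := by
    intro q hq hq1 h
    have hqP := hA0P hq
    have e1 : q * x1 * q⁻¹ = x1 * s1 :=
      (hmv q hqP).2.1.resolve_left fun e => hq1 (mul_inv_eq_iff_eq_mul.1 e)
    have e2 : q * y * q⁻¹ = y * (a * s1 * a⁻¹) := by
      rw [hy]
      calc q * (a * x1 * a⁻¹) * q⁻¹ = (q * a) * x1 * (q * a)⁻¹ := by group
        _ = a * (q * x1 * q⁻¹) * a⁻¹ := by rw [hAc q hq.1 a haA]; group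
        _ = _ := by rw [e1]; group
    have e3 : q * f1 * q⁻¹ = f1 * (s1 * (a * s1 * a⁻¹)) := by
      have has1Zd : a * s1 * a⁻¹ ∈ Wd := by
        have := mul_mem (inv_mem hyWd) (hPn q hqP y hyWd)
        rwa [e2, inv_mul_cancel_left] at this
      calc q * f1 * q⁻¹ = (q * x1 * q⁻¹) * (q * y * q⁻¹) := by rw [hf1]; group
        _ = x1 * (s1 * y) * (a * s1 * a⁻¹) := by rw [e1, e2]; group
        _ = _ := by rw [PGroups.elemAb_comm hWde (hZdWd hs1Zd) hyWd, hf1]; group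
    rw [h, mul_inv_cancel_right] at e3
    have e4 : s1 * (a * s1 * a⁻¹) = 1 := mul_eq_left.1 e3.symm
    refine has1 (eq_comm.1 ?_)
    have hs12' : s1 * s1 = 1 := by rw [← pow_two]; exact hZde.2 s1 hs1Zd
    exact mul_left_cancel (hs12'.trans e4.symm)
  have hcount : Nat.card A0 * Nat.card CA ≤ Nat.card K0 * Nat.card M := by
    have hCAMc : Nat.card CA ≤ Nat.card M := Subgroup.card_le_of_le hCAM
    by_cases hx0 : ∀ q ∈ A0, q * x = x * q
    · have hA0Kx : A0 = Kx := le_antisymm (le_inf le_rfl fun q hq =>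
        Subgroup.mem_centralizer_singleton_iff.2 (hx0 q hq)) inf_le_left
      by_cases h1 : ∀ q ∈ Kx, q * x1 = x1 * q
      · have : Kx = K0 := le_antisymm (le_inf le_rfl fun q hq =>
          Subgroup.mem_centralizer_singleton_iff.2 (h1 q hq)) inf_le_left
        rw [hA0Kx, this]
        exact Nat.mul_le_mul_left _ hCAMc
      · push Not at h1
        obtain ⟨q, hq, hq1⟩ := h1
        have h2 := PGroups.card_mul_le_card_of_mem hCAM hMp
          ⟨hf1Wd, Subgroup.mem_centralizer_singleton_iff.2 haf1.symm⟩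
          (hnotCA q hq.1 f1 (hf1moved q hq.1 hq1))
        rw [hA0Kx]
        calc Nat.card Kx * Nat.card CA ≤ 2 * Nat.card K0 * Nat.card CA := Nat.mul_le_mul_right _ hK02
          _ = Nat.card K0 * (Nat.card CA * 2) := by ring
          _ ≤ _ := Nat.mul_le_mul_left _ h2
    · push Not at hx0
      obtain ⟨qe, hqe, hqex⟩ := hx0
      have hax' : a * x = x * a := hax.resolve_left fun h => hqex (h qe hqe)
      have hxM : x ∈ M := ⟨hxWd, Subgroup.mem_centralizer_singleton_iff.2 hax'.symm⟩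
      by_cases h1 : ∀ q ∈ Kx, q * x1 = x1 * q
      · have hKK : Kx = K0 := le_antisymm (le_inf le_rfl fun q hq =>
          Subgroup.mem_centralizer_singleton_iff.2 (h1 q hq)) inf_le_left
        have h2 := PGroups.card_mul_le_card_of_mem hCAM hMp hxM (hnotCA qe hqe x hqex)
        calc Nat.card A0 * Nat.card CA ≤ 2 * Nat.card Kx * Nat.card CA := Nat.mul_le_mul_right _ hKx2
          _ = Nat.card K0 * (Nat.card CA * 2) := by rw [hKK]; ring
          _ ≤ _ := Nat.mul_le_mul_left _ h2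
      · push Not at h1
        obtain ⟨q, hq, hq1⟩ := h1
        set C1 := M ⊓ Subgroup.centralizer ({q} : Set G)
        have hxC1 : x ∈ C1 := ⟨hxM, Subgroup.mem_centralizer_singleton_iff.2
          (Subgroup.mem_centralizer_singleton_iff.1 hq.2).symm⟩
        have h2 := PGroups.card_mul_le_card_of_mem
          (show CA ≤ C1 from fun v hv => ⟨hCAM hv, Subgroup.mem_centralizer_singleton_iff.2
            (Subgroup.mem_centralizer_iff.1 hv.2 q hq.1.1).symm⟩) (hMp.to_le inf_le_left) hxC1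
          (hnotCA qe hqe x hqex)
        have h3 := PGroups.card_mul_le_card_of_mem (inf_le_left : C1 ≤ M) hMp
          ⟨hf1Wd, Subgroup.mem_centralizer_singleton_iff.2 haf1.symm⟩
          fun h => hf1moved q hq.1 hq1 (Subgroup.mem_centralizer_singleton_iff.1 h.2).symm
        calc Nat.card A0 * Nat.card CA ≤ 2 * (2 * Nat.card K0) * Nat.card CA :=
              Nat.mul_le_mul_right _ (hKx2.trans (Nat.mul_le_mul_left 2 hK02))
          _ = Nat.card K0 * (Nat.card CA * 2 * 2) := by ring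
          _ ≤ Nat.card K0 * (Nat.card C1 * 2) := Nat.mul_le_mul_left _ (Nat.mul_le_mul_right 2 h2)
          _ ≤ _ := Nat.mul_le_mul_left _ h3
  -- the bound on elementary abelian subgroups
  have hK0A : K0 ≤ A := fun q hq => hq.1.1.1
  have hE : Cfsg.IsElementaryAbelian 2 (K0 ⊔ Wd : Subgroup G) :=
    PGroups.elemAb_sup (PGroups.elemAb_mono hA.mem.2.1 hK0A) hWde fun q hq v hv =>
      (Subgroup.mem_centralizer_iff.1 (hK0c hq) v hv).symm
  have hn : K0 ≤ Subgroup.normalizer (Wd : Set G) := hK0c.trans (Subgroup.centralizer_le_normalizer _)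
  have h1 := PLocal.card_sup_mul_card_inf hn
  have h2 : Nat.card (K0 ⊔ Wd : Subgroup G) ≤ 2 * Nat.card A0 :=
    (hA.mem.2.2 _ (sup_le (hK0A.trans hAT) (hWdP.trans inf_le_left)) hE).trans hA.index
  have h3 : Nat.card (K0 ⊓ Wd : Subgroup G) ≤ Nat.card CA := Subgroup.card_le_of_le fun v hv =>
    ⟨hv.2, Subgroup.mem_centralizer_iff.2 fun u hu => hAc u hu v (hK0A hv.1)⟩
  have h4 : Nat.card K0 * Nat.card Wd ≤ 2 * Nat.card A0 * Nat.card CA := h1 ▸ Nat.mul_le_mul h2 h3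
  have h5 : Nat.card K0 * (Nat.card M * 4) ≤ Nat.card K0 * Nat.card Wd := Nat.mul_le_mul_left _ hW4
  have h6 : 0 < Nat.card K0 * Nat.card M := Nat.mul_pos Nat.card_pos Nat.card_pos
  nlinarith

end Cfsg.Agent.Lib.LAEven56.JComp
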