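import Cfsg.Agent.Lib.LAEven56.JComp.Shape

/-!
# Every vertex has a partner over the same `T`

Owner: helper56.
-/

set_option autoImplicit false
set_option linter.style.haveILetI false
set_option linter.unusedSectionVars false

open Cfsg
open scoped commutatorElement

namespace Cfsg.Agent.Lib.LAEven56.JComp

open Cfsg.Agent.Lib

variable {G : Type*} [Group G] [Finite G] {T K L : Subgroup G}

theorem omegaCenter_ne_bot {P : Subgroup G} (hP : IsPGroup 2 P) (hne : P ≠ ⊥) :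
    Cfsg.omegaCenterOf P ≠ ⊥ := by
  haveI : Fact (Nat.Prime 2) := ⟨Nat.prime_two⟩
  obtain ⟨c, hc, hc1⟩ := (Subgroup.bot_or_exists_ne_one _).resolve_left
    (PLocal.fixOn_ne_bot (p := 2) (A := P) (V := P) Subgroup.le_normalizer (PLocal.pActsOn_of_isPGroup hP) hP hne)
  obtain ⟨hcP, hcf⟩ := PLocal.mem_fixOn.1 hc
  intro hV
  have hZ : P ⊓ Subgroup.centralizer (P : Set G) = ⊥ :=
    CosetGraph.SylowIn.eq_bot_of_omegaOne_eq_bot (p := 2) (hP.to_le inf_le_left) hV
  exact hc1 (Subgroup.mem_bot.1 (hZ ▸ ⟨hcP, Subgroup.mem_centralizer_iff.2 fun a ha => hcf a ha⟩))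

theorem exists_normalizing {P Q : Subgroup G} (hQ : IsPGroup 2 Q) (hPQ : P ≤ Q) (hne : ¬ Q ≤ P) :
    ∃ y ∈ Q, y ∉ P ∧ y ∈ Subgroup.normalizer (P : Set G) := by
  haveI : Fact (Nat.Prime 2) := ⟨Nat.prime_two⟩
  haveI := hQ.isNilpotent
  have hlt : P.subgroupOf Q < ⊤ := by
    rw [lt_top_iff_ne_top]
    intro e
    exact hne fun x hx => (e ▸ Subgroup.mem_top (⟨x, hx⟩ : Q) : (⟨x, hx⟩ : Q) ∈ P.subgroupOf Q)
  obtain ⟨y, hy, hyP⟩ := SetLike.exists_of_lt (Group.normalizerCondition_of_isNilpotent _ hlt)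
  refine ⟨y, y.2, fun h => hyP (Subgroup.mem_subgroupOf.2 h), ?_⟩
  rw [Subgroup.mem_normalizer_iff]
  intro x
  constructor
  · intro hx
    exact (Subgroup.mem_normalizer_iff.1 hy ⟨x, hPQ hx⟩).1 hx
  · intro hx
    have hxQ : x ∈ Q := by
      have := Q.mul_mem (Q.mul_mem (Q.inv_mem y.2) (hPQ hx)) y.2
      simpa [mul_assoc] using this
    exact (Subgroup.mem_normalizer_iff.1 hy ⟨x, hxQ⟩).2 hx

theorem le_sylow_of_le_normalizer (S : Sylow 2 G) {Q : Subgroup G} (hQ : IsPGroup 2 Q)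
    (h : Q ≤ Subgroup.normalizer ((S : Subgroup G) : Set G)) : Q ≤ (S : Subgroup G) :=
  le_sup_left.trans (S.is_maximal' (hQ.to_sup_of_normal_right' S.isPGroup' h) le_sup_right).le

namespace Vertex

/-- An element of `L` normalising `T` which is a 2-element lies in `T`. -/
theorem mem_T (v : Vertex T K L) {P : Subgroup G} (hP : IsPGroup 2 P) {y : G} (hy : y ∈ P) (hyL : y ∈ L)
    (hyN : y ∈ Subgroup.normalizer (T : Set G)) : y ∈ T := by
  obtain ⟨k, hk⟩ := isPGroup_iff_pow_pow_eq_one.1 hP ⟨y, hy⟩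
  exact mem_sylowTwoIn_of_normalizer v.mem.1 hyL (congrArg Subtype.val hk) hyN

/-- A moved element of the normaliser of `T` gives a partner. -/
theorem pair_of_not_mem (v : Vertex T K L) {g : G} (hgT : g ∈ Subgroup.normalizer (T : Set G)) (hg : g ∉ L) :
    Pair T K L (K.map (MulAut.conj g).toMonoidHom) (L.map (MulAut.conj g).toMonoidHom) := by
  refine ⟨v, ?_, fun e => hg (normalizer_le_of_maximal v.maximal (mem_normalizer_iff_map.2 e.symm))⟩
  have := v.map g
  rwa [mem_normalizer_iff_map.1 hgT] at this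

/-- With `T` Sylow in `G` and `N(T) ≤ L`, also `N(J(T)) ≤ L`. -/
theorem normalizer_jT_le (hG : ZNHyp G) (S : Sylow 2 G) (v : Vertex (S : Subgroup G) K L)
    (hNT : Subgroup.normalizer ((S : Subgroup G) : Set G) ≤ L) :
    Subgroup.normalizer (jT (S : Subgroup G) : Set G) ≤ L := by
  set T := (S : Subgroup G) with hTdef
  intro g hg
  by_contra hgL
  set f := (MulAut.conj g).toMonoidHom with hf
  have hT := v.two
  have hK := v.comp
  set K2 := K.map f with hK2d
  have hJ : jT (T.map f) = jT T := by rw [← map_jT, mem_normalizer_iff_map.1 hg]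
  have v2 := v.map g
  have hK2 : Cfsg.IsJComponent T K2 := isJComponent_map_of_normalizes hg hK
  have hgZ : g ∈ Subgroup.normalizer (zJ T : Set G) := by
    rw [mem_normalizer_iff_map]
    change (PLocal.omegaCenterOf 2 (jT T)).map _ = _
    rw [PLocal.map_omegaCenterOf _ (MulAut.conj g).injective, mem_normalizer_iff_map.1 hg]
    rfl
  have huniq : ∀ {x : G}, Subgroup.centralizer ({x} : Set G) ≤ L → x ∈ Subgroup.centralizer (K2 : Set G) →
      x ∈ zJ T → False := by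
    intro x hx hxK hxJ
    have hle : K2 ⊔ jT (T.map f) ≤ L := by
      rw [hJ]
      exact _root_.sup_le (le_trans (fun k hk => Subgroup.mem_centralizer_singleton_iff.2
        (Subgroup.mem_centralizer_iff.1 hxK k hk)) hx) (LocalData.jT_le v.mem)
    exact hgL (normalizer_le_of_maximal v.maximal (mem_normalizer_iff_map.2 (v2.uniq L v.maximal hle).symm))
  -- `|cK| ≤ 2`
  have hcard : Nat.card (cK T K) ≤ 2 := by
    have hn : cK T K ≤ Subgroup.normalizer (cK T K2 : Set G) := fun x hx =>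
      Subgroup.centralizer_le_normalizer _ (Subgroup.mem_centralizer_iff.2 fun y hy =>
        PGroups.elemAb_comm (zJ_elemAb T) hy.1 hx.1)
    have h := PLocal.card_sup_mul_card_inf hn
    have hbot : cK T K ⊓ cK T K2 = ⊥ := le_bot_iff.1 fun x hx => Subgroup.mem_bot.2 <| by
      by_contra hx1
      exact huniq (v.centralizer_le hx.1 hx1) hx.2.2 hx.1.1
    rw [hbot, Subgroup.card_bot, mul_one] at h
    have h1 : Nat.card (cK T K ⊔ cK T K2 : Subgroup G) ≤ Nat.card (zJ T) :=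
      Subgroup.card_le_of_le (_root_.sup_le inf_le_left inf_le_left)
    rw [h, card_zJ hT hK2, mul_comm 2] at h1
    exact Nat.le_of_mul_le_mul_left (by rwa [mul_comm] at h1) (Nat.card_pos (α := cK T K2))
  set Z := Cfsg.omegaCenterOf T with hZdef
  have hCZ : Subgroup.centralizer (Z : Set G) ≤ Subgroup.normalizer (T : Set G) := hG.z S
  have hZle : Z ≤ zJ T := v.omegaCenter_le
  have hZne : Z ≠ ⊥ := omegaCenter_ne_bot hT fun e => not_isPGroup_of_comp hK IsPGroup.of_bot (by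
    have h2 := hK.2.1
    have hJ0 : jT T = ⊥ := le_bot_iff.1 ((PGroups.thompsonSubgroupOf_le 2 T).trans e.le)
    change ⁅K, jT T⁆ = K at h2
    rw [hJ0, Subgroup.commutator_bot_right] at h2
    exact h2.symm.le)
  -- `Z ≠ Ω₁Z(J(T))`
  have hZlt : Z ≠ zJ T := by
    intro e
    refine hgL (hNT ?_)
    rw [mem_normalizer_iff_map]
    refine Subgroup.eq_of_le_of_card_ge ?_ (Subgroup.card_map_of_injective (MulAut.conj g).injective).ge
    refine le_sylow_of_le_normalizer S (hT.map _) (le_trans ?_ hCZ)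
    have hC : g ∈ Subgroup.normalizer (Subgroup.centralizer (Z : Set G) : Set G) :=
      Balance.normalizer_le_normalizer_centralizer _ (e ▸ hgZ)
    rw [← mem_normalizer_iff_map.1 hC]
    exact Subgroup.map_mono (Subgroup.le_centralizer_iff.1 (Subgroup.le_centralizer_iff.1
      (PLocal.le_centralizer_omegaCenterOf T)))
  have hcard4 : Nat.card (zJ T) = 4 := by
    have h1 := card_zJ hT hK
    have h2 := Nat.card_pos (α := cK T K)
    by_contra hne
    refine hZlt (Subgroup.eq_of_le_of_card_ge hZle ?_)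
    have h3 : Nat.card Z ≠ 1 := fun e => hZne (Subgroup.card_eq_one.1 e)
    have h4 := Nat.card_pos (α := Z)
    omega
  have hZ2 : Nat.card Z ≤ 2 := eq_one_or_of_fixed hcard4 (lt_of_le_of_ne hZle hZlt)
  obtain ⟨z, hz, hz1⟩ := (Subgroup.bot_or_exists_ne_one _).resolve_left hZne
  have hzC : ∀ {A : Subgroup G}, z ∈ Subgroup.centralizer (A : Set G) → A ≤ Subgroup.centralizer (Z : Set G) := by
    intro A hA a ha
    refine Subgroup.mem_centralizer_iff.2 fun y hy => ?_
    rcases eq_one_or_eq_of_card_two hZ2 hz hz1 hy with rfl | rfl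
    · simp
    · exact (Subgroup.mem_centralizer_iff.1 hA a ha).symm
  have hzK : ∀ {A : Subgroup G}, Cfsg.IsJComponent T A → z ∉ Subgroup.centralizer (A : Set G) :=
    fun hA h => not_le_centralizer_omegaCenter hG hA S (PGroups.thompsonSubgroupOf_le 2 T) (hzC h)
  obtain ⟨c, hc, hc1⟩ : ∃ c ∈ cK T K, c ≠ 1 := by
    refine (Subgroup.bot_or_exists_ne_one _).resolve_left fun e => ?_
    have h1 := card_zJ hT hK
    rw [e, Subgroup.card_bot] at h1
    omega
  obtain ⟨w, hw, hw1, hwc⟩ := exists_wZ hT hK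
  have hwc' : w ≠ c := fun e => hwc (e ▸ hc)
  have hzc : z ≠ c := fun e => hzK hK (e ▸ hc.2)
  have hzt : ∀ t ∈ T, t * z * t⁻¹ = z := fun t ht =>
    conj_eq_of_comm (Subgroup.mem_centralizer_iff.1 (PLocal.le_centralizer_omegaCenterOf T ht) z hz)
  have hcc : c * c = 1 := by rw [← pow_two]; exact (zJ_elemAb T).2 c hc.1
  have hTZ : T ≤ Subgroup.normalizer (zJ T : Set G) := fun t ht => by
    rw [mem_normalizer_iff_map]
    change (PLocal.omegaCenterOf 2 (jT T)).map _ = _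
    rw [PLocal.map_omegaCenterOf _ (MulAut.conj t).injective, mem_normalizer_iff_map.1 (le_normalizer_jT T ht)]
    rfl
  obtain ⟨t, ht, htc⟩ : ∃ t ∈ T, t * c * t⁻¹ ≠ c := by
    by_contra hcon
    push Not at hcon
    refine hZlt (le_antisymm hZle fun x hx => ?_)
    refine PGroups.mem_omegaOne_of_pow ⟨PGroups.thompsonSubgroupOf_le 2 T (zJ_le_jT T hx),
      Subgroup.mem_centralizer_iff.2 fun t ht => ?_⟩ ((zJ_elemAb T).2 x hx)
    exact (Subgroup.mem_centralizer_iff.1 (mem_centralizer_of_two hcard4 hc.1 hc1 (hZle hz) hz1 hzc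
      (mul_inv_eq_iff_eq_mul.1 (hcon t ht)) (mul_inv_eq_iff_eq_mul.1 (hzt t ht))) x hx).symm
  have hzw : z ≠ w := by
    intro e
    obtain ⟨R, D⟩ := exists_localData hG v.mem
    obtain ⟨h4, h5⟩ := D.comp_conj hG v.mem hK v.le (v.mem.1.1 ht)
    have htK : t ∈ Subgroup.normalizer (K : Set G) := by
      rw [mem_normalizer_iff_map]
      refine D.eq_of_mem_wOf hG v.mem h4 h5 hK v.le (w := w) ?_ hw.2 hw1
      rw [← map_wOf _ (MulAut.conj t).injective]
      exact ⟨w, hw.2, e ▸ hzt t ht⟩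
    have htcK : t ∈ Subgroup.normalizer (cK T K : Set G) := Subgroup.inf_normalizer_le_normalizer_inf
      ⟨hTZ ht, Balance.normalizer_le_normalizer_centralizer _ htK⟩
    rcases eq_one_or_eq_of_card_two hcard hc hc1 ((Subgroup.mem_normalizer_iff.1 htcK c).1 hc) with h | h
    · exact hc1 (conj_eq_one_iff.1 h)
    · exact htc h
  have hzwc : z = w * c := by
    rcases four_cases hcard4 hc.1 hc1 hcc hw.1 hw1 hwc' (hZle hz) with e | e | e | e
    · exact absurd e hz1
    · exact absurd e hzc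
    · exact absurd e hzw
    · exact e
  have htw : t * c * t⁻¹ = w := by
    rcases four_cases hcard4 hc.1 hc1 hcc hw.1 hw1 hwc'
      ((Subgroup.mem_normalizer_iff.1 (hTZ ht) c).1 hc.1) with e | e | e | e
    · exact absurd (conj_eq_one_iff.1 e) hc1
    · exact absurd e htc
    · exact e
    · exact absurd (mul_left_cancel (mul_right_cancel (e.trans (hzwc.symm.trans (hzt t ht).symm)))).symm hzc
  have hCw : Subgroup.centralizer ({w} : Set G) ≤ L := by
    have vt := v.map t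
    rw [mem_normalizer_iff_map.1 (Subgroup.le_normalizer ht : t ∈ Subgroup.normalizer (T : Set G)),
      mem_normalizer_iff_map.1 (Subgroup.le_normalizer (v.mem.1.1 ht) : t ∈ Subgroup.normalizer (L : Set G))] at vt
    refine vt.centralizer_le ⟨hw.1, Subgroup.mem_centralizer_iff.2 ?_⟩ hw1
    rintro _ ⟨k, hk, rfl⟩
    rw [← htw]
    change t * k * t⁻¹ * (t * c * t⁻¹) = t * c * t⁻¹ * (t * k * t⁻¹)
    rw [conj_mul, conj_mul, Subgroup.mem_centralizer_iff.1 hc.2 k hk]
  -- the conjugate of `c`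
  have hc2J : g * c * g⁻¹ ∈ zJ T := (Subgroup.mem_normalizer_iff.1 hgZ c).1 hc.1
  have hc2K : g * c * g⁻¹ ∈ Subgroup.centralizer (K2 : Set G) := by
    refine Subgroup.mem_centralizer_iff.2 ?_
    rintro _ ⟨k, hk, rfl⟩
    change g * k * g⁻¹ * (g * c * g⁻¹) = g * c * g⁻¹ * (g * k * g⁻¹)
    rw [conj_mul, conj_mul, Subgroup.mem_centralizer_iff.1 hc.2 k hk]
  rcases four_cases hcard4 hc.1 hc1 hcc hw.1 hw1 hwc' hc2J with e | e | e | e
  · exact hc1 (conj_eq_one_iff.1 e)
  · exact huniq (v.centralizer_le hc hc1) (e ▸ hc2K) hc.1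
  · exact huniq hCw (e ▸ hc2K) hw.1
  · exact hzK hK2 (hzwc ▸ e ▸ hc2K)

end Vertex

theorem exists_maxStraddling {M : Subgroup G} (h : (Cfsg.straddlingTwoSubgroups M).Nonempty) :
    (Cfsg.maxStraddlingTwoSubgroups M).Nonempty := by
  obtain ⟨A, hA, hAmax⟩ := Set.exists_max_image _ Cfsg.maxElemAbelianOrder (Set.toFinite _) h
  set S1 := {X ∈ Cfsg.straddlingTwoSubgroups M | Cfsg.maxElemAbelianOrder X = Cfsg.maxElemAbelianOrder A}
  obtain ⟨B, hB, hBmax⟩ := Set.exists_max_image S1 (fun X : Subgroup G => Nat.card (jT X)) (Set.toFinite _)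
    ⟨A, hA, rfl⟩
  set S2 := {X ∈ S1 | Nat.card (jT X) = Nat.card (jT B)}
  obtain ⟨C, hC, hCmax⟩ := Set.exists_max_image S2 (fun X : Subgroup G => Nat.card X) (Set.toFinite _)
    ⟨B, hB, rfl⟩
  obtain ⟨⟨hC1, hC2⟩, hC3⟩ := hC
  exact ⟨C, hC1, fun X hX => ⟨hC2 ▸ hAmax X hX, fun e =>
    ⟨hC3 ▸ hBmax X ⟨hX, e.trans hC2⟩, fun e' => hCmax X ⟨⟨hX, e.trans hC2⟩, e'.trans hC3⟩⟩⟩⟩

/-- A straddling subgroup of `L` inside a Sylow subgroup `S` lying in no 2-local outside `L`: impossible. -/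
theorem false_of_not_straddling (hG : ZNHyp G) (F : Frame G L) (S : Sylow 2 G)
    (v : Vertex (S : Subgroup G) K L)
    (hns : ∀ Y : Subgroup G, Cfsg.IsTwoLocal Y → (S : Subgroup G) ≤ Y → Y ≤ L)
    {T' : Subgroup G} (hT' : T' ∈ Cfsg.maxStraddlingTwoSubgroups L) (hT'S : T' ≤ (S : Subgroup G)) :
    False := by
  haveI : Fact (Nat.Prime 2) := ⟨Nat.prime_two⟩
  obtain ⟨K', hK'⟩ := F.outside_nonempty hT'
  obtain ⟨L', hL', hKL', huniq, -, hsyl⟩ := F.uniqueness hT' hK'
  have hL'L : ¬ L' ≤ L := fun h => hK'.2.1 ((le_sup_left.trans hKL').trans h)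
  have v' : Vertex T' K' L' :=
    ⟨hL', F.mem_jOvergroups hT' hL'.1 hL'L hsyl.1, hK'.1.1, le_sup_left.trans hKL', huniq⟩
  have hne : ¬ (S : Subgroup G) ≤ T' := fun h => hL'L (hns L' hL'.1 (h.trans hsyl.1))
  obtain ⟨g, hgS, hgT', hgN⟩ := exists_normalizing S.isPGroup' hT'S hne
  have hgL' : g ∉ L' := fun h => hgT' (v'.mem_T S.isPGroup' hgS h hgN)
  set L2 := L'.map (MulAut.conj g).toMonoidHom with hL2
  have p := v'.pair_of_not_mem hgN hgL'
  set Q1 := Cfsg.pCoreOf 2 L' with hQ1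
  set Q2 := Cfsg.pCoreOf 2 L2 with hQ2
  have hQ12 : Q1.map (MulAut.conj g).toMonoidHom = Q2 :=
    CosetGraph.SylowIn.pCoreOf_map 2 L' (MulAut.conj g).toMonoidHom (MulAut.conj g).injective
  have hQ1T : Q1 ≤ T' := LocalData.core_le_T p.left.mem
  have hQ2T : Q2 ≤ T' := LocalData.core_le_T p.right.mem
  have hcardQ : Nat.card Q2 = Nat.card Q1 := hQ12 ▸ Subgroup.card_map_of_injective (MulAut.conj g).injective
  have hQ21 : ¬ Q2 ≤ Q1 := fun h => p.symm.vC_not_le hG ((PLocal.omegaCenterOf_le _).trans h)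
  have hQ1V : Q1 = vC L' := p.core_eq_vC hG
  have hQ2V : Q2 = vC L2 := p.symm.core_eq_vC hG
  have hsq1 : ∀ x ∈ Q1, x * x = 1 := fun x hx => vC_sq (L := L') (hQ1V.le hx)
  have hsq2 : ∀ x ∈ Q2, x * x = 1 := fun x hx => vC_sq (L := L2) (hQ2V.le hx)
  have hN12 : Q1 ≤ Subgroup.normalizer (Q2 : Set G) :=
    hQ1T.trans (p.right.mem.1.1.trans (CharP.le_normalizer_pCoreOf 2 L2))
  have hTsup : Q1 ⊔ Q2 = T' := by
    obtain ⟨x, hx, hx1⟩ := SetLike.not_le_iff_exists.1 hQ21
    refine Subgroup.eq_of_le_of_card_ge (sup_le hQ1T hQ2T) ?_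
    have h1 := PGroups.card_mul_le_card_of_mem (le_sup_left : Q1 ≤ Q1 ⊔ Q2)
      (p.left.two.to_le (sup_le hQ1T hQ2T)) (Subgroup.mem_sup_right hx) hx1
    rw [p.card_eq_two_mul_core hG, mul_comm]
    exact h1
  have hI : Nat.card Q1 = 2 * Nat.card (Q1 ⊓ Q2 : Subgroup G) := by
    have h := PLocal.card_sup_mul_card_inf hN12
    rw [hTsup, p.card_eq_two_mul_core hG, hcardQ] at h
    have hpos := Nat.card_pos (α := Q1)
    nlinarith
  -- every involution of `T'` lies in `Q₁` or `Q₂`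
  have hinvol : ∀ x ∈ T', x * x = 1 → x ∈ Q1 ∨ x ∈ Q2 := by
    intro x hx hxx
    have hx' : x ∈ ((Q1 ⊔ Q2 : Subgroup G) : Set G) := hTsup.symm ▸ hx
    rw [Subgroup.coe_mul_of_left_le_normalizer_right _ _ hN12] at hx'
    obtain ⟨a, ha, b, hb, rfl⟩ := hx'
    by_cases ha2 : a ∈ Q2
    · exact Or.inr (Q2.mul_mem ha2 hb)
    refine Or.inl (Q1.mul_mem ha ?_)
    have hab : a * b = b * a := by
      have h1 : (a * b)⁻¹ = a * b := inv_eq_of_mul_eq_one_right hxx
      rw [mul_inv_rev, inv_eq_of_mul_eq_one_right (hsq1 a ha), inv_eq_of_mul_eq_one_right (hsq2 b hb)] at h1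
      exact h1.symm
    have h2 := PGroups.card_mul_le_card_of_mem (le_sup_left : Q1 ⊓ Q2 ≤ Q1 ⊓ Q2 ⊔ Subgroup.zpowers a)
      ((CharP.isPGroup_pCoreOf 2 L').to_le (sup_le inf_le_left (Subgroup.zpowers_le.2 ha)))
      (Subgroup.mem_sup_right (Subgroup.mem_zpowers a)) fun h => ha2 h.2
    have h3 : Q1 ⊓ Q2 ⊔ Subgroup.zpowers a = Q1 :=
      Subgroup.eq_of_le_of_card_ge (sup_le inf_le_left (Subgroup.zpowers_le.2 ha)) (by omega)
    refine p.left.mem.2.2 (Subgroup.mem_centralizer_iff.2 fun y hy => ?_)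
    have hle : Q1 ⊓ Q2 ⊔ Subgroup.zpowers a ≤ Subgroup.centralizer ({b} : Set G) := sup_le
      (fun z hz => Subgroup.mem_centralizer_singleton_iff.2
        (vC_comm (L := L2) (hQ2V.le hz.2) (hQ2V.le hb)))
      (Subgroup.zpowers_le.2 (Subgroup.mem_centralizer_singleton_iff.2 hab))
    exact Subgroup.mem_centralizer_singleton_iff.1 (hle (h3.symm ▸ hy))
  have hexp : ∀ E : Subgroup G, E ≤ T' → (∀ x ∈ E, x * x = 1) → E ≤ Q1 ∨ E ≤ Q2 := by
    intro E hET hE
    by_contra hc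
    push Not at hc
    obtain ⟨a, ha, ha1⟩ := SetLike.not_le_iff_exists.1 hc.1
    obtain ⟨b, hb, hb2⟩ := SetLike.not_le_iff_exists.1 hc.2
    have ha2 : a ∈ Q2 := (hinvol a (hET ha) (hE a ha)).resolve_left ha1
    have hb1 : b ∈ Q1 := (hinvol b (hET hb) (hE b hb)).resolve_right hb2
    rcases hinvol (a * b) (hET (E.mul_mem ha hb)) (hE _ (E.mul_mem ha hb)) with h | h
    · exact ha1 ((Subgroup.mul_mem_cancel_right _ hb1).1 h)
    · exact hb2 ((Subgroup.mul_mem_cancel_left _ ha2).1 h)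
  -- `V = Ω₁Z(O₂(L)) ≤ T'`
  set V := vC L with hVdef
  have hVS : V ≤ (S : Subgroup G) := (PLocal.omegaCenterOf_le _).trans (LocalData.core_le_T v.mem)
  have hSV : (S : Subgroup G) ≤ Subgroup.normalizer (V : Set G) := v.mem.1.1.trans (le_normalizer_vC L)
  have hVN : ∀ x ∈ V, x ∈ Subgroup.normalizer (T' : Set G) → x ∈ T' := by
    intro x hx hxN
    have hmapT : T'.map (MulAut.conj x).toMonoidHom = T' := mem_normalizer_iff_map.1 hxN
    have hE : ∀ y ∈ Q1.map (MulAut.conj x).toMonoidHom, y * y = 1 := by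
      rintro _ ⟨y, hy, rfl⟩
      rw [← map_mul, hsq1 y hy, map_one]
    rcases hexp _ ((Subgroup.map_mono hQ1T).trans hmapT.le) hE with h | h
    · have hxQ : x ∈ Subgroup.normalizer (Q1 : Set G) := mem_normalizer_iff_map.2
        (Subgroup.eq_of_le_of_card_ge h (Subgroup.card_map_of_injective (MulAut.conj x).injective).ge)
      rw [v'.normalizer_core_eq] at hxQ
      exact v'.mem_T S.isPGroup' (hVS hx) hxQ hxN
    · exfalso
      have he : Q1.map (MulAut.conj x).toMonoidHom = Q2 := Subgroup.eq_of_le_of_card_ge h (by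
        rw [Subgroup.card_map_of_injective (MulAut.conj x).injective, hcardQ])
      obtain ⟨q, hq, hq2⟩ := SetLike.not_le_iff_exists.1
        (show ¬ Q1 ≤ Q2 from fun h => p.vC_not_le hG ((PLocal.omegaCenterOf_le _).trans h))
      set q' := x * q * x⁻¹
      have hq' : q' ∈ Q2 := he ▸ ⟨q, hq, rfl⟩
      have hq'1 : q' ∉ Q1 := fun h => by
        have h' : q' ∈ Q1 ⊓ Q2 := ⟨h, hq'⟩
        have hI' : (Q1 ⊓ Q2).map (MulAut.conj x).toMonoidHom = Q1 ⊓ Q2 := by
          have hzx : Q1 ⊓ Q2 = zJ T' := (Subgroup.eq_of_le_of_card_ge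
            (le_inf (p.zJ_le_core hG) (p.symm.zJ_le_core hG)) (by
              rw [card_zJ p.left.two p.left.comp]
              have : Nat.card Q1 = 4 * Nat.card (cK T' K') := p.card_core hG
              linarith)).symm
          rw [hzx]
          change (PLocal.omegaCenterOf 2 (jT T')).map _ = _
          rw [PLocal.map_omegaCenterOf _ (MulAut.conj x).injective,
            mem_normalizer_iff_map.1 (normalizer_le_normalizer_jT _ hxN)]
          rfl
        rw [← hI'] at h'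
        obtain ⟨y, hy, hyq⟩ := h'
        exact hq2 ((MulAut.conj x).injective hyq ▸ hy.2)
      have hyT : q * q' ∈ T' := T'.mul_mem (hQ1T hq) (hQ2T hq')
      have hyV : q * q' ∈ V := by
        have h1 : q * x * q⁻¹ ∈ V := (Subgroup.mem_normalizer_iff.1 (hSV (hT'S (hQ1T hq))) x).1 hx
        have h2 : q * q' = (q * x * q⁻¹) * x⁻¹ := by
          rw [inv_eq_of_mul_eq_one_right (hsq1 q hq)]
          simp only [q', mul_assoc]
        rw [h2]
        exact V.mul_mem h1 (V.inv_mem hx)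
      rcases hinvol _ hyT (vC_sq hyV) with h | h
      · exact hq'1 ((Subgroup.mul_mem_cancel_left _ hq).1 h)
      · exact hq2 ((Subgroup.mul_mem_cancel_right _ hq').1 h)
  have hVT : V ≤ T' := by
    by_contra hcon
    have hn : T' ≤ Subgroup.normalizer (V : Set G) := hT'S.trans hSV
    obtain ⟨y, hy, hyT, hyN⟩ := exists_normalizing
      (S.isPGroup'.to_le (sup_le hT'S hVS)) (le_sup_left : T' ≤ T' ⊔ V)
      fun h => hcon (le_sup_right.trans h)
    have hy' : y ∈ ((T' ⊔ V : Subgroup G) : Set G) := hy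
    rw [Subgroup.coe_mul_of_left_le_normalizer_right _ _ hn] at hy'
    obtain ⟨t, ht, x, hx, rfl⟩ := hy'
    have hxN : x ∈ Subgroup.normalizer (T' : Set G) := by
      have := mul_mem (inv_mem (Subgroup.le_normalizer ht : t ∈ Subgroup.normalizer (T' : Set G))) hyN
      rwa [inv_mul_cancel_left] at this
    exact hyT (T'.mul_mem ht (hVN x hx hxN))
  have hVI : V ≤ Q1 ⊓ Q2 := by
    have hgV : V.map (MulAut.conj g).toMonoidHom = V := mem_normalizer_iff_map.1 (hSV hgS)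
    rcases hexp V hVT (fun x hx => vC_sq hx) with h | h
    · exact le_inf h (hgV.symm.le.trans (hQ12 ▸ Subgroup.map_mono h))
    · refine le_inf ?_ h
      rw [← hgV, ← hQ12] at h
      exact (Subgroup.map_le_map_iff_of_injective (MulAut.conj g).injective).1 h
  have hzx : Q1 ⊓ Q2 = zJ T' := (Subgroup.eq_of_le_of_card_ge
    (le_inf (p.zJ_le_core hG) (p.symm.zJ_le_core hG)) (by
      rw [card_zJ p.left.two p.left.comp]
      have : Nat.card Q1 = 4 * Nat.card (cK T' K') := p.card_core hG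
      linarith)).symm
  obtain ⟨R, D⟩ := exists_localData hG v.mem
  have hWV : Cfsg.wOf K ≤ V := D.wOf_le_omegaCore hG v.mem v.comp v.le
  have hpK := preComp_of v.two v.comp
  have hW4 := hpK.card_wOf (wOf_ne_bot v.comp)
  have hV4 : Nat.card V ≤ 4 := by
    have h1 := Subgroup.card_le_of_le (hVI.trans hzx.le)
    have h2 := p.card_zJ_le
    omega
  have hVW : Cfsg.wOf K = V := Subgroup.eq_of_le_of_card_ge hWV (by omega)
  have hVz : V = zJ T' := Subgroup.eq_of_le_of_card_ge (hVI.trans hzx.le) (by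
    rw [← hVW, hW4]; exact p.card_zJ_le)
  obtain ⟨c, hc, hc1⟩ : ∃ c ∈ cK T' K', c ≠ 1 := by
    refine (Subgroup.bot_or_exists_ne_one _).resolve_left fun e => ?_
    have h1 := card_zJ p.left.two p.left.comp
    rw [e, Subgroup.card_bot, ← hVz, ← hVW, hW4] at h1
    omega
  have hcW : c ∈ Cfsg.wOf K := hVW ▸ hVz ▸ hc.1
  obtain ⟨z, hz, hz1⟩ := (Subgroup.bot_or_exists_ne_one _).resolve_left
    (PLocal.fixOn_ne_bot (p := 2) hSV (PLocal.pActsOn_of_isPGroup S.isPGroup')
      (PGroups.elemAb_isPGroup (PLocal.omegaCenterOf_elemAb _)) (hVW ▸ wOf_ne_bot v.comp))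
  obtain ⟨hzV, hzf⟩ := PLocal.mem_fixOn.1 hz
  have hCz : Subgroup.centralizer ({z} : Set G) ≤ L := by
    have hle : Subgroup.centralizer ({z} : Set G) ≤ Subgroup.normalizer (Subgroup.zpowers z : Set G) := by
      refine le_trans (fun x hx => ?_) (Subgroup.centralizer_le_normalizer _)
      refine Subgroup.mem_centralizer_iff.2 ?_
      rintro _ ⟨n, rfl⟩
      exact ((show Commute z x from (Subgroup.mem_centralizer_singleton_iff.1 hx).symm).zpow_left n).eq
    refine hle.trans (hns _ (isTwoLocal_normalizer ?_ (Subgroup.zpowers_ne_bot.2 hz1)) (le_trans ?_ hle))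
    · exact S.isPGroup'.to_le (Subgroup.zpowers_le.2 (hVS hzV))
    · exact fun s hs => Subgroup.mem_centralizer_singleton_iff.2 (hzf s hs)
  obtain ⟨d, hd, -, hd3, hgen⟩ := hpK.exists_three
  have hzW : z ∈ Cfsg.wOf K := hVW ▸ hzV
  have hdW := normalizer_le_normalizer_wOf K (Subgroup.le_normalizer hd)
  have hd1 : d * z * d⁻¹ ≠ z := fun e => hz1 (hpK.no_fixed hd hd3 hgen z hzW (mul_inv_eq_iff_eq_mul.1 e))
  have hd1' : d * z * d⁻¹ ≠ 1 := fun e => hz1 (conj_eq_one_iff.1 e)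
  have hz2 := hpK.wOf_sq z hzW
  have hdz := (Subgroup.mem_normalizer_iff.1 hdW z).1 hzW
  obtain ⟨k, hk, hkc⟩ : ∃ k ∈ K, c = k * z * k⁻¹ := by
    rcases four_cases hW4 hzW hz1 hz2 hdz hd1' hd1 hcW with e | e | e | e
    · exact absurd e hc1
    · exact ⟨1, K.one_mem, by simpa using e⟩
    · exact ⟨d, hd, e⟩
    · refine ⟨d * d, K.mul_mem hd hd, e.trans ?_⟩
      have hdd : d * d * z * (d * d)⁻¹ = d * (d * z * d⁻¹) * d⁻¹ := by group
      rw [hdd]
      rcases four_cases hW4 hzW hz1 hz2 hdz hd1' hd1 ((Subgroup.mem_normalizer_iff.1 hdW _).1 hdz) with f | f | f | f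
      · exact absurd (conj_eq_one_iff.1 f) hd1'
      · exfalso
        refine hd1 ?_
        have f' : d * (d * (d * z * d⁻¹) * d⁻¹) * d⁻¹ = d * z * d⁻¹ := by rw [f]
        rw [show d * (d * (d * z * d⁻¹) * d⁻¹) * d⁻¹ = (d * d * d) * z * (d * d * d)⁻¹ by simp [mul_assoc],
          show d * d * d = 1 by rw [← pow_two, ← pow_succ, hd3]] at f'
        simpa using f'.symm
      · exact absurd (mul_left_cancel (mul_right_cancel f)) hd1
      · exact f.symm
  refine hK'.2.1 fun x hx => ?_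
  have hxc : x * c = c * x := Subgroup.mem_centralizer_iff.1 hc.2 x hx
  have h1 : k⁻¹ * x * k ∈ L := hCz (Subgroup.mem_centralizer_singleton_iff.2 (by
    calc k⁻¹ * x * k * z = k⁻¹ * (x * (k * z * k⁻¹)) * k := by group
      _ = k⁻¹ * ((k * z * k⁻¹) * x) * k := by rw [← hkc, hxc]
      _ = _ := by group))
  have hkL := v.le hk
  have := L.mul_mem (L.mul_mem hkL h1) (L.inv_mem hkL)
  simpa [mul_assoc] using this

/-- **A second component over `T`.** -/
theorem Vertex.exists_pair (hG : ZNHyp G) (hO : Cfsg.pCore 2 G = ⊥) (v : Vertex T K L) :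
    ∃ K' L', Pair T K L K' L' := by
  haveI : Fact (Nat.Prime 2) := ⟨Nat.prime_two⟩
  by_cases hNT : Subgroup.normalizer (T : Set G) ≤ L
  swap
  · obtain ⟨g, hg, hgL⟩ := SetLike.not_le_iff_exists.1 hNT
    exact ⟨_, _, v.pair_of_not_mem hg hgL⟩
  obtain ⟨S, hTS⟩ := v.two.exists_le_sylow
  have hTeq : T = (S : Subgroup G) := by
    refine le_antisymm hTS (not_not.1 fun hlt => ?_)
    obtain ⟨y, hy, hyT, hyN⟩ := exists_normalizing S.isPGroup' hTS hlt
    exact hyT (v.mem_T S.isPGroup' hy (hNT hyN) hyN)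
  subst hTeq
  have F : Frame G L := ⟨hG, hO, v.maximal.1, S, v.normalizer_jT_le hG S hNT⟩
  have hne : (Cfsg.straddlingTwoSubgroups L).Nonempty := by
    rw [Set.nonempty_iff_ne_empty]
    intro he
    have hSE := F.stronglyEmbedded_iff.2 he
    set Q := Cfsg.pCoreOf 2 L
    obtain ⟨u, hu, hu2⟩ := exists_invol_of_ne_bot (CharP.isPGroup_pCoreOf 2 L)
      (pCoreOf_ne_bot_of_twoLocal v.maximal.1)
    have huL : u ∈ L := CharP.pCoreOf_le 2 L hu
    refine v.mem.2.1 ?_
    rw [PGroups.thompsonSubgroupOf_eq]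
    refine sSup_le fun A hA a ha => ?_
    rcases eq_or_ne a 1 with rfl | ha1
    · exact one_mem _
    have haL : a ∈ L := v.mem.1.1 (hA.1 ha)
    obtain ⟨g, hg⟩ := isConj_iff.1 (Involutions.StronglyEmbedded.isConj_involutions hSE hu2
      (orderOf_eq_prime (hA.2.1.2 a ha) ha1))
    have hgL : g ∈ L := Involutions.StronglyEmbedded.mem_of_conj_mem hSE hu2 huL (hg ▸ haL)
    exact hg ▸ (Subgroup.mem_normalizer_iff.1 (CharP.le_normalizer_pCoreOf 2 L hgL) u).1 hu
  have hT1 : (S : Subgroup G) ≠ ⊥ := by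
    obtain ⟨X, hX⟩ := hne
    intro e
    obtain ⟨X2, hX2, hle⟩ := exists_sylowTwoIn hX.1 hX.2.2.1
    obtain ⟨l, -, rfl⟩ := (isSylowIn_of_two v.mem.1).exists_conj (isSylowIn_of_two hX2)
    rw [e, Subgroup.map_bot] at hle
    exact hX.2.1 (le_bot_iff.1 hle)
  by_cases hst : (S : Subgroup G) ∈ Cfsg.straddlingTwoSubgroups L
  · have hmax : (S : Subgroup G) ∈ Cfsg.maxStraddlingTwoSubgroups L := by
      refine ⟨hst, fun X hX => ⟨isBoundedBy_iff.1 (isBoundedBy_of_le v.mem.1 hX.2.2.1), fun e => ?_⟩⟩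
      obtain ⟨X2, hX2, hle⟩ := exists_sylowTwoIn hX.1 hX.2.2.1
      have h1 : jT X ≤ jT X2 := jT_le_of_bounded ((PGroups.thompsonSubgroupOf_le 2 X).trans hle)
        (isBoundedBy_iff.2 (e.symm ▸ isBoundedBy_iff.1 (isBoundedBy_of_le v.mem.1 hX2.1)))
      refine ⟨(Subgroup.card_le_of_le h1).trans (card_jT_eq_of_sylow v.mem.1 hX2).le, fun _ => ?_⟩
      exact (Subgroup.card_le_of_le hle).trans
        (by rw [(isSylowIn_of_two hX2).card_eq, (isSylowIn_of_two v.mem.1).card_eq])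
    obtain ⟨K', hK'⟩ := F.outside_nonempty hmax
    obtain ⟨L', hL', hKL', huniq, -, hsyl⟩ := F.uniqueness hmax hK'
    have hL'L : ¬ L' ≤ L := fun h => hK'.2.1 ((le_sup_left.trans hKL').trans h)
    exact ⟨K', L', v, ⟨hL', F.mem_jOvergroups hmax hL'.1 hL'L hsyl.1, hK'.1.1, le_sup_left.trans hKL', huniq⟩,
      fun e => hL'L e.ge⟩
  exfalso
  have hns : ∀ Y : Subgroup G, Cfsg.IsTwoLocal Y → (S : Subgroup G) ≤ Y → Y ≤ L := fun Y hY hSY =>
    not_not.1 fun hYL => hst ⟨S.isPGroup', hT1, v.mem.1.1, Y, hY, hSY, hYL⟩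
  obtain ⟨T', hT'⟩ := exists_maxStraddling hne
  obtain ⟨X2, hX2, hle⟩ := exists_sylowTwoIn hT'.1.1 hT'.1.2.2.1
  obtain ⟨l, hl, hlX⟩ := (isSylowIn_of_two v.mem.1).exists_conj (isSylowIn_of_two hX2)
  obtain ⟨S2, hS2⟩ := hX2.2.1.exists_le_sylow
  have hS2eq : X2 = (S2 : Subgroup G) := by
    refine Subgroup.eq_of_le_of_card_ge hS2 ?_
    rw [Sylow.card_eq_multiplicity S2, ← Sylow.card_eq_multiplicity S, ← hlX,
      Subgroup.card_map_of_injective (MulAut.conj l).injective]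
  have v2 : Vertex (S2 : Subgroup G) (K.map (MulAut.conj l).toMonoidHom) L := by
    have h := v.map l
    rwa [hlX, hS2eq, mem_normalizer_iff_map.1 (Subgroup.le_normalizer hl)] at h
  refine false_of_not_straddling hG F S2 v2 (fun Y hY hY2 => ?_) hT' (hle.trans hS2)
  have h1 := hns _ (isTwoLocal_map l⁻¹ hY) fun s hs => ⟨l * s * l⁻¹, hY2 (hS2eq ▸ hlX ▸ ⟨s, hs, rfl⟩),
    by simp [mul_assoc]⟩
  intro y hy
  have h2 := L.mul_mem (L.mul_mem hl (h1 ⟨y, hy, rfl⟩)) (L.inv_mem hl)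
  simpa [mul_assoc] using h2

end Cfsg.Agent.Lib.LAEven56.JComp
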