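import Cfsg.Agent.Lib.LAEven56.JComp.Graph
import Cfsg.Agent.Lib.SmallGroups.Order24

/-!
# The members of a pair are `S₄` or `S₄ × C₂`

Owner: helper56.
-/

set_option autoImplicit false
set_option linter.style.haveILetI false
set_option linter.unusedSectionVars false

open Cfsg
open scoped commutatorElement

namespace Cfsg.Agent.Lib.LAEven56.JComp

open Cfsg.Agent.Lib

variable {G : Type*} [Group G] [Finite G] {T K L K' L' : Subgroup G}

/-- The subgroup generated by squares. -/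
def sqGen (X : Subgroup G) : Subgroup G := Subgroup.closure ((fun x => x * x) '' (X : Set G))

theorem sqGen_le (X : Subgroup G) : sqGen X ≤ X := (Subgroup.closure_le _).2 <| by
  rintro _ ⟨x, hx, rfl⟩; exact X.mul_mem hx hx

theorem sqGen_mono {X Y : Subgroup G} (h : X ≤ Y) : sqGen X ≤ sqGen Y :=
  Subgroup.closure_mono (Set.image_mono h)

theorem normalizer_le_normalizer_sqGen (X : Subgroup G) :
    Subgroup.normalizer (X : Set G) ≤ Subgroup.normalizer (sqGen X : Set G) := fun g hg => by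
  rw [mem_normalizer_iff_map]
  refine Subgroup.eq_of_le_of_card_ge ?_ (Subgroup.card_map_of_injective (MulAut.conj g).injective).ge
  rw [sqGen, MonoidHom.map_closure]
  refine Subgroup.closure_mono ?_
  rintro _ ⟨_, ⟨x, hx, rfl⟩, rfl⟩
  refine ⟨g * x * g⁻¹, (Subgroup.mem_normalizer_iff.1 hg x).1 hx, ?_⟩
  simp [mul_assoc]

/-- A group of order 24 with a self-centralising normal four group is `S₄`. -/
theorem iso_perm_four {X W : Subgroup G} (hWX : W ≤ X) (hXW : X ≤ Subgroup.normalizer (W : Set G))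
    (hW : Cfsg.IsElementaryAbelian 2 W) (hW4 : Nat.card W = 4) (hX : Nat.card X = 24)
    (hC : X ⊓ Subgroup.centralizer (W : Set G) ≤ W) : Nonempty (↥X ≃* Equiv.Perm (Fin 4)) := by
  refine SmallGroups.Order24.mulEquiv_perm_four hX fun g hg => ?_
  have hg' : orderOf (g : G) = 6 := by rw [Subgroup.orderOf_coe]; exact hg
  set y := (g : G)
  have hyX : y ∈ X := g.2
  have hsmall : ∀ n : ℕ, 0 < n → n < 6 → y ^ n ≠ 1 := fun n hn hn6 e => by
    have := Nat.le_of_dvd hn (hg' ▸ orderOf_dvd_of_pow_eq_one e)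
    omega
  have hWsq : ∀ w ∈ W, w * w = 1 := fun w hw => by rw [← pow_two]; exact hW.2 w hw
  -- elements whose square fixes `W`
  have hfix : ∀ z ∈ X, ∀ u ∈ W, u ≠ 1 → z * u = u * z → z * z ∈ Subgroup.centralizer (W : Set G) := by
    intro z hz u hu hu1 hzu
    obtain ⟨v, hv, hv1, hvu⟩ := exists_third hW4 hu
    have hzu' := conj_eq_of_comm hzu.symm
    refine mem_centralizer_of_two hW4 hu hu1 hv hv1 hvu
      ((show Commute z u from hzu).mul_left hzu).eq (mul_inv_eq_iff_eq_mul.1 ?_)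
    rw [show z * z * v * (z * z)⁻¹ = z * (z * v * z⁻¹) * z⁻¹ by group]
    rcases conj_cases hW4 hu hu1 hv hv1 hvu (hXW hz) hzu' with e | e <;> rw [e]
    · exact e
    · rw [show z * (v * u) * z⁻¹ = (z * v * z⁻¹) * (z * u * z⁻¹) by group, e, hzu', mul_assoc, hWsq u hu,
        mul_one]
  -- `y²` has no fixed point
  have hfree : ∀ u ∈ W, (y * y) * u = u * (y * y) → u = 1 := by
    intro u hu hyu
    by_contra hu1
    have h := hC ⟨mul_mem (mul_mem hyX hyX) (mul_mem hyX hyX), hfix _ (mul_mem hyX hyX) u hu hu1 hyu⟩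
    refine hsmall 2 (by norm_num) (by norm_num) ?_
    have h2 := hWsq _ h
    have h6 : y ^ 6 = 1 := hg' ▸ pow_orderOf_eq_one y
    calc y ^ 2 = y ^ 2 * y ^ 6 := by rw [h6, mul_one]
      _ = (y * y) * (y * y) * ((y * y) * (y * y)) := by simp only [pow_succ, pow_zero, one_mul, mul_assoc]
      _ = 1 := h2
  have hy3 : y * y * y ∈ X := mul_mem (mul_mem hyX hyX) hyX
  obtain ⟨v, hv, hv1⟩ : ∃ v ∈ W, v ≠ 1 := by
    obtain ⟨v, hv, hv1, -⟩ := exists_third hW4 W.one_mem
    exact ⟨v, hv, hv1⟩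
  set z := y * y * y with hz
  have hzz : z * z = 1 := by
    rw [← pow_orderOf_eq_one y, hg', hz]; simp only [pow_succ, pow_zero, one_mul, mul_assoc]
  obtain ⟨u, hu, hu1, hzu⟩ : ∃ u ∈ W, u ≠ 1 ∧ z * u * z⁻¹ = u := by
    have hv' : z * v * z⁻¹ ∈ W := (Subgroup.mem_normalizer_iff.1 (hXW hy3) v).1 hv
    by_cases he : z * v * z⁻¹ = v
    · exact ⟨v, hv, hv1, he⟩
    refine ⟨v * (z * v * z⁻¹), mul_mem hv hv', fun e => he ?_, ?_⟩
    · exact (inv_eq_of_mul_eq_one_right e).symm.trans (inv_eq_of_mul_eq_one_right (hWsq v hv))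
    · calc z * (v * (z * v * z⁻¹)) * z⁻¹ = (z * v * z⁻¹) * ((z * z) * v * (z * z)⁻¹) := by group
        _ = (z * v * z⁻¹) * v := by rw [hzz]; group
        _ = _ := PGroups.elemAb_comm hW hv' hv
  set u' := y * y * u * (y * y)⁻¹ with hu'd
  have hu' : u' ∈ W := (Subgroup.mem_normalizer_iff.1 (hXW (mul_mem hyX hyX)) u).1 hu
  have hne : u' ≠ u := fun e => hu1 (hfree u hu (mul_inv_eq_iff_eq_mul.1 e))
  have hzC : z ∈ Subgroup.centralizer (W : Set G) := by
    refine mem_centralizer_of_two hW4 hu hu1 hu' (fun e => hu1 (conj_eq_one_iff.1 e)) hne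
      (mul_inv_eq_iff_eq_mul.1 hzu) (mul_inv_eq_iff_eq_mul.1 ?_)
    calc z * u' * z⁻¹ = (y * y) * (z * u * z⁻¹) * (y * y)⁻¹ := by simp [hu'd, hz, mul_assoc]
      _ = u' := by rw [hzu]
  refine hsmall 3 (by norm_num) (by norm_num) ?_
  rw [show y ^ 3 = z by simp only [hz, pow_succ, pow_zero, one_mul]]
  exact hfree z (hC ⟨hy3, hzC⟩) (by simp [hz, mul_assoc])

namespace Pair

theorem vC_not_le (p : Pair T K L K' L') (hG : ZNHyp G) : ¬ vC L ≤ Cfsg.pCoreOf 2 L' := fun h =>
  p.symm.not_comm hG (h.trans (PLocal.le_centralizer_omegaCenterOf _))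

theorem eq_of_le_normalizer (p : Pair T K L K' L') {N : Subgroup G} (hN : IsPGroup 2 N)
    (h : L ≤ Subgroup.normalizer (N : Set G)) (h' : L' ≤ Subgroup.normalizer (N : Set G)) : N = ⊥ := by
  by_contra hN1
  exact p.ne ((p.left.maximal.2 _ (isTwoLocal_normalizer hN hN1) h).symm.trans
    (p.right.maximal.2 _ (isTwoLocal_normalizer hN hN1) h'))

theorem sqGen_core (p : Pair T K L K' L') (hG : ZNHyp G) :
    sqGen (Cfsg.pCoreOf 2 L) = sqGen (Cfsg.pCoreOf 2 L ⊓ Cfsg.pCoreOf 2 L') := by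
  haveI : Fact (Nat.Prime 2) := ⟨Nat.prime_two⟩
  set Q := Cfsg.pCoreOf 2 L with hQ
  set I := Q ⊓ Cfsg.pCoreOf 2 L' with hI
  have hQT := LocalData.core_le_T p.left.mem
  have h1 : Nat.card Q ≤ 2 * Nat.card I := by
    have h := card_le_two_mul_centralizer p.left.two p.right.comp (p.symm.le_normalizer hG)
      (p.centralizes_zJ hG) hQT
    rwa [show Q ⊓ Subgroup.centralizer (Cfsg.wOf K' : Set G) = I by
      rw [hI, ← p.symm.inf_centralizer_eq hG, ← inf_assoc, inf_eq_left.2 hQT]] at h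
  obtain ⟨v, hv, hvQ'⟩ := SetLike.not_le_iff_exists.1 (p.vC_not_le hG)
  have hVQ : vC L ≤ Q := PLocal.omegaCenterOf_le _
  have hle : I ⊔ vC L ≤ Q := sup_le inf_le_left hVQ
  have h2 := PGroups.card_mul_le_card_of_mem (le_sup_left : I ≤ I ⊔ vC L)
    ((CharP.isPGroup_pCoreOf 2 L).to_le hle) (Subgroup.mem_sup_right hv) fun h => hvQ' h.2
  have h3 : I ⊔ vC L = Q := Subgroup.eq_of_le_of_card_ge hle (by omega)
  refine le_antisymm ((Subgroup.closure_le _).2 ?_) (sqGen_mono inf_le_left)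
  rintro _ ⟨x, hx, rfl⟩
  have hcen : ∀ e ∈ Q, ∀ z ∈ vC L, e * z = z * e := fun e he z hz =>
    (Subgroup.mem_centralizer_iff.1 (PLocal.le_centralizer_omegaCenterOf _ he) z hz).symm
  have hx' : x ∈ ((I ⊔ vC L : Subgroup G) : Set G) := h3.symm ▸ hx
  rw [Subgroup.coe_mul_of_left_le_normalizer_right _ _ (fun e he =>
    Subgroup.centralizer_le_normalizer _ (Subgroup.mem_centralizer_iff.2 fun z hz =>
      (hcen e (inf_le_left (a := Q) he) z hz).symm))] at hx'
  obtain ⟨e, he, z, hz, rfl⟩ := hx'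
  refine Subgroup.subset_closure ⟨e, he, ?_⟩
  change e * e = e * z * (e * z)
  calc e * e = e * e * (z * z) := by rw [vC_sq hz, mul_one]
    _ = e * (e * z) * z := by group
    _ = e * (z * e) * z := by rw [hcen e he.1 z hz]
    _ = _ := by group

theorem core_eq_vC (p : Pair T K L K' L') (hG : ZNHyp G) : Cfsg.pCoreOf 2 L = vC L := by
  have hbot : sqGen (Cfsg.pCoreOf 2 L) = ⊥ := by
    have h : sqGen (Cfsg.pCoreOf 2 L) = sqGen (Cfsg.pCoreOf 2 L') := by
      rw [p.sqGen_core hG, p.symm.sqGen_core hG, inf_comm]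
    refine p.eq_of_le_normalizer ((CharP.isPGroup_pCoreOf 2 L).to_le (sqGen_le _))
      ((CharP.le_normalizer_pCoreOf 2 L).trans (normalizer_le_normalizer_sqGen _)) ?_
    rw [h]
    exact (CharP.le_normalizer_pCoreOf 2 L').trans (normalizer_le_normalizer_sqGen _)
  refine le_antisymm (fun x hx => ?_) (PLocal.omegaCenterOf_le _)
  have hsq : ∀ y ∈ Cfsg.pCoreOf 2 L, y * y = 1 := fun y hy =>
    Subgroup.mem_bot.1 (hbot ▸ Subgroup.subset_closure ⟨y, hy, rfl⟩)
  refine PGroups.mem_omegaOne_of_pow ⟨hx, Subgroup.mem_centralizer_iff.2 fun y hy => ?_⟩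
    (by rw [pow_two]; exact hsq x hx)
  have hinv : ∀ z ∈ Cfsg.pCoreOf 2 L, z⁻¹ = z := fun z hz => inv_eq_of_mul_eq_one_right (hsq z hz)
  rw [← hinv _ (mul_mem hy hx), mul_inv_rev, hinv x hx, hinv y hy]

theorem card_core (p : Pair T K L K' L') (hG : ZNHyp G) :
    Nat.card (Cfsg.pCoreOf 2 L) = 4 * Nat.card (cK T K) := by
  rw [p.core_eq_vC hG]; exact p.card_omegaCore hG

theorem card_T (p : Pair T K L K' L') (hG : ZNHyp G) : Nat.card T = 8 * Nat.card (cK T K) := by
  rw [p.card_eq_two_mul_core hG, p.card_core hG]; ring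

theorem card_cK_eq (p : Pair T K L K' L') (hG : ZNHyp G) : Nat.card (cK T K) = Nat.card (cK T K') := by
  have h1 := p.card_T hG
  have h2 := p.symm.card_T hG
  omega

theorem inf_centralizer_wOf_le (p : Pair T K L K' L') (hG : ZNHyp G) :
    L ⊓ Subgroup.centralizer (Cfsg.wOf K : Set G) ≤ Cfsg.pCoreOf 2 L := fun g hg => by
  refine p.left.mem.2.2 (Subgroup.mem_centralizer_iff.2 fun q hq => ?_)
  rw [p.core_eq_vC hG] at hq
  have hle : Cfsg.wOf K ⊔ cK T K ≤ Subgroup.centralizer ({g} : Set G) := sup_le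
    (fun u hu => Subgroup.mem_centralizer_singleton_iff.2 (Subgroup.mem_centralizer_iff.1 hg.2 u hu))
    (fun u hu => Subgroup.mem_centralizer_singleton_iff.2
      (Subgroup.mem_centralizer_iff.1 (p.le_centralizer_cK hG hg.1) u hu))
  exact Subgroup.mem_centralizer_singleton_iff.1 (hle (p.omegaCore_eq hG ▸ hq))

theorem inf_normalizer_le (p : Pair T K L K' L') (hG : ZNHyp G) :
    L ⊓ Subgroup.normalizer (T : Set G) ≤ T := by
  rintro g ⟨hgL, hgT⟩
  have hT := p.left.two
  have hK := p.left.comp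
  have hp := preComp_of hT hK
  obtain ⟨w, hw, hw1, -⟩ := exists_wZ hT hK
  have hgW : g ∈ Subgroup.normalizer (Cfsg.wOf K : Set G) :=
    normalizer_le_normalizer_wOf K (p.local_le_normalizer hG hgL)
  have hgZ : g ∈ Subgroup.normalizer (zJ T : Set G) := by
    rw [mem_normalizer_iff_map]
    change (PLocal.omegaCenterOf 2 (jT T)).map _ = _
    rw [PLocal.map_omegaCenterOf _ (MulAut.conj g).injective,
      mem_normalizer_iff_map.1 (normalizer_le_normalizer_jT T hgT)]
    rfl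
  have hgw : g * w * g⁻¹ = w := (eq_one_or_eq_of_card_two (split hT hK).2.1.le hw hw1
    ⟨(Subgroup.mem_normalizer_iff.1 hgZ w).1 hw.1, (Subgroup.mem_normalizer_iff.1 hgW w).1 hw.2⟩).resolve_left
    fun e => hw1 (conj_eq_one_iff.1 e)
  have hW4 := hp.card_wOf (wOf_ne_bot hK)
  obtain ⟨v, hv, hv1, hvw⟩ := exists_third hW4 hw.2
  have hsq : g * g ∈ Cfsg.pCoreOf 2 L := by
    refine p.inf_centralizer_wOf_le hG ⟨mul_mem hgL hgL, mem_centralizer_of_two hW4 hw.2 hw1 hv hv1 hvw
      ((show Commute g w from mul_inv_eq_iff_eq_mul.1 hgw).mul_left (mul_inv_eq_iff_eq_mul.1 hgw)).eq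
      (mul_inv_eq_iff_eq_mul.1 ?_)⟩
    rw [show g * g * v * (g * g)⁻¹ = g * (g * v * g⁻¹) * g⁻¹ by group]
    rcases conj_cases hW4 hw.2 hw1 hv hv1 hvw hgW hgw with e | e <;> rw [e]
    · exact e
    · rw [show g * (v * w) * g⁻¹ = (g * v * g⁻¹) * (g * w * g⁻¹) by group, e, hgw, mul_assoc,
        hp.wOf_sq w hw.2, mul_one]
  refine mem_sylowTwoIn_of_normalizer p.left.mem.1 hgL (k := 2) ?_ hgT
  have h2 := vC_sq (p.core_eq_vC hG ▸ hsq)
  calc g ^ 2 ^ 2 = g * g * (g * g) := by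
        rw [show (2 : ℕ) ^ 2 = 4 by norm_num]
        simp only [pow_succ, pow_zero, one_mul, mul_assoc]
    _ = 1 := h2

theorem local_cases (p : Pair T K L K' L') (hG : ZNHyp G) {d : G} (hd : d ∈ K) (hd3 : d ^ 3 = 1)
    (hgen : Cfsg.pCoreOf 2 K ⊔ Subgroup.zpowers d = K) {g : G} (hg : g ∈ L) :
    ∃ i : G, (i = 1 ∨ i = d ∨ i = d * d) ∧ i⁻¹ * g ∈ T := by
  obtain ⟨i, hi, h⟩ := p.sylow_cases hG hd hd3 hgen hg
  refine ⟨i, hi, p.inf_normalizer_le hG ⟨L.mul_mem (L.inv_mem ?_) hg, h⟩⟩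
  have hdL := p.left.le hd
  rcases hi with rfl | rfl | rfl <;> first | exact one_mem _ | exact hdL | exact mul_mem hdL hdL

theorem local_eq_sup (p : Pair T K L K' L') (hG : ZNHyp G) : L = K ⊔ T := by
  refine le_antisymm (fun g hg => ?_) (sup_le p.left.le p.left.mem.1.1)
  obtain ⟨d, hd, -, hd3, hgen⟩ := (preComp_of p.left.two p.left.comp).exists_three
  obtain ⟨i, hi, h⟩ := p.local_cases hG hd hd3 hgen hg
  have hiK : i ∈ K := by rcases hi with rfl | rfl | rfl <;> first | exact one_mem _ | exact hd | exact mul_mem hd hd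
  have := mul_mem (Subgroup.mem_sup_left (T := T) hiK) (Subgroup.mem_sup_right (S := K) h)
  rwa [mul_inv_cancel_left] at this

theorem card_local (p : Pair T K L K' L') (hG : ZNHyp G) :
    Nat.card L = 24 * Nat.card (cK T K) := by
  obtain ⟨d, hd, hdQ, hd3, hgen⟩ := (preComp_of p.left.two p.left.comp).exists_three
  have hle : Nat.card L ≤ 3 * Nat.card T := by
    classical
    let f : L → Fin 3 × T := fun g =>
      if h0 : (g : G) ∈ T then (0, ⟨g, h0⟩)
      else if h1 : d⁻¹ * g ∈ T then (1, ⟨_, h1⟩)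
      else (2, ⟨(d * d)⁻¹ * g, by
        obtain ⟨i, hi, h⟩ := p.local_cases hG hd hd3 hgen g.2
        rcases hi with rfl | rfl | rfl
        · exact absurd (by simpa using h) h0
        · exact absurd h h1
        · exact h⟩)
    have hinj : Function.Injective f := by
      intro a b hab
      simp only [f] at hab
      split_ifs at hab <;> simp only [Prod.mk.injEq] at hab <;>
        first
          | exact Subtype.ext (congrArg Subtype.val hab.2 :)
          | exact Subtype.ext (mul_left_cancel (congrArg Subtype.val hab.2 :))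
          | exact absurd hab.1 (by decide)
    have h := Nat.card_le_card_of_injective f hinj
    rwa [Nat.card_prod, Nat.card_eq_fintype_card (α := Fin 3), Fintype.card_fin] at h
  obtain ⟨hTL, hT2, hodd⟩ := p.left.mem.1
  have hmul : T.relIndex L * Nat.card T = Nat.card L := by
    rw [Subgroup.relIndex, ← Subgroup.index_mul_card (T.subgroupOf L),
      Nat.card_congr (Subgroup.subgroupOfEquivOfLe hTL).toEquiv]
  have hne1 : T.relIndex L ≠ 1 := fun e => by
    exact not_isPGroup_of_comp p.left.comp hT2 (p.left.le.trans (Subgroup.relIndex_eq_one.1 e))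
  obtain ⟨m, hm⟩ := hodd
  have h3 : T.relIndex L ≤ 3 := Nat.le_of_mul_le_mul_right (hmul ▸ hle) Nat.card_pos
  have h4 : T.relIndex L = 3 := by omega
  rw [← hmul, h4, p.card_T hG]; ring

theorem comp_eq_sup (p : Pair T K L K' L') (hG : ZNHyp G) {d : G} (hd : d ∈ K)
    (hgen : Cfsg.pCoreOf 2 K ⊔ Subgroup.zpowers d = K) : K = Subgroup.zpowers d ⊔ Cfsg.wOf K := by
  obtain ⟨R, D⟩ := exists_localData hG p.left.mem
  have hKW : K ≤ Subgroup.normalizer (Cfsg.wOf K : Set G) :=
    Subgroup.le_normalizer.trans (normalizer_le_normalizer_wOf K)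
  set K0 := Subgroup.zpowers d ⊔ Cfsg.wOf K with hK0
  have hdc : ∀ c ∈ cK T K, ∀ x ∈ K0, c * x = x * c := by
    intro c hc x hx
    have hle : K0 ≤ Subgroup.centralizer ({c} : Set G) := sup_le
      (Subgroup.zpowers_le.2 (Subgroup.mem_centralizer_singleton_iff.2 (Subgroup.mem_centralizer_iff.1 hc.2 d hd)))
      (fun u hu => Subgroup.mem_centralizer_singleton_iff.2
        (vC_comm (p.wOf_le_vC hG hu) (p.cK_le_vC hG hc)))
    exact (Subgroup.mem_centralizer_singleton_iff.1 (hle hx)).symm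
  refine le_antisymm ?_ (sup_le (Subgroup.zpowers_le.2 hd)
    ((preComp_of p.left.two p.left.comp).wOf_le_omega.trans ((PLocal.omegaCenterOf_le _).trans PreComp.core_le)))
  calc K = oddGen K := p.left.comp.1.symm
    _ ≤ K0 := oddGen_le_of_forall fun g hg ho => by
      obtain ⟨n, q, hq, rfl⟩ := PreComp.exists_zpow_mul hd hgen hg
      have hqV : q ∈ vC L := p.core_eq_vC hG ▸ D.comp_core_le p.left.mem p.left.comp p.left.le hq
      have hq' : q ∈ ((Cfsg.wOf K ⊔ cK T K : Subgroup G) : Set G) := p.omegaCore_eq hG ▸ hqV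
      rw [Subgroup.coe_mul_of_left_le_normalizer_right _ _ (fun w hw => Subgroup.centralizer_le_normalizer _
        (Subgroup.mem_centralizer_iff.2 fun z hz =>
          vC_comm (p.cK_le_vC hG hz) (p.wOf_le_vC hG hw)))] at hq'
      obtain ⟨w, hw, c, hc, rfl⟩ := hq'
      have hx : d ^ n * w ∈ K0 := mul_mem (Subgroup.mem_sup_left ⟨n, rfl⟩) (Subgroup.mem_sup_right hw)
      set g := d ^ n * (w * c) with hg'
      have hgg : g * g ∈ K0 := by
        have e : g * g = (d ^ n * w) * (d ^ n * w) * (c * c) := by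
          rw [hg', show d ^ n * (w * c) * (d ^ n * (w * c)) = d ^ n * w * (c * (d ^ n * w)) * c by group,
            hdc c hc _ hx]
          group
        rw [e, vC_sq (p.cK_le_vC hG hc), mul_one]
        exact mul_mem hx hx
      obtain ⟨m, hm⟩ := ho
      have e2 : g = (g * g) ^ (m + 1) := by
        rw [← pow_two, ← pow_mul, show 2 * (m + 1) = orderOf g + 1 by omega, pow_succ, pow_orderOf_eq_one, one_mul]
      rw [e2]
      exact K0.pow_mem hgg _

theorem card_comp (p : Pair T K L K' L') (hG : ZNHyp G) : Nat.card K = 12 := by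
  haveI : Fact (Nat.Prime 2) := ⟨Nat.prime_two⟩
  have hp := preComp_of p.left.two p.left.comp
  obtain ⟨d, hd, hdQ, hd3, hgen⟩ := hp.exists_three
  have hdW : Subgroup.zpowers d ≤ Subgroup.normalizer (Cfsg.wOf K : Set G) :=
    Subgroup.zpowers_le.2 (normalizer_le_normalizer_wOf K (Subgroup.le_normalizer hd))
  have h := PLocal.card_sup_mul_card_inf hdW
  rw [← p.comp_eq_sup hG hd hgen, hp.card_wOf (wOf_ne_bot p.left.comp)] at h
  have hd1 : d ≠ 1 := fun e => hdQ (e ▸ one_mem _)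
  have hord : orderOf d = 3 := by
    haveI : Fact (Nat.Prime 3) := ⟨Nat.prime_three⟩
    exact orderOf_eq_prime hd3 hd1
  have hinf : Subgroup.zpowers d ⊓ Cfsg.wOf K = ⊥ :=
    le_bot_iff.1 fun x hx => Subgroup.mem_bot.2 <| by
      have h1 : x ^ 3 = 1 := by
        obtain ⟨n, rfl⟩ := hx.1
        show (d ^ n) ^ 3 = 1
        rw [← zpow_natCast (d ^ n), ← zpow_mul, mul_comm, zpow_mul, zpow_natCast, hd3, one_zpow]
      rwa [pow_succ, hp.wOf_elemAb.2 x hx.2, one_mul] at h1
  rw [hinf, Subgroup.card_bot, Nat.card_zpowers, hord, mul_one] at h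
  omega

theorem comp_inf_T (p : Pair T K L K' L') (hG : ZNHyp G) : K ⊓ T = Cfsg.wOf K := by
  haveI : Fact (Nat.Prime 2) := ⟨Nat.prime_two⟩
  have hp := preComp_of p.left.two p.left.comp
  refine (Subgroup.eq_of_le_of_card_ge (le_inf (hp.wOf_le_omega.trans
    ((PLocal.omegaCenterOf_le _).trans PreComp.core_le)) p.left.wOf_le) ?_).symm
  have hd : Nat.card (K ⊓ T : Subgroup G) ∣ 12 := p.card_comp hG ▸ Subgroup.card_dvd_of_le inf_le_left
  obtain ⟨n, hn⟩ := IsPGroup.iff_card.1 (p.left.two.to_le (inf_le_right : K ⊓ T ≤ T))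
  rw [hn] at hd ⊢
  rw [hp.card_wOf (wOf_ne_bot p.left.comp)]
  have : n ≤ 2 := by
    by_contra hc
    have h8 : 8 ∣ 12 := (Nat.pow_dvd_pow 2 (show 3 ≤ n by omega)).trans hd
    omega
  calc 2 ^ n ≤ 2 ^ 2 := Nat.pow_le_pow_right (by norm_num) this
    _ = 4 := by norm_num

/-- **The shape of a member of a pair.** -/
theorem iso (p : Pair T K L K' L') (hG : ZNHyp G) :
    (Nat.card (cK T K) = 1 ∧ Nonempty (↥L ≃* Equiv.Perm (Fin 4))) ∨
      (Nat.card (cK T K) = 2 ∧ Nonempty (↥L ≃* Equiv.Perm (Fin 4) × Multiplicative (ZMod 2))) := by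
  haveI : Fact (Nat.Prime 2) := ⟨Nat.prime_two⟩
  have hp := preComp_of p.left.two p.left.comp
  have hW4 := hp.card_wOf (wOf_ne_bot p.left.comp)
  obtain ⟨a, haV, haQ⟩ := SetLike.not_le_iff_exists.1 (p.symm.vC_not_le hG)
  have haT : a ∈ T := p.symm.vC_le haV
  have ha2 : a * a = 1 := vC_sq haV
  have haN : Subgroup.zpowers a ≤ Subgroup.normalizer (K : Set G) :=
    Subgroup.zpowers_le.2 (p.le_normalizer hG haT)
  set L0 := Subgroup.zpowers a ⊔ K with hL0
  have hza : ∀ {x}, x ∈ Subgroup.zpowers a → x = 1 ∨ x = a := by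
    rintro _ ⟨n, rfl⟩
    rcases Int.even_or_odd' n with ⟨k, rfl | rfl⟩
    · exact Or.inl (by simp [zpow_mul, pow_two, ha2, zpow_ofNat])
    · exact Or.inr (by simp [zpow_add, zpow_mul, pow_two, ha2, zpow_ofNat])
  have hQW : Cfsg.wOf K ≤ Cfsg.pCoreOf 2 L := (p.wOf_le_vC hG).trans (PLocal.omegaCenterOf_le _)
  have haK : a ∉ K := fun h => haQ (hQW (p.comp_inf_T hG ▸ ⟨h, haT⟩))
  have hL0card : Nat.card L0 = 24 := by
    have h := PLocal.card_sup_mul_card_inf haN
    have hbot : Subgroup.zpowers a ⊓ K = ⊥ := le_bot_iff.1 fun x hx =>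
      Subgroup.mem_bot.2 ((hza hx.1).resolve_right fun e => haK (e ▸ hx.2))
    have ha1 : a ≠ 1 := fun e => haQ (e ▸ one_mem _)
    rw [hbot, Subgroup.card_bot, mul_one, Nat.card_zpowers,
      orderOf_eq_prime (by rw [pow_two]; exact ha2) ha1, p.card_comp hG] at h
    exact h
  have hL0L : L0 ≤ L := sup_le (Subgroup.zpowers_le.2 (p.left.mem.1.1 haT)) p.left.le
  have hdisj : ∀ c ∈ cK T K, c ∈ L0 → c = 1 := by
    intro c hc hc0
    have hc0' : c ∈ ((Subgroup.zpowers a ⊔ K : Subgroup G) : Set G) := hc0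
    rw [Subgroup.coe_mul_of_left_le_normalizer_right _ _ haN] at hc0'
    obtain ⟨x, hx, k, hk, rfl⟩ := hc0'
    have hcQ : x * k ∈ Cfsg.pCoreOf 2 L := PLocal.omegaCenterOf_le _ (p.cK_le_vC hG hc)
    rcases hza hx with rfl | rfl
    · have hkW : k ∈ Cfsg.wOf K := p.comp_inf_T hG ▸
        ⟨hk, by simpa using LocalData.core_le_T p.left.mem hcQ⟩
      exact Subgroup.mem_bot.1 (cK_inf_wOf hp ▸ ⟨hc, by simpa using hkW⟩)
    · exfalso
      have hkT : k ∈ T := by
        have := mul_mem (inv_mem haT) (LocalData.core_le_T p.left.mem hcQ)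
        rwa [inv_mul_cancel_left] at this
      have hkW : k ∈ Cfsg.wOf K := p.comp_inf_T hG ▸ ⟨hk, hkT⟩
      exact haQ (by simpa using mul_mem hcQ (inv_mem (hQW hkW)))
  obtain ⟨e0⟩ : Nonempty (↥L0 ≃* Equiv.Perm (Fin 4)) := by
    refine iso_perm_four (W := Cfsg.wOf K) ?_ ?_ hp.wOf_elemAb hW4 hL0card ?_
    · exact (hp.wOf_le_omega.trans ((PLocal.omegaCenterOf_le _).trans PreComp.core_le)).trans le_sup_right
    · exact hL0L.trans ((p.local_le_normalizer hG).trans (normalizer_le_normalizer_wOf K))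
    · rintro x ⟨hx0, hxC⟩
      have hxV : x ∈ vC L := p.core_eq_vC hG ▸ p.inf_centralizer_wOf_le hG ⟨hL0L hx0, hxC⟩
      have hx' : x ∈ ((Cfsg.wOf K ⊔ cK T K : Subgroup G) : Set G) := p.omegaCore_eq hG ▸ hxV
      rw [Subgroup.coe_mul_of_left_le_normalizer_right _ _ (fun w hw => Subgroup.centralizer_le_normalizer _
        (Subgroup.mem_centralizer_iff.2 fun z hz =>
          vC_comm (p.cK_le_vC hG hz) (p.wOf_le_vC hG hw)))] at hx'
      obtain ⟨w, hw, c, hc, rfl⟩ := hx'
      have hcL0 : c ∈ L0 := by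
        have := mul_mem (inv_mem (show w ∈ L0 from Subgroup.mem_sup_right
          ((hp.wOf_le_omega.trans ((PLocal.omegaCenterOf_le _).trans PreComp.core_le)) hw))) hx0
        rwa [inv_mul_cancel_left] at this
      rw [hdisj c hc hcL0]
      simpa using hw
  have h12 : Nat.card (cK T K) = 1 ∨ Nat.card (cK T K) = 2 := by
    have := p.card_cK_le
    have := Nat.card_pos (α := cK T K)
    omega
  rcases h12 with h | h
  · refine Or.inl ⟨h, ⟨(MulEquiv.subgroupCongr ?_).trans e0⟩⟩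
    exact (Subgroup.eq_of_le_of_card_ge hL0L (by rw [p.card_local hG, h, hL0card])).symm
  · refine Or.inr ⟨h, ?_⟩
    haveI : Fact (Nat.card (cK T K) = 2) := ⟨h⟩
    let e1 : ↥(cK T K) ≃* Multiplicative (ZMod 2) :=
      mulEquivOfPrimeCardEq h (by rw [Nat.card_eq_fintype_card]; rfl)
    have hcL : cK T K ≤ L := (p.cK_le_vC hG).trans ((p.vC_le).trans p.left.mem.1.1)
    have hcomm : ∀ x ∈ L0, ∀ c ∈ cK T K, x * c = c * x := fun x hx c hc =>
      (Subgroup.mem_centralizer_iff.1 (p.le_centralizer_cK hG (hL0L hx)) c hc).symm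
    let m : ↥L0 × ↥(cK T K) →* ↥L :=
      { toFun := fun y => ⟨(y.1 : G) * y.2, L.mul_mem (hL0L y.1.2) (hcL y.2.2)⟩
        map_one' := Subtype.ext (by simp)
        map_mul' := fun y z => Subtype.ext (by
          change (y.1 : G) * z.1 * ((y.2 : G) * z.2) = (y.1 : G) * y.2 * ((z.1 : G) * z.2)
          calc (y.1 : G) * z.1 * ((y.2 : G) * z.2) = (y.1 : G) * ((z.1 : G) * y.2) * z.2 := by group
            _ = (y.1 : G) * ((y.2 : G) * z.1) * z.2 := by rw [hcomm _ z.1.2 _ y.2.2]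
            _ = _ := by group) }
    have hinj : Function.Injective m := by
      rw [injective_iff_map_eq_one]
      rintro ⟨x, c⟩ hy
      have hy' : (x : G) * c = 1 := congrArg Subtype.val hy
      have hc1 : (c : G) = 1 := hdisj _ c.2 (by rw [eq_inv_of_mul_eq_one_right hy']; exact inv_mem x.2)
      refine Prod.ext (Subtype.ext ?_) (Subtype.ext hc1)
      rwa [hc1, mul_one] at hy'
    have hbij : Function.Bijective m := Nat.bijective_iff_injective_and_card m |>.2 ⟨hinj, by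
      rw [Nat.card_prod, hL0card, h, p.card_local hG, h]⟩
    exact ⟨(MulEquiv.ofBijective m hbij).symm.trans (e0.prodCongr e1)⟩

end Pair

end Cfsg.Agent.Lib.LAEven56.JComp
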