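import Cfsg.Agent.Lib.LAEven56.JComp.Offend

/-!
# The maximal 2-local of a component in a pair has just one component

Owner: helper56.
-/

set_option autoImplicit false
set_option linter.style.haveILetI false
set_option linter.unusedSectionVars false

open Cfsg
open scoped commutatorElement

namespace Cfsg.Agent.Lib.LAEven56.JComp

open Cfsg.Agent.Lib

variable {G : Type*} [Group G] [Finite G] {T K L R K' L' : Subgroup G}

/-- Conjugates of `v` in a four group `W` by a normaliser fixing `w`. -/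
theorem conj_cases {W : Subgroup G} (hW : Nat.card W = 4) {v w : G} (hw : w ∈ W) (hw1 : w ≠ 1)
    (hv : v ∈ W) (hv1 : v ≠ 1) (hvw : v ≠ w) {t : G} (ht : t ∈ Subgroup.normalizer (W : Set G))
    (htw : t * w * t⁻¹ = w) : t * v * t⁻¹ = v ∨ t * v * t⁻¹ = v * w := by
  by_contra hc
  push Not at hc
  classical
  haveI := Fintype.ofFinite W
  rw [Nat.card_eq_fintype_card] at hW
  set u := t * v * t⁻¹ with hu
  have huW : u ∈ W := (Subgroup.mem_normalizer_iff.1 ht v).1 hv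
  have hu1 : u ≠ 1 := fun e => hv1 (conj_eq_one_iff.1 e)
  have huw : u ≠ w := fun e => hvw (mul_left_cancel (mul_right_cancel (e.trans htw.symm)))
  have h5 : ({1, ⟨w, hw⟩, ⟨v, hv⟩, ⟨v * w, W.mul_mem hv hw⟩, ⟨u, huW⟩} : Finset W).card = 5 := by
    have n1 : v * w ≠ 1 := fun e => hc.1 (by
      rw [hu, eq_inv_of_mul_eq_one_left e, ← conj_inv, htw])
    have n2 : v * w ≠ w := fun e => hv1 (mul_right_cancel (e.trans (one_mul w).symm))
    have n3 : v * w ≠ v := fun e => hw1 (mul_eq_left.1 e)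
    repeat' rw [Finset.card_insert_of_notMem]
    all_goals simp [Subtype.ext_iff, hw1.symm, hv1.symm, hu1.symm, n1.symm, hvw.symm, huw.symm,
      n2.symm, n3.symm, hc.1.symm, hc.2.symm]
  have := h5 ▸ Finset.card_le_univ _
  omega

/-- A four group centralised at `w` and `v` is centralised. -/
theorem mem_centralizer_of_two {W : Subgroup G} (hW : Nat.card W = 4) {v w : G} (hw : w ∈ W) (hw1 : w ≠ 1)
    (hv : v ∈ W) (hv1 : v ≠ 1) (hvw : v ≠ w) {t : G} (htw : t * w = w * t) (htv : t * v = v * t) :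
    t ∈ Subgroup.centralizer (W : Set G) := by
  have hX : W ⊓ Subgroup.centralizer ({t} : Set G) = W := by
    by_contra hne
    have h2 := eq_one_or_of_fixed hW (lt_of_le_of_ne inf_le_left hne)
    rcases eq_one_or_eq_of_card_two h2 ⟨hw, Subgroup.mem_centralizer_singleton_iff.2 htw.symm⟩ hw1
      (show v ∈ W ⊓ Subgroup.centralizer ({t} : Set G) from
        ⟨hv, Subgroup.mem_centralizer_singleton_iff.2 htv.symm⟩) with e | e
    · exact hv1 e
    · exact hvw e
  exact Subgroup.mem_centralizer_iff.2 fun x hx =>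
    Subgroup.mem_centralizer_singleton_iff.1 (inf_eq_left.1 hX hx)

theorem conj_eq_of_comm {a b : G} (h : b * a = a * b) : a * b * a⁻¹ = b := by
  rw [← h, mul_inv_cancel_right]

theorem zJ_conj (hTZ : T ≤ Subgroup.centralizer (zJ T : Set G)) {z t : G} (hz : z ∈ zJ T) (ht : t ∈ T) :
    t * z * t⁻¹ = z := conj_eq_of_comm (Subgroup.mem_centralizer_iff.1 (hTZ ht) z hz)

/-- A subgroup of `T` moves `W_K` through a group of order two. -/
theorem card_le_two_mul_centralizer (hT : IsPGroup 2 T) (hK : Cfsg.IsJComponent T K)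
    (hTK : T ≤ Subgroup.normalizer (K : Set G)) (hTZ : T ≤ Subgroup.centralizer (zJ T : Set G))
    {H : Subgroup G} (hH : H ≤ T) :
    Nat.card H ≤ 2 * Nat.card (H ⊓ Subgroup.centralizer (Cfsg.wOf K : Set G) : Subgroup G) := by
  obtain ⟨w, hw, hw1, -⟩ := exists_wZ hT hK
  have hW4 := (preComp_of hT hK).card_wOf (wOf_ne_bot hK)
  have hNW := hTK.trans (normalizer_le_normalizer_wOf K)
  refine card_le_two_mul_inf fun x hx hxC y hy hyC => ?_
  obtain ⟨v, hv, hxv⟩ : ∃ v ∈ Cfsg.wOf K, x * v ≠ v * x := by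
    by_contra hc
    push Not at hc
    exact hxC (Subgroup.mem_centralizer_iff.2 fun v hv => (hc v hv).symm)
  have hxw := mul_inv_eq_iff_eq_mul.1 (zJ_conj hTZ hw.1 (hH hx))
  have hv1 : v ≠ 1 := fun e => hxv (by rw [e]; simp)
  have hvw : v ≠ w := fun e => hxv (e ▸ hxw)
  have hyw := mul_inv_eq_iff_eq_mul.1 (zJ_conj hTZ hw.1 (hH hy))
  have h1 := (conj_cases hW4 hw.2 hw1 hv hv1 hvw (hNW (hH hx)) (zJ_conj hTZ hw.1 (hH hx))).resolve_left
    fun e => hxv (mul_inv_eq_iff_eq_mul.1 e)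
  have h2 := (conj_cases hW4 hw.2 hw1 hv hv1 hvw (hNW (hH hy)) (zJ_conj hTZ hw.1 (hH hy))).resolve_left
    fun e => hyC (mem_centralizer_of_two hW4 hw.2 hw1 hv hv1 hvw hyw (mul_inv_eq_iff_eq_mul.1 e))
  refine mem_centralizer_of_two hW4 hw.2 hw1 hv hv1 hvw
    (((show Commute x w from hxw).inv_left.mul_left hyw).eq) (mul_inv_eq_iff_eq_mul.1 ?_)
  calc x⁻¹ * y * v * (x⁻¹ * y)⁻¹ = x⁻¹ * (y * v * y⁻¹) * x := by group
    _ = x⁻¹ * (x * v * x⁻¹) * x := by rw [h1, h2]
    _ = v := by group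

/-- An element centralising `W_K` and normalising `K` fixes `K/O₂(K)`. -/
theorem comm_mem_core_of_centralizes (hp : PreComp T K) (hW : Cfsg.wOf K ≠ ⊥) {d b : G} (hd : d ∈ K)
    (hdQ : d ∉ Cfsg.pCoreOf 2 K) (hd3 : d ^ 3 = 1)
    (hgen : Cfsg.pCoreOf 2 K ⊔ Subgroup.zpowers d = K) (hb : b ∈ Subgroup.normalizer (K : Set G))
    (hbW : b ∈ Subgroup.centralizer (Cfsg.wOf K : Set G)) : ⁅d, b⁆ ∈ Cfsg.pCoreOf 2 K := by
  have hdd : d * d * d = 1 := by rw [← pow_two, ← pow_succ, hd3]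
  have hdN : d ∈ Subgroup.normalizer (Cfsg.pCoreOf 2 K : Set G) := CharP.le_normalizer_pCoreOf 2 K hd
  obtain ⟨n, q, hq, e⟩ := PreComp.exists_zpow_mul hd hgen ((Subgroup.mem_normalizer_iff.1 hb d).1 hd)
  rcases zpow_cases_of_cube hd3 n with h | h | h <;> rw [h] at e
  · exfalso
    rw [one_mul] at e
    exact hdQ ((Subgroup.mem_normalizer_iff.1 (normalizer_le_normalizer_pCoreOf 2 K hb) d).2 (e ▸ hq))
  · rw [commutatorElement_def, show d * b * d⁻¹ * b⁻¹ = d * (b * d * b⁻¹)⁻¹ by group, e,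
      show d * (d * q)⁻¹ = d * q⁻¹ * d⁻¹ by group]
    exact (Subgroup.mem_normalizer_iff.1 hdN _).1 (inv_mem hq)
  · exfalso
    obtain ⟨u, hu, hu1⟩ := (Subgroup.bot_or_exists_ne_one _).resolve_left hW
    have hNW : d ∈ Subgroup.normalizer (Cfsg.wOf K : Set G) :=
      normalizer_le_normalizer_wOf K (Subgroup.le_normalizer hd)
    have hv : d * u * d⁻¹ ∈ Cfsg.wOf K := (Subgroup.mem_normalizer_iff.1 hNW u).1 hu
    have hbu := conj_eq_of_comm (Subgroup.mem_centralizer_iff.1 hbW u hu)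
    have hqu := conj_eq_of_comm (Subgroup.mem_centralizer_iff.1 (hp.core_centralizes_wOf hq) u hu)
    have h1 : d * d * u * (d * d)⁻¹ = d * u * d⁻¹ := by
      have h2 := conj_eq_of_comm (Subgroup.mem_centralizer_iff.1 hbW _ hv)
      rw [show b * (d * u * d⁻¹) * b⁻¹ = (b * d * b⁻¹) * (b * u * b⁻¹) * (b * d * b⁻¹)⁻¹ by group, hbu, e,
        show d * d * q * u * (d * d * q)⁻¹ = d * d * (q * u * q⁻¹) * (d * d)⁻¹ by group, hqu] at h2
      exact h2
    refine hu1 (hp.no_fixed hd hd3 hgen u hu ?_)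
    have h3 : d⁻¹ * (d * d * u * (d * d)⁻¹) * d = d⁻¹ * (d * u * d⁻¹) * d := by rw [h1]
    rw [show d⁻¹ * (d * d * u * (d * d)⁻¹) * d = d * u * d⁻¹ by group,
      show d⁻¹ * (d * u * d⁻¹) * d = u by group] at h3
    exact mul_inv_eq_iff_eq_mul.1 h3

/-- `C_T(Ω₁Z(O₂(L))) ≤ O₂(L)`. -/
theorem inf_centralizer_le_core (hG : ZNHyp G) (hL : L ∈ Cfsg.jOvergroups T) :
    T ⊓ Subgroup.centralizer (Cfsg.omegaCenterOf (Cfsg.pCoreOf 2 L) : Set G) ≤ Cfsg.pCoreOf 2 L := by
  obtain ⟨S, hS, hloc⟩ := localHyp hG hL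
  set V := PLocal.omegaCenterOf 2 (Cfsg.pCore 2 ↥L)
  have hVmap : V.map L.subtype = Cfsg.omegaCenterOf (Cfsg.pCoreOf 2 L) :=
    PLocal.map_omegaCenterOf _ L.subtype_injective _
  haveI : V.Normal := omegaCenterOf_pCore_normal
  haveI : (Subgroup.centralizer (V : Set L)).Normal := Subgroup.normal_centralizer
  rintro t ⟨htT, htV⟩
  obtain ⟨t', ht', rfl⟩ : t ∈ (S : Subgroup L).map L.subtype := hS ▸ htT
  exact ⟨t', normal_le_normalizer hloc.cent ⟨ht', Subgroup.mem_centralizer_iff.2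
    fun v hv => Subtype.ext (Subgroup.mem_centralizer_iff.1 htV v (hVmap ▸ ⟨v, hv, rfl⟩))⟩, rfl⟩

theorem LocalData.wZ_le_cK (D : LocalData T L R) (hG : ZNHyp G) (hL : L ∈ Cfsg.jOvergroups T)
    {A B : Subgroup G} (hA : Cfsg.IsJComponent T A) (hAL : A ≤ L) (hB : Cfsg.IsJComponent T B)
    (hBL : B ≤ L) (hAB : A ≠ B) : wZ T B ≤ cK T A := by
  intro x hx
  obtain ⟨d, hd, hd3, hgen, hline, hsup⟩ := D.exists_line hL hA hAL
  exact mem_cK_of_commute hL.1.2.1 hA hd hd3 hgen hx.1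
    (Subgroup.mem_centralizer_iff.1 (D.comp_centralizes hG hL hA hAL hB hBL hAB hd hd3 hline hsup) x hx.2).symm

theorem Vertex.wOf_le (v : Vertex T K L) : Cfsg.wOf K ≤ T :=
  (split v.two v.comp).1.trans (PGroups.thompsonSubgroupOf_le 2 T)

theorem exists_not_commute {W : Subgroup G} {q : G} (h : q ∉ Subgroup.centralizer (W : Set G)) :
    ∃ v ∈ W, q * v ≠ v * q := by
  by_contra hc
  push Not at hc
  exact h (Subgroup.mem_centralizer_iff.2 fun v hv => (hc v hv).symm)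

namespace Pair

theorem centralizer_inf_le (p : Pair T K L K' L') (hG : ZNHyp G) {A : Subgroup G}
    (hA : Cfsg.IsJComponent T A) (hTA : T ≤ Subgroup.normalizer (A : Set G)) {w : G}
    (hw : w ∈ wZ T A) (hw1 : w ≠ 1) (hwc : w ∉ cK T K')
    (hAW : Cfsg.wOf A ≤ Subgroup.centralizer (Cfsg.wOf K' : Set G)) :
    T ⊓ Subgroup.centralizer (Cfsg.wOf K' : Set G) ≤ Subgroup.centralizer (Cfsg.wOf A : Set G) := by
  intro q hq
  by_contra hqC
  obtain ⟨v, hv, hqv⟩ := exists_not_commute hqC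
  have hT := p.left.two
  have hTZ := p.centralizes_zJ hG
  have hW4 := (preComp_of hT hA).card_wOf (wOf_ne_bot hA)
  have hWe := (preComp_of hT hA).wOf_elemAb
  have hv1 : v ≠ 1 := fun e => hqv (by rw [e]; simp)
  have hvw : v ≠ w := fun e => hqv (e ▸ mul_inv_eq_iff_eq_mul.1 (zJ_conj hTZ hw.1 hq.1))
  exact hwc (mem_cK_of_moved hG p.right.mem p.right.comp p.right.le (p.symm.le_normalizer hG) hTZ
    ((split hT hA).1.trans (PGroups.thompsonSubgroupOf_le 2 T) hv) (hAW hv) (hWe.2 v hv) hw.1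
    (fun t ht => conj_cases hW4 hw.2 hw1 hv hv1 hvw (normalizer_le_normalizer_wOf A (hTA ht))
      (zJ_conj hTZ hw.1 ht)) hq.1 hq.2 hqv)

theorem comp_eq (p : Pair T K L K' L') (hG : ZNHyp G) {K3 : Subgroup G}
    (h3 : Cfsg.IsJComponent T K3) (h3L : K3 ≤ L) : K3 = K := by
  haveI : Fact (Nat.Prime 2) := ⟨Nat.prime_two⟩
  by_contra hne
  have hT := p.left.two
  have hTZ := p.centralizes_zJ hG
  have hK := p.left.comp
  have hK' := p.right.comp
  have hL := p.left.mem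
  obtain ⟨R, D⟩ := exists_localData hG hL
  obtain ⟨w, hw, hw1, hwK⟩ := exists_wZ hT hK
  obtain ⟨w3, hw3, hw31, hw3K⟩ := exists_wZ hT h3
  obtain ⟨w', hw', hw'1, hw'K⟩ := exists_wZ hT hK'
  have hw3c : w3 ∈ cK T K := D.wZ_le_cK hG hL hK p.left.le h3 h3L (Ne.symm hne) hw3
  have hwc : w ∈ cK T K3 := D.wZ_le_cK hG hL h3 h3L hK p.left.le hne hw
  have hT3 : T ≤ Subgroup.normalizer (K3 : Set G) := by
    intro t ht
    rw [mem_normalizer_iff_map]
    obtain ⟨h4, h5⟩ := D.comp_conj hG hL h3 h3L (hL.1.1 ht)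
    refine D.eq_of_mem_wOf hG hL h4 h5 h3 h3L (w := w3) ?_ hw3.2 hw31
    rw [← map_wOf _ (MulAut.conj t).injective]
    exact ⟨w3, hw3.2, zJ_conj hTZ hw3.1 ht⟩
  have hcard3 : Nat.card (cK T K3) ≤ 2 := by
    have h1 := card_zJ hT h3
    rw [card_zJ hT hK] at h1
    have := p.card_cK_le
    omega
  obtain ⟨c', hc', hc'1⟩ : ∃ c' ∈ cK T K', c' ≠ 1 := by
    refine (Subgroup.bot_or_exists_ne_one _).resolve_left fun e => ?_
    have h1 := card_zJ hT hK
    rw [card_zJ hT hK', e, Subgroup.card_bot] at h1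
    have h2 : Nat.card (cK T K) = 1 := by omega
    exact hw31 (Subgroup.mem_bot.1 (Subgroup.card_eq_one.1 h2 ▸ hw3c))
  have hne_w : c' ≠ w := by
    rintro rfl
    have h3L' : K3 ≤ L' := le_trans (fun k hk => Subgroup.mem_centralizer_singleton_iff.2
      (Subgroup.mem_centralizer_iff.1 hwc.2 k hk)) (p.right.centralizer_le hc' hc'1)
    obtain ⟨R', D'⟩ := exists_localData hG p.right.mem
    have hne' : K3 ≠ K' := fun e => p.ne
      (p.right.uniq L p.left.maximal (sup_le (e ▸ h3L) (LocalData.jT_le hL)))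
    rcases eq_one_or_eq_of_card_two hcard3 hwc hw1
      (D'.wZ_le_cK hG p.right.mem h3 h3L' hK' p.right.le hne' hw') with e | e
    · exact hw'1 e
    · exact hw'K (e ▸ hc')
  have hc'eq : c' = w3 * w := by
    obtain ⟨c, hc, e | e⟩ := mem_zJ_cases hT hK hw hw1 hc'.1
    · exact absurd (p.cK_disjoint (e ▸ hc) hc') hc'1
    · rcases eq_one_or_eq_of_card_two p.card_cK_le hw3c hw31 hc with rfl | rfl
      · exact absurd (e.trans (one_mul w)) hne_w
      · exact e
  have hc'2 := p.symm.card_cK_le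
  have hwK' : w ∉ cK T K' := fun h => by
    rcases eq_one_or_eq_of_card_two hc'2 hc' hc'1 h with e | e
    · exact hw1 e
    · exact hne_w e.symm
  have hw3K' : w3 ∉ cK T K' := fun h => by
    rcases eq_one_or_eq_of_card_two hc'2 hc' hc'1 h with e | e
    · exact hw31 e
    · exact hw1 (mul_eq_left.1 (hc'eq.symm.trans e.symm))
  set C' := Subgroup.centralizer (Cfsg.wOf K' : Set G)
  have hJT : jT T ≤ T := PGroups.thompsonSubgroupOf_le 2 T
  -- both cannot move `W_{K'}`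
  have hdich : ∀ {A : Subgroup G} {u : G}, Cfsg.IsJComponent T A → T ≤ Subgroup.normalizer (A : Set G) →
      u ∈ wZ T A → u ≠ 1 → ¬ Cfsg.wOf A ≤ C' → w' = u := by
    intro A u hA hTA hu hu1 hAC
    obtain ⟨v, hv, hvC⟩ := SetLike.not_le_iff_exists.1 hAC
    obtain ⟨y, hy, hvy⟩ := exists_not_commute hvC
    have hvT : v ∈ T := (split hT hA).1.trans hJT hv
    have hyT : y ∈ T := p.right.wOf_le hy
    have hv1 : v ≠ 1 := fun e => hvy (by rw [e]; simp)
    have hy1 : y ≠ 1 := fun e => hvy (by rw [e]; simp)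
    have hvu : v ≠ u := fun e => hvy
      (by rw [e]; exact (mul_inv_eq_iff_eq_mul.1 (zJ_conj hTZ hu.1 hyT)).symm)
    have hyw : y ≠ w' := fun e => hvy
      (by rw [e]; exact mul_inv_eq_iff_eq_mul.1 (zJ_conj hTZ hw'.1 hvT))
    have h1 := (conj_cases ((preComp_of hT hK').card_wOf (wOf_ne_bot hK')) hw'.2 hw'1 hy hy1 hyw
      (normalizer_le_normalizer_wOf K' (p.symm.le_normalizer hG hvT)) (zJ_conj hTZ hw'.1 hvT)).resolve_left
      fun e => hvy (mul_inv_eq_iff_eq_mul.1 e)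
    have h2 := (conj_cases ((preComp_of hT hA).card_wOf (wOf_ne_bot hA)) hu.2 hu1 hv hv1 hvu
      (normalizer_le_normalizer_wOf A (hTA hyT)) (zJ_conj hTZ hu.1 hyT)).resolve_left
      fun e => hvy (mul_inv_eq_iff_eq_mul.1 e).symm
    have ha : y⁻¹ * v * y * v⁻¹ = w' := by
      calc y⁻¹ * v * y * v⁻¹ = y⁻¹ * (v * y * v⁻¹) := by group
        _ = w' := by rw [h1, inv_mul_cancel_left]
    have hb : v⁻¹ * y * v * y⁻¹ = u := by
      calc v⁻¹ * y * v * y⁻¹ = v⁻¹ * (y * v * y⁻¹) := by group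
        _ = u := by rw [h2, inv_mul_cancel_left]
    have hyv : y⁻¹ = y := inv_eq_of_mul_eq_one_right (by
      rw [← pow_two]; exact (preComp_of hT hK').wOf_elemAb.2 y hy)
    have hvv : v⁻¹ = v := inv_eq_of_mul_eq_one_right (by
      rw [← pow_two]; exact (preComp_of hT hA).wOf_elemAb.2 v hv)
    rw [hyv, hvv] at ha hb
    have hu2 : u⁻¹ = u := inv_eq_of_mul_eq_one_right (by
      rw [← pow_two]; exact (zJ_elemAb T).2 u hu.1)
    rw [← ha, ← hu2, ← hb]
    calc y * v * y * v = y⁻¹ * v⁻¹ * y⁻¹ * v⁻¹ := by rw [hyv, hvv]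
      _ = (v * y * v * y)⁻¹ := by group
  -- the one centralising `W_{K'}` leads to a contradiction
  have hfinal : ∀ {A B : Subgroup G} {a b : G}, Cfsg.IsJComponent T A → A ≤ L →
      T ≤ Subgroup.normalizer (A : Set G) → Cfsg.IsJComponent T B → B ≤ L →
      T ≤ Subgroup.normalizer (B : Set G) → A ≠ B → a ∈ wZ T A → a ≠ 1 → a ∉ cK T K' →
      b ∈ wZ T B → b ≠ 1 → b ∉ cK T K' → Cfsg.wOf A ≤ C' → False := by
    intro A B a b hA hAL hTA hB hBL hTB hAB ha ha1 hac hb hb1 hbc hAC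
    set CA := Subgroup.centralizer (Cfsg.wOf A : Set G)
    have h1 : T ⊓ C' ≤ CA := p.centralizer_inf_le hG hA hTA ha ha1 hac hAC
    obtain ⟨A0, hA0⟩ := exists_mover hT hA
    obtain ⟨t, htA, htC⟩ := SetLike.not_le_iff_exists.1 hA0.moves
    have h2 : Nat.card (T ⊓ CA : Subgroup G) * 2 ≤ Nat.card T := PGroups.card_mul_le_card_of_mem inf_le_left hT
      ((PGroups.le_thompsonSubgroupOf hA0.mem).trans hJT htA) fun h => htC h.2
    have h3 : Nat.card T ≤ 2 * Nat.card (T ⊓ C' : Subgroup G) :=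
      card_le_two_mul_centralizer hT hK' (p.symm.le_normalizer hG) hTZ le_rfl
    have h4 : T ⊓ C' = T ⊓ CA := Subgroup.eq_of_le_of_card_ge (le_inf inf_le_left h1) (by omega)
    have hBC : Cfsg.wOf B ≤ C' := by
      intro v hv
      have hv' : v ∈ T ⊓ CA := ⟨(split hT hB).1.trans hJT hv, Subgroup.mem_centralizer_iff.2 fun u hu =>
        PGroups.elemAb_comm (PLocal.omegaCenterOf_elemAb _) (D.wOf_le_omegaCore hG hL hA hAL hu)
          (D.wOf_le_omegaCore hG hL hB hBL hv)⟩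
      rw [← h4] at hv'
      exact hv'.2
    have h5 : T ⊓ C' ≤ Subgroup.centralizer (Cfsg.wOf B : Set G) :=
      p.centralizer_inf_le hG hB hTB hb hb1 hbc hBC
    obtain ⟨da, hda, hda3, hgena, hla, hsa⟩ := D.exists_line hL hA hAL
    obtain ⟨db, hdb, hdb3, hgenb, hlb, hsb⟩ := D.exists_line hL hB hBL
    obtain ⟨j, hj, hjb, hja⟩ := D.sep db da hlb hla fun e =>
      hAB.symm (LocalData.eq_of_sup_eq hG hL hB hBL hA hAL (by rw [hsa, hsb, e]))
    have hjA : j ∈ CA := LocalData.centralizes_wOf hL hA hAL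
      (hT.to_le (Subgroup.zpowers_le.2 (hJT hj))) (hTA (hJT hj)) hda hda3 hgena hja
    have hdbQ : db ∉ Cfsg.pCoreOf 2 B := fun h => hlb.2.1 (D.comp_core_le hL hB hBL h)
    refine hjb (D.comp_core_le hL hB hBL (comm_mem_core_of_centralizes (preComp_of hT hB) (wOf_ne_bot hB)
      hdb hdbQ hdb3 hgenb (hTB (hJT hj)) (h5 ?_)))
    rw [h4]
    exact ⟨hJT hj, hjA⟩
  by_cases hWC : Cfsg.wOf K ≤ C'
  · exact hfinal hK p.left.le (p.le_normalizer hG) h3 h3L hT3 (Ne.symm hne) hw hw1 hwK' hw3 hw31 hw3K' hWC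
  · have hW3C : Cfsg.wOf K3 ≤ C' := by
      by_contra hc
      have e1 := hdich hK (p.le_normalizer hG) hw hw1 hWC
      have e2 := hdich h3 hT3 hw3 hw31 hc
      exact hwK (e1.symm.trans e2 ▸ hw3c)
    exact hfinal h3 h3L hT3 hK p.left.le (p.le_normalizer hG) hne hw3 hw31 hw3K' hw hw1 hwK' hW3C

theorem local_le_normalizer (p : Pair T K L K' L') (hG : ZNHyp G) :
    L ≤ Subgroup.normalizer (K : Set G) := fun g hg => by
  obtain ⟨R, D⟩ := exists_localData hG p.left.mem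
  obtain ⟨h1, h2⟩ := D.comp_conj hG p.left.mem p.left.comp p.left.le hg
  exact mem_normalizer_iff_map.2 (p.comp_eq hG h1 h2)

theorem jT_inf_centralizer_le (p : Pair T K L K' L') (hG : ZNHyp G) :
    jT T ⊓ Subgroup.centralizer (Cfsg.wOf K : Set G) ≤ Cfsg.pCoreOf 2 L := by
  have hL := p.left.mem
  have hT := p.left.two
  obtain ⟨R, D⟩ := exists_localData hG hL
  obtain ⟨d, hd, hd3, hgen, hline, -⟩ := D.exists_line hL p.left.comp p.left.le
  rintro j ⟨hjJ, hjC⟩
  set Q := Cfsg.pCoreOf 2 L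
  have hdQ : d ∉ Cfsg.pCoreOf 2 K := fun h => hline.2.1 (D.comp_core_le hL p.left.comp p.left.le h)
  have hjN : j ∈ Subgroup.normalizer (Q : Set G) := CharP.le_normalizer_pCoreOf 2 L (LocalData.jT_le hL hjJ)
  have hKC : K ≤ relCent Q j := by
    rw [← hgen]
    refine sup_le ((D.comp_core_le hL p.left.comp p.left.le).trans (self_le_relCent hjN))
      (Subgroup.zpowers_le.2 ⟨CharP.le_normalizer_pCoreOf 2 L (p.left.le hd), ?_⟩)
    exact D.comp_core_le hL p.left.comp p.left.le (comm_mem_core_of_centralizes (preComp_of hT p.left.comp)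
      (wOf_ne_bot p.left.comp) hd hdQ hd3 hgen
      (p.le_normalizer hG (PGroups.thompsonSubgroupOf_le 2 T hjJ)) hjC)
  have hR : R ≤ relCent Q j := D.le_of_forall_comp hG hL (self_le_relCent hjN)
    fun A hA hAL => (p.comp_eq hG hA hAL).le.trans hKC
  refine D.cent j hjJ fun r hr => ?_
  rw [← commutatorElement_inv]
  exact Q.inv_mem (hR hr).2

theorem omegaCore_le (p : Pair T K L K' L') (hG : ZNHyp G) :
    Cfsg.omegaCenterOf (Cfsg.pCoreOf 2 L) ≤ Cfsg.wOf K ⊔ cK T K := by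
  haveI : Fact (Nat.Prime 2) := ⟨Nat.prime_two⟩
  have hL := p.left.mem
  have hT := p.left.two
  have hK := p.left.comp
  have hp := preComp_of hT hK
  have hTK := p.le_normalizer hG
  have hTZ := p.centralizes_zJ hG
  obtain ⟨R, D⟩ := exists_localData hG hL
  obtain ⟨d, hd, -, hd3, hgen⟩ := hp.exists_three
  set Q := Cfsg.pCoreOf 2 L
  set V := Cfsg.omegaCenterOf Q with hV
  set W := Cfsg.wOf K with hWdef
  have hVe : Cfsg.IsElementaryAbelian 2 V := PLocal.omegaCenterOf_elemAb Q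
  have hVJ : V ≤ jT T := D.omegaCore_le_jT hL
  have hJT : jT T ≤ T := PGroups.thompsonSubgroupOf_le 2 T
  have hWV : W ≤ V := D.wOf_le_omegaCore hG hL hK p.left.le
  have hinv : ∀ y ∈ V, y⁻¹ = y := fun y hy => inv_eq_of_mul_eq_one_right (by
    rw [← pow_two]; exact hVe.2 y hy)
  have hdV : ∀ y ∈ V, d * y * d⁻¹ ∈ V := by
    intro y hy
    have hN : d ∈ Subgroup.normalizer (V : Set G) := by
      rw [mem_normalizer_iff_map, hV]
      change (PLocal.omegaCenterOf 2 Q).map _ = _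
      rw [PLocal.map_omegaCenterOf _ (MulAut.conj d).injective,
        mem_normalizer_iff_map.1 (CharP.le_normalizer_pCoreOf 2 L (p.left.le hd))]
      rfl
    exact (Subgroup.mem_normalizer_iff.1 hN y).1 hy
  have hcm : ∀ a ∈ V, ∀ b ∈ V, a * b = b * a := fun a ha b hb => PGroups.elemAb_comm hVe ha hb
  have hKQ : Cfsg.pCoreOf 2 K ≤ Q := D.comp_core_le hL hK p.left.le
  have hVQ : ∀ y ∈ V, ∀ q ∈ Q, q * y = y * q := fun y hy q hq =>
    (Subgroup.mem_centralizer_iff.1 (PLocal.le_centralizer_omegaCenterOf _ hq) y hy).symm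
  have hf : ∀ y ∈ V, y * (d * y * d⁻¹) ∈ Cfsg.omegaCenterOf (Cfsg.pCoreOf 2 K) := by
    intro y hy
    have hfV : y * (d * y * d⁻¹) ∈ V := V.mul_mem hy (hdV y hy)
    have hfK : y * (d * y * d⁻¹) ∈ K := by
      rw [show y * (d * y * d⁻¹) = y * d * y * d⁻¹ by group]
      nth_rewrite 2 [← hinv y hy]
      exact K.mul_mem ((Subgroup.mem_normalizer_iff.1 (hTK (hJT (hVJ hy))) d).1 hd) (K.inv_mem hd)
    refine PGroups.mem_omegaOne_of_pow ⟨LocalData.core_inf_le p.left.le ⟨hfK, ?_⟩,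
      Subgroup.mem_centralizer_iff.2 fun q hq => hVQ _ hfV q (hKQ hq)⟩ (hVe.2 _ hfV)
    exact PLocal.omegaCenterOf_le _ hfV
  have hfW : ∀ y ∈ V, y * (d * y * d⁻¹) ∈ W := by
    intro y hy
    set y1 := d * y * d⁻¹ with hy1
    set y2 := d * y1 * d⁻¹ with hy2
    have hy1V : y1 ∈ V := hdV y hy
    have hd3' : d * d * d = 1 := by rw [← pow_two, ← pow_succ, hd3]
    have hy1sq : y1 * y1 = 1 := by rw [← pow_two]; exact hVe.2 y1 hy1V
    have h1 : y * y2 ∈ W := by
      have h2 : ⁅y * y1, d⁆ ∈ W := Subgroup.commutator_mem_commutator (hf y hy) hd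
      have h3 : ⁅y * y1, d⁆ = y * y2 := by
        rw [commutatorElement_def, show y * y1 * d * (y * y1)⁻¹ * d⁻¹ =
          y * y1 * (d * (y * y1)⁻¹ * d⁻¹) by group, hinv _ (V.mul_mem hy hy1V),
          show d * (y * y1) * d⁻¹ = y1 * y2 by rw [hy2, hy1]; group,
          show y * y1 * (y1 * y2) = y * (y1 * y1) * y2 by group, hy1sq, mul_one]
      rwa [h3] at h2
    have hde2 : d * y2 * d⁻¹ = y := by
      rw [hy2, hy1, show d * (d * (d * y * d⁻¹) * d⁻¹) * d⁻¹ = d * d * d * y * (d * d * d)⁻¹ by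
        simp [mul_assoc], hd3']
      group
    have h4 : d * (y * y2) * d⁻¹ ∈ W := (Subgroup.mem_normalizer_iff.1
      (normalizer_le_normalizer_wOf K (Subgroup.le_normalizer hd)) _).1 h1
    rwa [show d * (y * y2) * d⁻¹ = y1 * (d * y2 * d⁻¹) by rw [hy1]; group, hde2, hcm y1 hy1V y hy] at h4
  intro y hy
  -- the component centralised by `d`
  obtain ⟨⟨w', hw'⟩, he⟩ : ∃ w' : W, (w' : G) * (d * w' * d⁻¹) = y * (d * y * d⁻¹) := by
    let f : W → W := fun u => ⟨u * (d * u * d⁻¹), hfW u (hWV u.2)⟩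
    have hinj : Function.Injective f := by
      intro u v huv
      have h : (u : G) * (d * u * d⁻¹) = v * (d * v * d⁻¹) := congrArg Subtype.val huv
      have hu := hWV u.2
      have hv := hWV v.2
      have h5 : d * ((u : G) * v) * d⁻¹ = (u : G) * v := by
        calc d * ((u : G) * v) * d⁻¹ = (u : G)⁻¹ * ((u : G) * (d * u * d⁻¹)) * (d * v * d⁻¹) := by group
          _ = (u : G) * (v * (d * v * d⁻¹)) * (d * v * d⁻¹) := by rw [h, hinv _ hu]
          _ = (u : G) * v * ((d * v * d⁻¹) * (d * v * d⁻¹)) := by group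
          _ = _ := by rw [show (d * (v : G) * d⁻¹) * (d * v * d⁻¹) = 1 by
            rw [← pow_two]; exact hVe.2 _ (hdV _ hv), mul_one]
      have h6 := hp.no_fixed hd hd3 hgen _ (W.mul_mem u.2 v.2) (mul_inv_eq_iff_eq_mul.1 h5)
      exact Subtype.ext ((eq_inv_of_mul_eq_one_left h6).trans (hinv _ hv))
    obtain ⟨u, hu⟩ := Finite.injective_iff_surjective.1 hinj ⟨_, hfW y hy⟩
    exact ⟨u, congrArg Subtype.val hu⟩
  have hw'V := hWV hw'
  set c := y * w' with hc
  have hcV : c ∈ V := V.mul_mem hy hw'V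
  have hdc : d * c = c * d := by
    refine mul_inv_eq_iff_eq_mul.1 ?_
    calc d * c * d⁻¹ = (d * y * d⁻¹) * (d * w' * d⁻¹) := by rw [hc]; group
      _ = y⁻¹ * (y * (d * y * d⁻¹)) * (d * w' * d⁻¹) := by group
      _ = y * w' * ((d * w' * d⁻¹) * (d * w' * d⁻¹)) := by rw [← he, hinv y hy]; group
      _ = c := by
        rw [show (d * w' * d⁻¹) * (d * w' * d⁻¹) = 1 by rw [← pow_two]; exact hVe.2 _ (hdV _ hw'V), mul_one]
  have hcK' : c ∈ Subgroup.centralizer (K : Set G) := by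
    have hle : K ≤ Subgroup.centralizer ({c} : Set G) := by
      rw [← hgen]
      exact sup_le (fun q hq => Subgroup.mem_centralizer_singleton_iff.2 (hVQ c hcV q (hKQ hq)))
        (Subgroup.zpowers_le.2 (Subgroup.mem_centralizer_singleton_iff.2 hdc))
    exact Subgroup.mem_centralizer_iff.2 fun k hk => Subgroup.mem_centralizer_singleton_iff.1 (hle hk)
  have hJc : jT T ≤ Subgroup.centralizer ({c} : Set G) := by
    rw [jT, PGroups.thompsonSubgroupOf_eq]
    refine sSup_le fun A hA a ha => Subgroup.mem_centralizer_singleton_iff.2 ?_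
    have hAJ : A ≤ jT T := PGroups.le_thompsonSubgroupOf hA
    set CW := Subgroup.centralizer (W : Set G)
    by_cases haW : a ∈ CW
    · exact hVQ c hcV a (p.jT_inf_centralizer_le hG ⟨hAJ ha, haW⟩)
    obtain ⟨v0, hv0, hav0⟩ := exists_not_commute haW
    set A0 := A ⊓ CW
    have hA0Q : A0 ≤ Q := fun b hb => p.jT_inf_centralizer_le hG ⟨hAJ hb.1, hb.2⟩
    have hidx : Nat.card A ≤ 2 * Nat.card A0 := card_le_two_mul_centralizer hT hK hTK hTZ hA.1
    have hE : Cfsg.IsElementaryAbelian 2 (A0 ⊔ V : Subgroup G) :=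
      PGroups.elemAb_sup (PGroups.elemAb_mono hA.2.1 inf_le_left) hVe fun b hb v hv => hVQ v hv b (hA0Q hb)
    set CV := V ⊓ Subgroup.centralizer (A : Set G) with hCV
    have h1 := PLocal.card_sup_mul_card_inf (H := A0) (K := V)
      (fun b hb => Subgroup.centralizer_le_normalizer _ (Subgroup.mem_centralizer_iff.2
        fun v hv => (hVQ v hv b (hA0Q hb)).symm))
    have h2 : Nat.card (A0 ⊔ V : Subgroup G) ≤ 2 * Nat.card A0 :=
      (hA.2.2 _ (sup_le (inf_le_left.trans hA.1) (hVJ.trans hJT)) hE).trans hidx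
    have h3 : Nat.card (A0 ⊓ V : Subgroup G) ≤ Nat.card CV := Subgroup.card_le_of_le fun v hv =>
      ⟨hv.2, Subgroup.mem_centralizer_iff.2 fun b hb => PGroups.elemAb_comm hA.2.1 hb hv.1.1⟩
    have h4 : Nat.card A0 * Nat.card V ≤ 2 * Nat.card A0 * Nat.card CV := h1 ▸ Nat.mul_le_mul h2 h3
    have h5 : Nat.card V ≤ 2 * Nat.card CV :=
      Nat.le_of_mul_le_mul_left (by linarith) (Nat.card_pos (α := A0))
    have hVp : IsPGroup 2 V := PGroups.elemAb_isPGroup hVe
    have hsupV : CV ⊔ W ≤ V := sup_le inf_le_left hWV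
    have h6 := PGroups.card_mul_le_card_of_mem (le_sup_left : CV ≤ CV ⊔ W) (hVp.to_le hsupV)
      (Subgroup.mem_sup_right hv0) fun h => hav0 (Subgroup.mem_centralizer_iff.1 h.2 a ha)
    have h7 : CV ⊔ W = V := Subgroup.eq_of_le_of_card_ge hsupV (by omega)
    have hc' : c ∈ ((CV ⊔ W : Subgroup G) : Set G) := h7.symm ▸ hcV
    rw [Subgroup.coe_mul_of_left_le_normalizer_right CV W (fun m hm =>
      Subgroup.centralizer_le_normalizer _ (Subgroup.mem_centralizer_iff.2 fun z hz =>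
        hcm z (hWV hz) m hm.1))] at hc'
    obtain ⟨u, hu, z, hz, huz⟩ := hc'
    have huz' : u * z = c := huz
    have hau : a * u * a⁻¹ = u := conj_eq_of_comm (Subgroup.mem_centralizer_iff.1 hu.2 a ha).symm
    have haT : a ∈ T := hA.1 ha
    set e := c⁻¹ * (a * c * a⁻¹)
    have he1 : e ∈ W := by
      rw [show e = z⁻¹ * (a * z * a⁻¹) by
        rw [show e = c⁻¹ * (a * c * a⁻¹) from rfl, ← huz',
          show a * (u * z) * a⁻¹ = (a * u * a⁻¹) * (a * z * a⁻¹) by group, hau]; group]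
      exact W.mul_mem (W.inv_mem hz)
        ((Subgroup.mem_normalizer_iff.1 (normalizer_le_normalizer_wOf K (hTK haT)) z).1 hz)
    have he2 : e ∈ Subgroup.centralizer (K : Set G) := Subgroup.mul_mem _ (Subgroup.inv_mem _ hcK')
      ((Subgroup.mem_normalizer_iff.1 (Balance.normalizer_le_normalizer_centralizer _ (hTK haT)) c).1 hcK')
    have he3 : e = 1 := hp.no_fixed hd hd3 hgen e he1 (Subgroup.mem_centralizer_iff.1 he2 d hd)
    exact mul_inv_eq_iff_eq_mul.1 (eq_of_inv_mul_eq_one he3).symm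
  have hcJ : c ∈ zJ T := by
    refine PGroups.mem_omegaOne_of_pow ⟨hVJ hcV, Subgroup.mem_centralizer_iff.2 fun j hj => ?_⟩ (hVe.2 c hcV)
    exact Subgroup.mem_centralizer_singleton_iff.1 (hJc hj)
  have hy' : y = w' * c := by
    rw [hc, hcm y hy w' hw'V, ← mul_assoc, show w' * w' = 1 by rw [← pow_two]; exact hVe.2 _ hw'V, one_mul]
  rw [hy']
  exact Subgroup.mul_mem_sup hw' ⟨hcJ, hcK'⟩

theorem inf_centralizer_eq (p : Pair T K L K' L') (hG : ZNHyp G) :
    T ⊓ Subgroup.centralizer (Cfsg.wOf K : Set G) = Cfsg.pCoreOf 2 L := by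
  refine le_antisymm ?_ ?_
  · refine le_trans (le_inf inf_le_left fun t ht => Subgroup.mem_centralizer_iff.2 fun v hv => ?_)
      (inf_centralizer_le_core hG p.left.mem)
    have hle : Cfsg.wOf K ⊔ cK T K ≤ Subgroup.centralizer ({t} : Set G) := sup_le
      (fun w hw => Subgroup.mem_centralizer_singleton_iff.2 (Subgroup.mem_centralizer_iff.1 ht.2 w hw))
      (fun z hz => Subgroup.mem_centralizer_singleton_iff.2
        (Subgroup.mem_centralizer_iff.1 (p.centralizes_zJ hG ht.1) z hz.1))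
    exact Subgroup.mem_centralizer_singleton_iff.1 (hle (p.omegaCore_le hG hv))
  · obtain ⟨R, D⟩ := exists_localData hG p.left.mem
    exact le_inf (LocalData.core_le_T p.left.mem) (Subgroup.le_centralizer_iff.1
      ((D.wOf_le_omegaCore hG p.left.mem p.left.comp p.left.le).trans
        (Subgroup.le_centralizer_iff.1 (PLocal.le_centralizer_omegaCenterOf _))))

theorem zJ_le_core (p : Pair T K L K' L') (hG : ZNHyp G) : zJ T ≤ Cfsg.pCoreOf 2 L := by
  rw [← p.inf_centralizer_eq hG]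
  exact le_inf ((zJ_le_jT T).trans (PGroups.thompsonSubgroupOf_le 2 T)) fun z hz =>
    Subgroup.mem_centralizer_iff.2 fun w hw => zJ_comm hz ((split p.left.two p.left.comp).1 hw)

theorem omegaCore_eq (p : Pair T K L K' L') (hG : ZNHyp G) :
    Cfsg.omegaCenterOf (Cfsg.pCoreOf 2 L) = Cfsg.wOf K ⊔ cK T K := by
  refine le_antisymm (p.omegaCore_le hG) ?_
  obtain ⟨R, D⟩ := exists_localData hG p.left.mem
  refine sup_le (D.wOf_le_omegaCore hG p.left.mem p.left.comp p.left.le) fun z hz => ?_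
  refine PGroups.mem_omegaOne_of_pow ⟨p.zJ_le_core hG hz.1, Subgroup.mem_centralizer_iff.2 fun q hq => ?_⟩
    ((zJ_elemAb T).2 z hz.1)
  exact (Subgroup.mem_centralizer_iff.1 (p.centralizes_zJ hG (LocalData.core_le_T p.left.mem hq)) z hz.1).symm

theorem card_omegaCore (p : Pair T K L K' L') (hG : ZNHyp G) :
    Nat.card (Cfsg.omegaCenterOf (Cfsg.pCoreOf 2 L) : Subgroup G) = 4 * Nat.card (cK T K) := by
  have hp := preComp_of p.left.two p.left.comp
  rw [p.omegaCore_eq hG]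
  have h := PLocal.card_sup_mul_card_inf (H := cK T K) (K := Cfsg.wOf K) fun z hz =>
    Subgroup.centralizer_le_normalizer _ (Subgroup.mem_centralizer_iff.2 fun w hw =>
      zJ_comm hz.1 ((split p.left.two p.left.comp).1 hw))
  rw [cK_inf_wOf hp, Subgroup.card_bot, mul_one, hp.card_wOf (wOf_ne_bot p.left.comp)] at h
  rw [sup_comm, h, mul_comm]

theorem card_eq_two_mul_core (p : Pair T K L K' L') (hG : ZNHyp G) :
    Nat.card T = 2 * Nat.card (Cfsg.pCoreOf 2 L) := by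
  haveI : Fact (Nat.Prime 2) := ⟨Nat.prime_two⟩
  have h1 := card_le_two_mul_centralizer p.left.two p.left.comp (p.le_normalizer hG) (p.centralizes_zJ hG) le_rfl
  rw [p.inf_centralizer_eq hG] at h1
  obtain ⟨A, hA⟩ := exists_mover p.left.two p.left.comp
  obtain ⟨a, ha, haC⟩ := SetLike.not_le_iff_exists.1 hA.moves
  have h2 := PGroups.card_mul_le_card_of_mem (LocalData.core_le_T p.left.mem) p.left.two (hA.mem.1 ha)
    fun h => haC (p.inf_centralizer_eq hG ▸ h : a ∈ T ⊓ _).2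
  omega

end Pair

end Cfsg.Agent.Lib.LAEven56.JComp
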