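import Cfsg.Agent.Lib.LAEven56.JComp.Comps

/-!
# `Ω₁Z(J(T))` against a single `J(T)`-component

Owner: helper56.
-/

set_option autoImplicit false
set_option linter.style.haveILetI false
set_option linter.unusedSectionVars false

open Cfsg
open scoped commutatorElement

namespace Cfsg.Agent.Lib.LAEven56.JComp

open Cfsg.Agent.Lib

variable {G : Type*} [Group G] [Finite G] {T K : Subgroup G}

/-- An involution of `X` commuting with a largest elementary abelian subgroup lies in it. -/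
theorem mem_of_bound {X A : Subgroup G} (hA : Cfsg.IsElementaryAbelian 2 A) (hAX : A ≤ X) {n : ℕ}
    (hn : n ≤ Nat.card A) (hb : ∀ B : Subgroup G, B ≤ X → Cfsg.IsElementaryAbelian 2 B → Nat.card B ≤ n)
    {z : G} (hz : z ∈ X) (hz2 : z ^ 2 = 1) (hc : ∀ a ∈ A, a * z = z * a) : z ∈ A := by
  have hE : Cfsg.IsElementaryAbelian 2 (A ⊔ Subgroup.zpowers z : Subgroup G) := by
    refine PGroups.elemAb_sup hA (PGroups.elemAb_zpowers hz2) ?_
    rintro a ha _ ⟨k, rfl⟩
    exact (Commute.zpow_right (show Commute a z from hc a ha) k).eq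
  have h := (hb _ (sup_le hAX (Subgroup.zpowers_le.2 hz)) hE).trans hn
  rw [Subgroup.eq_of_le_of_card_ge le_sup_left h]
  exact Subgroup.mem_sup_right (Subgroup.mem_zpowers z)

/-- Everything needed about a component and an `A ∈ 𝒜(T)` moving `W_K`. -/
structure MoverData (T K A : Subgroup G) : Prop where
  mem : A ∈ PGroups.maxElemAbIn 2 T
  moves : ¬ A ≤ Subgroup.centralizer (Cfsg.wOf K : Set G)
  index : Nat.card A ≤ 2 * Nat.card (A ⊓ Subgroup.centralizer (Cfsg.wOf K : Set G) : Subgroup G)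
  sup_le : A ⊓ Subgroup.centralizer (Cfsg.wOf K : Set G) ⊔ Cfsg.wOf K ≤ jT T
  sup_card : Nat.card A ≤
    Nat.card (A ⊓ Subgroup.centralizer (Cfsg.wOf K : Set G) ⊔ Cfsg.wOf K : Subgroup G)

theorem eq_one_or_of_fixed {W : Subgroup G} (hW : Nat.card W = 4) {F : Subgroup G} (hF : F < W) :
    Nat.card F ≤ 2 := by
  have hd : Nat.card F ∣ 4 := hW ▸ Subgroup.card_dvd_of_le hF.le
  have hne : Nat.card F ≠ 4 := fun e => hF.ne (Subgroup.eq_of_le_of_card_ge hF.le (by rw [e, hW]))
  have h3 : Nat.card F ≠ 3 := fun e => absurd (e ▸ hd) (by norm_num)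
  have := Nat.le_of_dvd (by norm_num) hd
  omega

theorem exists_mover (hT : IsPGroup 2 T) (hK : Cfsg.IsJComponent T K) :
    ∃ A, MoverData T K A := by
  haveI : Fact (Nat.Prime 2) := ⟨Nat.prime_two⟩
  have hp := preComp_of hT hK
  obtain ⟨d, hd, hdQ, hd3, hgen⟩ := hp.exists_three
  set W := Cfsg.wOf K with hWdef
  have hWne : W ≠ ⊥ := fun e => by
    have := hK.2.2.2.2.1
    rw [← hWdef, e, Subgroup.card_bot] at this
    omega
  have hKW : K ≤ Subgroup.normalizer (W : Set G) :=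
    Subgroup.le_normalizer.trans (normalizer_le_normalizer_wOf K)
  have hJW : jT T ≤ Subgroup.normalizer (W : Set G) :=
    hp.le_normalizer.trans (normalizer_le_normalizer_wOf K)
  obtain ⟨A, hA, hAW⟩ : ∃ A ∈ PGroups.maxElemAbIn 2 T, ¬ A ≤ Subgroup.centralizer (W : Set G) := by
    by_contra hc
    push Not at hc
    have hJ : jT T ≤ Subgroup.centralizer (W : Set G) := by
      rw [jT, PGroups.thompsonSubgroupOf_eq]
      exact sSup_le hc
    have hKC : K ≤ Subgroup.centralizer (W : Set G) := by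
      calc K = ⁅K, jT T⁆ := hK.2.1.symm
        _ ≤ ⁅Subgroup.normalizer (W : Set G), Subgroup.centralizer (W : Set G)⁆ :=
            Subgroup.commutator_mono hKW hJ
        _ ≤ _ := by
          rw [Subgroup.commutator_comm]
          exact Subgroup.le_normalizer_iff_commutator_le_left.1
            (Balance.normalizer_le_normalizer_centralizer _)
    exact hdQ (hp.inf_centralizer_le hWne ⟨hd, hKC hd⟩)
  set A0 := A ⊓ Subgroup.centralizer (W : Set G) with hA0
  have hAJ : A ≤ jT T := PGroups.le_thompsonSubgroupOf hA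
  have hAW' : A ≤ Subgroup.normalizer (W : Set G) := hAJ.trans hJW
  have hWe := hp.wOf_elemAb
  -- fixed points of `A` on `W`
  set F := PLocal.fixOn W A with hF
  have hFlt : F < W := lt_of_le_of_ne PLocal.fixOn_le fun e => hAW (PLocal.fixOn_eq_self_iff.1 e)
  have hFcard := eq_one_or_of_fixed hK.2.2.2.2.1 hFlt
  obtain ⟨u, hu, hu1⟩ := (Subgroup.bot_or_exists_ne_one F).resolve_left
    (PLocal.fixOn_ne_bot hAW' (PLocal.pActsOn_of_isPGroup (PGroups.elemAb_isPGroup hA.2.1))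
      (PGroups.elemAb_isPGroup hWe) hWne)
  obtain ⟨huW, huf⟩ := PLocal.mem_fixOn.1 hu
  obtain ⟨a, haA, haC⟩ := SetLike.not_le_iff_exists.1 hAW
  have hindex : Nat.card A ≤ 2 * Nat.card A0 := by
    -- `A` moves a point `v` to at most two places
    obtain ⟨v, hvW, hva⟩ : ∃ v ∈ W, a * v ≠ v * a := by
      by_contra hc
      push Not at hc
      exact haC (Subgroup.mem_centralizer_iff.2 fun v hv => (hc v hv).symm)
    have hspan : ∀ x ∈ A, x * v = v * x → x ∈ A0 := by
      intro x hx hxv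
      refine ⟨hx, Subgroup.mem_centralizer_iff.2 fun w hw => ?_⟩
      set P := W ⊓ Subgroup.centralizer ({x} : Set G)
      have hP : P = W := by
        refine Subgroup.eq_of_le_of_card_ge inf_le_left ?_
        by_contra hlt
        have hPle := eq_one_or_of_fixed hK.2.2.2.2.1
          (lt_of_le_of_ne (inf_le_left : P ≤ W) fun e => hlt (congrArg (fun H : Subgroup G => Nat.card H) e).ge)
        classical
        haveI := Fintype.ofFinite P
        rw [Nat.card_eq_fintype_card (α := P)] at hPle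
        have huP : u ∈ P := ⟨huW, Subgroup.mem_centralizer_singleton_iff.2 (huf x hx).symm⟩
        have hvP : v ∈ P := ⟨hvW, Subgroup.mem_centralizer_singleton_iff.2 hxv.symm⟩
        have hne : u ≠ v := fun e => hva (e ▸ huf a haA)
        have hv1 : v ≠ 1 := fun e => hva (by rw [e, mul_one, one_mul])
        have h3 : ({1, ⟨u, huP⟩, ⟨v, hvP⟩} : Finset P).card = 3 :=
          Finset.card_eq_three.2 ⟨1, ⟨u, huP⟩, ⟨v, hvP⟩, fun e => hu1 (congrArg Subtype.val e).symm,
            fun e => hv1 (congrArg Subtype.val e).symm, fun e => hne (congrArg Subtype.val e), rfl⟩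
        have := h3 ▸ Finset.card_le_univ _
        omega
      exact Subgroup.mem_centralizer_singleton_iff.1 (hP ▸ hw : w ∈ P).2
    have himg : ∀ x ∈ A, x * v * x⁻¹ = v ∨ x * v * x⁻¹ = a * v * a⁻¹ := by
      intro x hx
      by_contra hc
      push Not at hc
      set w1 := x * v * x⁻¹ with hw1
      set w2 := a * v * a⁻¹ with hw2
      have hw1W : w1 ∈ W := (Subgroup.mem_normalizer_iff.1 (hAW' hx) v).1 hvW
      have hw2W : w2 ∈ W := (Subgroup.mem_normalizer_iff.1 (hAW' haA) v).1 hvW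
      have hne : u ≠ v := fun e => hva (e ▸ huf a haA)
      have hw2v : w2 ≠ v := fun e => hva (mul_inv_eq_iff_eq_mul.1 e)
      have hfx : ∀ y ∈ A, ∀ p : G, y * p * y⁻¹ = u → p = u := by
        intro y hy p hp
        have : p = y⁻¹ * u * y := by rw [← hp]; group
        rw [this, mul_assoc, ← huf y hy, inv_mul_cancel_left]
      have h1u : w1 ≠ u := fun e => hne (hfx x hx v e).symm
      have h2u : w2 ≠ u := fun e => hne (hfx a haA v e).symm
      have hv1 : v ≠ 1 := fun e => hva (by rw [e, mul_one, one_mul])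
      have h11 : w1 ≠ 1 := fun e => hv1 (conj_eq_one_iff.1 e)
      have h21 : w2 ≠ 1 := fun e => hv1 (conj_eq_one_iff.1 e)
      classical
      haveI := Fintype.ofFinite W
      have h4 := hK.2.2.2.2.1
      rw [← hWdef, Nat.card_eq_fintype_card] at h4
      have h5 : ({1, ⟨u, huW⟩, ⟨v, hvW⟩, ⟨w1, hw1W⟩, ⟨w2, hw2W⟩} : Finset W).card = 5 := by
        rw [Finset.card_insert_of_notMem (by simp [Subtype.ext_iff, hu1.symm, hv1.symm, h11.symm, h21.symm]),
          Finset.card_insert_of_notMem (by simp [Subtype.ext_iff, hne, h1u.symm, h2u.symm]),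
          Finset.card_insert_of_notMem (by simp [Subtype.ext_iff, hc.1.symm, hw2v.symm]),
          Finset.card_pair (by simpa [Subtype.ext_iff] using hc.2)]
      have := h5 ▸ Finset.card_le_univ _
      omega
    have hrel : ∀ x ∈ A, x ∈ A0 ∨ a⁻¹ * x ∈ A0 := by
      intro x hx
      rcases himg x hx with h | h
      · exact Or.inl (hspan x hx (mul_inv_eq_iff_eq_mul.1 h))
      · refine Or.inr (hspan _ (A.mul_mem (A.inv_mem haA) hx) ?_)
        calc a⁻¹ * x * v = a⁻¹ * (x * v * x⁻¹) * x := by group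
          _ = _ := by rw [h]; group
    classical
    let f : A → A0 × Bool := fun x =>
      if h : (x : G) ∈ A0 then (⟨x, h⟩, true) else (⟨a⁻¹ * x, (hrel x x.2).resolve_left h⟩, false)
    have hinj : Function.Injective f := by
      intro x y hxy
      simp only [f] at hxy
      split_ifs at hxy <;> simp only [Prod.mk.injEq, Subtype.mk.injEq] at hxy <;>
        first | exact Subtype.ext hxy.1 | exact Subtype.ext (mul_left_cancel hxy.1) | exact absurd hxy.2 (by simp)
    have h1 := Nat.card_le_card_of_injective f hinj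
    rw [Nat.card_prod, Nat.card_eq_fintype_card (α := Bool), Fintype.card_bool, mul_comm] at h1
    exact h1
  have hbound : ∀ B : Subgroup G, B ≤ K ⊔ jT T → Cfsg.IsElementaryAbelian 2 B → Nat.card B ≤ Nat.card A :=
    fun B hB hBe => hp.bound A hA B hB hBe
  have hWK : W ≤ K := hp.wOf_le_omega.trans ((PLocal.omegaCenterOf_le _).trans PreComp.core_le)
  have hE : Cfsg.IsElementaryAbelian 2 (A0 ⊔ W : Subgroup G) :=
    PGroups.elemAb_sup (PGroups.elemAb_mono hA.2.1 inf_le_left) hWe fun x hx w hw =>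
      (Subgroup.mem_centralizer_iff.1 hx.2 w hw).symm
  have hfix : W ⊓ A ≤ F := fun x hx => PLocal.mem_fixOn.2 ⟨hx.1, fun b hb => PGroups.elemAb_comm hA.2.1 hb hx.2⟩
  have hcard : Nat.card A ≤ Nat.card (A0 ⊔ W : Subgroup G) := by
    have h1 := PLocal.card_sup_mul_card_inf
      (show A0 ≤ Subgroup.normalizer (W : Set G) from inf_le_right.trans (Subgroup.centralizer_le_normalizer _))
    have h2 : Nat.card (A0 ⊓ W : Subgroup G) ≤ 2 :=
      (Subgroup.card_le_of_le (show A0 ⊓ W ≤ F from fun x hx => hfix ⟨hx.2, hx.1.1⟩)).trans hFcard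
    rw [show Nat.card W = 4 from hK.2.2.2.2.1] at h1
    have h3 : Nat.card A0 * 4 ≤ Nat.card (A0 ⊔ W : Subgroup G) * 2 := h1 ▸ Nat.mul_le_mul_left _ h2
    omega
  refine ⟨A, hA, hAW, hindex, ?_, hcard⟩
  -- `A₀ W` is a largest elementary abelian subgroup of a Sylow subgroup through `J(T)`
  have hQJ : jT T ≤ Subgroup.normalizer (Cfsg.pCoreOf 2 K : Set G) :=
    hp.le_normalizer.trans (normalizer_le_normalizer_pCoreOf 2 K)
  have hP : IsPGroup 2 (Cfsg.pCoreOf 2 K ⊔ jT T : Subgroup G) := by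
    rw [sup_comm]
    exact hp.isPGroup_jT.to_sup_of_normal_right' (CharP.isPGroup_pCoreOf 2 K) hQJ
  obtain ⟨S, hS, hPS⟩ := exists_sylowTwoIn hP (sup_le (PreComp.core_le.trans le_sup_left) le_sup_right :
    Cfsg.pCoreOf 2 K ⊔ jT T ≤ K ⊔ jT T)
  have hJS : jT T ≤ S := le_sup_right.trans hPS
  have hle : A0 ⊔ W ≤ S := sup_le ((inf_le_left.trans hAJ).trans hJS)
    ((hp.wOf_le_omega.trans (PLocal.omegaCenterOf_le _)).trans (le_sup_left.trans hPS))
  have hJeq : jT S = jT T := hK.2.2.2.1 S hS hJS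
  rw [← hJeq]
  exact PGroups.le_thompsonSubgroupOf ⟨hle, hE,
    fun B hB hBe => (hbound B (hB.trans hS.1) hBe).trans hcard⟩

theorem split (hT : IsPGroup 2 T) (hK : Cfsg.IsJComponent T K) :
    Cfsg.wOf K ≤ jT T ∧ Nat.card (Cfsg.omegaCenterOf (jT T) ⊓ Cfsg.wOf K : Subgroup G) = 2 ∧
      (Cfsg.omegaCenterOf (jT T) ⊓ ((K ⊔ jT T) ⊓ Subgroup.centralizer ((K ⊔ jT T : Subgroup G) : Set G))) ⊔
        (Cfsg.omegaCenterOf (jT T) ⊓ Cfsg.wOf K) = Cfsg.omegaCenterOf (jT T) := by
  haveI : Fact (Nat.Prime 2) := ⟨Nat.prime_two⟩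
  have hp := preComp_of hT hK
  obtain ⟨A, hA⟩ := exists_mover hT hK
  set J := jT T with hJdef
  set W := Cfsg.wOf K with hWdef
  set Z0 := Cfsg.omegaCenterOf J with hZ0def
  set X := K ⊔ J with hXdef
  have hWJ : W ≤ J := le_sup_right.trans hA.sup_le
  have hWne : W ≠ ⊥ := fun e => hA.moves (by
    rw [← hWdef, e]
    exact fun x _ => Subgroup.mem_centralizer_iff.2 fun y hy => by rw [Subgroup.mem_bot.1 hy]; simp)
  have hZ0J : Z0 ≤ J := PLocal.omegaCenterOf_le J
  have hZ0c : ∀ z ∈ Z0, ∀ j ∈ J, j * z = z * j := fun z hz j hj =>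
    (Subgroup.mem_centralizer_iff.1 (PLocal.le_centralizer_omegaCenterOf J hj) z hz).symm
  have hJW : J ≤ Subgroup.normalizer (W : Set G) :=
    hp.le_normalizer.trans (normalizer_le_normalizer_wOf K)
  have hKW : K ≤ Subgroup.normalizer (W : Set G) :=
    Subgroup.le_normalizer.trans (normalizer_le_normalizer_wOf K)
  have hfixJ : Z0 ⊓ W = PLocal.fixOn W J := by
    refine le_antisymm (fun x hx => PLocal.mem_fixOn.2 ⟨hx.2, hZ0c x hx.1⟩) fun x hx => ?_
    obtain ⟨hxW, hxf⟩ := PLocal.mem_fixOn.1 hx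
    exact ⟨PGroups.mem_omegaOne_of_pow ⟨hWJ hxW, Subgroup.mem_centralizer_iff.2 fun j hj => hxf j hj⟩
      (hp.wOf_elemAb.2 x hxW), hxW⟩
  obtain ⟨a, haA, haC⟩ := SetLike.not_le_iff_exists.1 hA.moves
  have haJ : a ∈ J := PGroups.le_thompsonSubgroupOf hA.mem haA
  set Fa := W ⊓ Subgroup.centralizer ({a} : Set G) with hFa
  have hFalt : Fa < W := lt_of_le_of_ne inf_le_left fun e => haC (Subgroup.mem_centralizer_iff.2 fun w hw =>
    Subgroup.mem_centralizer_singleton_iff.1 (inf_eq_left.1 e hw))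
  have hFJle : Z0 ⊓ W ≤ Fa := fun x hx =>
    ⟨hx.2, Subgroup.mem_centralizer_singleton_iff.2 (hZ0c x hx.1 a haJ).symm⟩
  have hcard : Nat.card (Z0 ⊓ W : Subgroup G) = 2 := by
    have h1 : Nat.card (Z0 ⊓ W : Subgroup G) ≤ 2 :=
      (Subgroup.card_le_of_le hFJle).trans (eq_one_or_of_fixed hK.2.2.2.2.1 hFalt)
    have h2 : (Z0 ⊓ W : Subgroup G) ≠ ⊥ := hfixJ ▸ PLocal.fixOn_ne_bot hJW
      (PLocal.pActsOn_of_isPGroup hp.isPGroup_jT) (PGroups.elemAb_isPGroup hp.wOf_elemAb) hWne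
    have h3 : Nat.card (Z0 ⊓ W : Subgroup G) ≠ 1 := fun e => h2 (Subgroup.card_eq_one.1 e)
    have h4 : 0 < Nat.card (Z0 ⊓ W : Subgroup G) := Nat.card_pos
    omega
  have hFaeq : Fa = Z0 ⊓ W := (Subgroup.eq_of_le_of_card_ge hFJle (by
    rw [hcard]; exact eq_one_or_of_fixed hK.2.2.2.2.1 hFalt)).symm
  refine ⟨hWJ, hcard, le_antisymm (sup_le inf_le_left inf_le_left) fun z hz => ?_⟩
  -- `P = C_X(W)`
  set P := X ⊓ Subgroup.centralizer (W : Set G) with hPdef
  have hXW : X ≤ Subgroup.normalizer (W : Set G) := sup_le hKW hJW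
  have hPn : X ≤ Subgroup.normalizer (P : Set G) := fun x hx => Subgroup.inf_normalizer_le_normalizer_inf
    ⟨Subgroup.le_normalizer hx, Balance.normalizer_le_normalizer_centralizer _ (hXW hx)⟩
  have hPp : IsPGroup 2 P := CharP.isPGroup_of_coprime_eq_one fun x hx hxo => by
    have hxK : x ∈ K := odd_mem_of_mem_sup hp.le_normalizer hp.isPGroup_jT hx.1 (odd_orderOf_coprime.2 hxo)
    exact CharP.eq_one_of_coprime_of_mem (CharP.isPGroup_pCoreOf 2 K) (hp.inf_centralizer_le hWne ⟨hxK, hx.2⟩) hxo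
  set A0 := A ⊓ Subgroup.centralizer (W : Set G) with hA0
  set B := A0 ⊔ W with hB
  have hWK : W ≤ K := hp.wOf_le_omega.trans ((PLocal.omegaCenterOf_le _).trans PreComp.core_le)
  have hWC : W ≤ Subgroup.centralizer (W : Set G) := fun w hw =>
    Subgroup.mem_centralizer_iff.2 fun v hv => PGroups.elemAb_comm hp.wOf_elemAb hv hw
  have hBP : B ≤ P := le_inf (hA.sup_le.trans le_sup_right) (sup_le inf_le_right hWC)
  have hBe : Cfsg.IsElementaryAbelian 2 B :=
    PGroups.elemAb_sup (PGroups.elemAb_mono hA.mem.2.1 inf_le_left) hp.wOf_elemAb fun x hx w hw =>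
      (Subgroup.mem_centralizer_iff.1 hx.2 w hw).symm
  have hbound : ∀ C : Subgroup G, C ≤ X → Cfsg.IsElementaryAbelian 2 C → Nat.card C ≤ Nat.card A :=
    fun C hC hCe => hp.bound A hA.mem C hC hCe
  have hBmax : B ∈ PGroups.maxElemAbIn 2 P :=
    ⟨hBP, hBe, fun C hC hCe => (hbound C (hC.trans inf_le_left) hCe).trans hA.sup_card⟩
  set J1 := jT P with hJ1
  have hJ1P : J1 ≤ P := PGroups.thompsonSubgroupOf_le 2 P
  have hBJ1 : B ≤ J1 := PGroups.le_thompsonSubgroupOf hBmax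
  have hJ1J : J1 ≤ J := by
    have hP2 : IsPGroup 2 (P ⊔ J : Subgroup G) := by
      rw [sup_comm]
      exact hp.isPGroup_jT.to_sup_of_normal_right' hPp (le_sup_right.trans hPn)
    obtain ⟨S, hS, hPS⟩ := exists_sylowTwoIn hP2 (sup_le inf_le_left le_sup_right : P ⊔ J ≤ X)
    rw [show J = jT S from (hK.2.2.2.1 S hS (le_sup_right.trans hPS)).symm]
    exact PGroups.thompsonSubgroupOf_mono (le_sup_left.trans hPS)
      ⟨hBP.trans (le_sup_left.trans hPS), hBe,
        fun C hC hCe => (hbound C (hC.trans hS.1) hCe).trans hA.sup_card⟩ hBP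
  set Z1 := Cfsg.omegaCenterOf J1 with hZ1
  have hZ1X : X ≤ Subgroup.normalizer (Z1 : Set G) := by
    refine (hPn.trans (normalizer_le_normalizer_jT P)).trans fun g hg => ?_
    rw [mem_normalizer_iff_map] at hg ⊢
    change (PLocal.omegaCenterOf 2 J1).map _ = _
    rw [PLocal.map_omegaCenterOf _ (MulAut.conj g).injective, hg]
    rfl
  have hZ1e : Cfsg.IsElementaryAbelian 2 Z1 := PLocal.omegaCenterOf_elemAb J1
  have hWZ1 : W ≤ Z1 := by
    intro w hw
    refine PGroups.mem_omegaOne_of_pow ⟨hBJ1 (Subgroup.mem_sup_right hw), ?_⟩ (hp.wOf_elemAb.2 w hw)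
    exact Subgroup.mem_centralizer_iff.2 fun j hj =>
      (Subgroup.mem_centralizer_iff.1 (hJ1P hj).2 w hw).symm
  have hZ0Z1 : Z0 ≤ Z1 := by
    intro y hy
    refine PGroups.mem_omegaOne_of_pow ⟨hBJ1 ?_, ?_⟩ ((PLocal.omegaCenterOf_elemAb J).2 y hy)
    · exact mem_of_bound hBe (hBP.trans inf_le_left) hA.sup_card hbound
        ((hZ0J.trans le_sup_right) hy) ((PLocal.omegaCenterOf_elemAb J).2 y hy)
        (fun b hb => hZ0c y hy b (hA.sup_le hb))
    · exact Subgroup.mem_centralizer_iff.2 fun j hj => hZ0c y hy j (hJ1J hj)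
  -- `a` fixes a hyperplane of `Z1`
  have hZ1B : ∀ y ∈ Z1, ∀ b ∈ B, b * y = y * b := fun y hy b hb =>
    (Subgroup.mem_centralizer_iff.1 (PLocal.le_centralizer_omegaCenterOf J1 (hBJ1 hb)) y hy).symm
  set Ca := Z1 ⊓ Subgroup.centralizer ({a} : Set G) with hCa
  have hCa2 : Nat.card Z1 ≤ 2 * Nat.card Ca := by
    have hE : Cfsg.IsElementaryAbelian 2 (A0 ⊔ Z1 : Subgroup G) :=
      PGroups.elemAb_sup (PGroups.elemAb_mono hA.mem.2.1 inf_le_left) hZ1e fun x hx y hy =>
        hZ1B y hy x (Subgroup.mem_sup_left hx)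
    have hle : A0 ⊔ Z1 ≤ X := sup_le (inf_le_left.trans ((PGroups.le_thompsonSubgroupOf hA.mem).trans le_sup_right))
      ((PLocal.omegaCenterOf_le J1).trans (hJ1P.trans inf_le_left))
    have hn : A0 ≤ Subgroup.normalizer (Z1 : Set G) :=
      (inf_le_left.trans ((PGroups.le_thompsonSubgroupOf hA.mem).trans le_sup_right)).trans hZ1X
    have h1 := PLocal.card_sup_mul_card_inf hn
    have h2 : Nat.card (A0 ⊓ Z1 : Subgroup G) ≤ Nat.card Ca := Subgroup.card_le_of_le fun x hx =>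
      ⟨hx.2, Subgroup.mem_centralizer_singleton_iff.2 (PGroups.elemAb_comm hA.mem.2.1 hx.1.1 haA)⟩
    have h3 : Nat.card (A0 ⊔ Z1 : Subgroup G) ≤ 2 * Nat.card A0 := (hbound _ hle hE).trans hA.index
    have h5 : Nat.card A0 * Nat.card Z1 ≤ Nat.card A0 * (2 * Nat.card Ca) := by
      calc Nat.card A0 * Nat.card Z1 = _ := h1.symm
        _ ≤ 2 * Nat.card A0 * Nat.card Ca := Nat.mul_le_mul h3 h2
        _ = _ := by ring
    exact Nat.le_of_mul_le_mul_left h5 Nat.card_pos
  obtain ⟨d, hd, -, hd3, hgen⟩ := hp.exists_three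
  set Cd := Z1 ⊓ Subgroup.centralizer ({d * a * d⁻¹} : Set G) with hCd
  have hCd2 : Nat.card Z1 ≤ 2 * Nat.card Cd := by
    have hdn : d ∈ Subgroup.normalizer (Z1 : Set G) := hZ1X (Subgroup.mem_sup_left hd)
    refine hCa2.trans (Nat.mul_le_mul_left 2 ?_)
    rw [← Subgroup.card_map_of_injective (K := Ca) (f := (MulAut.conj d).toMonoidHom) (MulAut.conj d).injective]
    refine Subgroup.card_le_of_le ?_
    rintro _ ⟨y, ⟨hyZ, hya⟩, rfl⟩
    refine ⟨(Subgroup.mem_normalizer_iff.1 hdn y).1 hyZ, Subgroup.mem_centralizer_singleton_iff.2 ?_⟩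
    change (d * y * d⁻¹) * (d * a * d⁻¹) = (d * a * d⁻¹) * (d * y * d⁻¹)
    calc (d * y * d⁻¹) * (d * a * d⁻¹) = d * (y * a) * d⁻¹ := by group
      _ = d * (a * y) * d⁻¹ := by rw [Subgroup.mem_centralizer_singleton_iff.1 hya]
      _ = _ := by group
  set Y := Ca ⊓ Cd with hY
  have hYcard : Nat.card Z1 ≤ 4 * Nat.card Y := by
    have hn : Ca ≤ Subgroup.normalizer (Cd : Set G) := fun x hx =>
      Subgroup.centralizer_le_normalizer _ (Subgroup.mem_centralizer_iff.2 fun y hy =>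
        PGroups.elemAb_comm hZ1e hy.1 hx.1)
    have h1 := PLocal.card_sup_mul_card_inf hn
    have h2 : Nat.card (Ca ⊔ Cd : Subgroup G) ≤ Nat.card Z1 :=
      Subgroup.card_le_of_le (sup_le inf_le_left inf_le_left)
    have h3 : Nat.card Ca * Nat.card Cd ≤ Nat.card Z1 * Nat.card Y := by
      rw [← h1]
      exact Nat.mul_le_mul_right _ h2
    have h4 : Nat.card Z1 * Nat.card Z1 ≤ Nat.card Z1 * (4 * Nat.card Y) := by
      calc Nat.card Z1 * Nat.card Z1 ≤ 2 * Nat.card Ca * (2 * Nat.card Cd) := Nat.mul_le_mul hCa2 hCd2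
        _ = 4 * (Nat.card Ca * Nat.card Cd) := by ring
        _ ≤ 4 * (Nat.card Z1 * Nat.card Y) := Nat.mul_le_mul_left 4 h3
        _ = _ := by ring
    exact Nat.le_of_mul_le_mul_left h4 Nat.card_pos
  -- an element of order three centralising `Y`
  set g := a * (d * a * d⁻¹) with hg
  have ha2 : a * a = 1 := by rw [← pow_two]; exact hA.mem.2.1.2 a haA
  have hgK : g ∈ K := by
    rw [hg, show a * (d * a * d⁻¹) = (a * d * a⁻¹) * (a * a) * d⁻¹ by group, ha2, mul_one]
    exact K.mul_mem (hp.conj_mem hd haJ) (K.inv_mem hd)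
  have hgQ : g ∉ Cfsg.pCoreOf 2 K := by
    intro hcon
    obtain ⟨w0, hw0, hw01⟩ := (Subgroup.bot_or_exists_ne_one (Z0 ⊓ W)).resolve_left fun e => by
      rw [e, Subgroup.card_bot] at hcard; omega
    have hwW : w0 ∈ W := hw0.2
    have haw : a * w0 = w0 * a := hZ0c w0 hw0.1 a haJ
    have hgw : g * w0 = w0 * g :=
      (Subgroup.mem_centralizer_iff.1 (hp.core_centralizes_wOf hcon) w0 hwW).symm
    have hda : (d * a * d⁻¹) * w0 = w0 * (d * a * d⁻¹) := by
      have e : d * a * d⁻¹ = a⁻¹ * g := by rw [hg]; group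
      rw [e]
      exact (Commute.mul_left (show Commute a w0 from haw).inv_left (show Commute g w0 from hgw)).eq
    have h1 : a * (d⁻¹ * w0 * d) = (d⁻¹ * w0 * d) * a := by
      calc a * (d⁻¹ * w0 * d) = d⁻¹ * ((d * a * d⁻¹) * w0) * d := by group
        _ = d⁻¹ * (w0 * (d * a * d⁻¹)) * d := by rw [hda]
        _ = _ := by group
    have hw'W : d⁻¹ * w0 * d ∈ W := by
      have := (Subgroup.mem_normalizer_iff.1 (inv_mem (hKW hd)) w0).1 hwW
      simpa using this
    have h2 : d⁻¹ * w0 * d ∈ Z0 ⊓ W :=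
      hFaeq ▸ ⟨hw'W, Subgroup.mem_centralizer_singleton_iff.2 h1.symm⟩
    classical
    haveI := Fintype.ofFinite (Z0 ⊓ W : Subgroup G)
    have hne : d⁻¹ * w0 * d ≠ w0 := fun e => hw01 (hp.no_fixed hd hd3 hgen w0 hwW (by
      conv_lhs => rw [← e]
      group))
    have hne1 : d⁻¹ * w0 * d ≠ 1 := fun e => hw01 (by
      have : w0 = d * (d⁻¹ * w0 * d) * d⁻¹ := by group
      rw [this, e, mul_one, mul_inv_cancel])
    rw [Nat.card_eq_fintype_card] at hcard
    have h3 : ({1, ⟨w0, hw0⟩, ⟨_, h2⟩} : Finset (Z0 ⊓ W : Subgroup G)).card = 3 :=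
      Finset.card_eq_three.2 ⟨1, ⟨w0, hw0⟩, ⟨_, h2⟩, fun e => hw01 (congrArg Subtype.val e).symm,
        fun e => hne1 (congrArg Subtype.val e).symm, fun e => hne (congrArg Subtype.val e).symm, rfl⟩
    have := h3 ▸ Finset.card_le_univ _
    omega
  have hcube : g ^ 3 ∈ Cfsg.pCoreOf 2 K := by
    haveI := Subgroup.normal_subgroupOf_of_le_normalizer (CharP.le_normalizer_pCoreOf 2 K)
    have := Subgroup.pow_index_mem ((Cfsg.pCoreOf 2 K).subgroupOf K) ⟨g, hgK⟩
    rwa [← Subgroup.relIndex, hK.2.2.1] at this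
  obtain ⟨k, hk⟩ := CharP.exists_pow_coprime (p := 2) g
  set g1 := g ^ 2 ^ k with hg1
  have hg1K : g1 ∈ K := K.pow_mem hgK _
  have hg1Q : g1 ∉ Cfsg.pCoreOf 2 K := fun h =>
    hgQ (mem_of_pow_coprime (Nat.Coprime.pow_left k (by norm_num : Nat.Coprime 2 3)) h hcube)
  have hg13 : g1 ^ 3 = 1 := by
    refine CharP.eq_one_of_coprime_of_mem (CharP.isPGroup_pCoreOf 2 K) ?_
      (Nat.Coprime.coprime_dvd_left (orderOf_pow_dvd 3) hk)
    rw [hg1, pow_right_comm]
    exact Subgroup.pow_mem _ hcube _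
  have hgen1 : Cfsg.pCoreOf 2 K ⊔ Subgroup.zpowers g1 = K := by
    have hle : Cfsg.pCoreOf 2 K ⊔ Subgroup.zpowers g1 ≤ K :=
      sup_le PreComp.core_le (Subgroup.zpowers_le.2 hg1K)
    have hm := Subgroup.relIndex_mul_relIndex (Cfsg.pCoreOf 2 K) _ K le_sup_left hle
    rw [hK.2.2.1] at hm
    rcases (Nat.dvd_prime (by norm_num : Nat.Prime 3)).1 (Dvd.intro _ hm) with h1 | h1
    · exact absurd (Subgroup.relIndex_eq_one.1 h1 (Subgroup.mem_sup_right (Subgroup.mem_zpowers g1))) hg1Q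
    · rw [h1] at hm
      exact le_antisymm hle (Subgroup.relIndex_eq_one.1 (by omega))
  have hfree := hp.no_fixed hg1K hg13 hgen1
  have hYg : ∀ y ∈ Y, Commute y g1 := by
    intro y hy
    refine Commute.pow_right ?_ _
    exact Commute.mul_right (Subgroup.mem_centralizer_singleton_iff.1 hy.1.2)
      (Subgroup.mem_centralizer_singleton_iff.1 hy.2.2)
  have hWY : W ⊔ Y = Z1 := by
    refine Subgroup.eq_of_le_of_card_ge (sup_le hWZ1 (inf_le_left.trans inf_le_left)) ?_
    have hn : W ≤ Subgroup.normalizer (Y : Set G) := fun x hx =>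
      Subgroup.centralizer_le_normalizer _ (Subgroup.mem_centralizer_iff.2 fun y hy =>
        PGroups.elemAb_comm hZ1e hy.1.1 (hWZ1 hx))
    have h1 := PLocal.card_sup_mul_card_inf hn
    have h2 : W ⊓ Y = ⊥ := le_bot_iff.1 fun x hx =>
      Subgroup.mem_bot.2 (hfree x hx.1 (hYg x hx.2).eq.symm)
    rw [h2, Subgroup.card_bot, mul_one, show Nat.card W = 4 from hK.2.2.2.2.1] at h1
    rw [h1]
    exact hYcard
  have hz' : z ∈ ((W ⊔ Y : Subgroup G) : Set G) := hWY.symm ▸ hZ0Z1 hz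
  rw [Subgroup.coe_mul_of_left_le_normalizer_right W Y (fun x hx =>
      Subgroup.centralizer_le_normalizer _ (Subgroup.mem_centralizer_iff.2 fun y hy =>
        PGroups.elemAb_comm hZ1e hy.1.1 (hWZ1 hx)))] at hz'
  obtain ⟨w, hw, y, hy, rfl⟩ := hz'
  have hwF : w ∈ Z0 ⊓ W := by
    rw [← hFaeq]
    refine ⟨hw, Subgroup.mem_centralizer_singleton_iff.2 ?_⟩
    have h1 : Commute a (w * y) := hZ0c _ hz a haJ
    have h2 : Commute y a := Subgroup.mem_centralizer_singleton_iff.1 hy.1.2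
    have h3 : Commute a (w * y * y⁻¹) := h1.mul_right h2.symm.inv_right
    rw [mul_inv_cancel_right] at h3
    exact h3.eq.symm
  have hyZ0 : y ∈ Z0 := by
    have := Z0.mul_mem (Z0.inv_mem hwF.1) hz
    rwa [inv_mul_cancel_left] at this
  refine Subgroup.mul_mem _ (Subgroup.mem_sup_right hwF) (Subgroup.mem_sup_left ⟨hyZ0, le_sup_right (a := K) (hZ0J hyZ0), ?_⟩)
  -- `y` centralises `K J`
  set C := Subgroup.centralizer ({y} : Set G) with hC
  have hJC : J ≤ C := fun j hj => Subgroup.mem_centralizer_singleton_iff.2 (hZ0c y hyZ0 j hj)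
  have hQJ : Cfsg.pCoreOf 2 K ≤ Subgroup.normalizer (J : Set G) := by
    have hP2 : IsPGroup 2 (Cfsg.pCoreOf 2 K ⊔ J : Subgroup G) := by
      rw [sup_comm]
      exact hp.isPGroup_jT.to_sup_of_normal_right' (CharP.isPGroup_pCoreOf 2 K)
        (hp.le_normalizer.trans (normalizer_le_normalizer_pCoreOf 2 K))
    obtain ⟨S, hS, hPS⟩ := exists_sylowTwoIn hP2 (sup_le (PreComp.core_le.trans le_sup_left) le_sup_right :
      Cfsg.pCoreOf 2 K ⊔ J ≤ X)
    rw [show J = jT S from (hK.2.2.2.1 S hS (le_sup_right.trans hPS)).symm]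
    exact (le_sup_left.trans hPS).trans (le_normalizer_jT S)
  have hKC : K ≤ C := by
    calc K = ⁅K, J⁆ := hK.2.1.symm
      _ ≤ C := by
        rw [Subgroup.commutator_le]
        intro x hx j hj
        rw [commutatorElement_def]
        refine C.mul_mem ?_ (C.inv_mem (hJC hj))
        have hx' : x ∈ ((Subgroup.zpowers g1 ⊔ Cfsg.pCoreOf 2 K : Subgroup G) : Set G) := by
          rw [sup_comm, hgen1]; exact hx
        rw [Subgroup.coe_mul_of_left_le_normalizer_right _ _
          ((Subgroup.zpowers_le.2 hg1K).trans (CharP.le_normalizer_pCoreOf 2 K))] at hx'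
        obtain ⟨e, he, q, hq, rfl⟩ := hx'
        change e * q * j * (e * q)⁻¹ ∈ C
        have heC : e ∈ C := by
          obtain ⟨n, rfl⟩ := he
          exact C.zpow_mem (Subgroup.mem_centralizer_singleton_iff.2 (hYg y hy).eq.symm) n
        rw [show e * q * j * (e * q)⁻¹ = e * (q * j * q⁻¹) * e⁻¹ by group]
        exact C.mul_mem (C.mul_mem heC (hJC ((Subgroup.mem_normalizer_iff.1 (hQJ hq) j).1 hj))) (C.inv_mem heC)
  refine Subgroup.mem_centralizer_iff.2 fun x hx => ?_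
  exact Subgroup.mem_centralizer_singleton_iff.1 ((sup_le hKC hJC : X ≤ C) hx)

end Cfsg.Agent.Lib.LAEven56.JComp
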