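import Cfsg.Agent.Lib.LAEven56.JComp.Action
import Cfsg.Agent.Lib.LAEven56.JComp.Zero

/-!
# Components with a unique maximal 2-local, and pairs of them over one `T`

Owner: helper56.
-/

set_option autoImplicit false
set_option linter.style.haveILetI false
set_option linter.unusedSectionVars false

open Cfsg
open scoped commutatorElement

namespace Cfsg.Agent.Lib.LAEven56.JComp

open Cfsg.Agent.Lib

variable {G : Type*} [Group G]

/-- `Ω₁Z(J(T))`. -/
abbrev zJ (T : Subgroup G) : Subgroup G := Cfsg.omegaCenterOf (jT T)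

/-- The part of `Ω₁Z(J(T))` centralised by `K`. -/
abbrev cK (T K : Subgroup G) : Subgroup G := zJ T ⊓ Subgroup.centralizer (K : Set G)

/-- The part of `Ω₁Z(J(T))` inside `W_K`. -/
abbrev wZ (T K : Subgroup G) : Subgroup G := zJ T ⊓ Cfsg.wOf K

variable [Finite G]

/-- A subgroup whose non-members of a pair differ by a member has index at most two. -/
theorem card_le_two_mul_inf {A H : Subgroup G}
    (h : ∀ x ∈ A, x ∉ H → ∀ y ∈ A, y ∉ H → x⁻¹ * y ∈ H) :
    Nat.card A ≤ 2 * Nat.card (A ⊓ H : Subgroup G) := by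
  classical
  by_cases hA : A ≤ H
  · rw [inf_eq_left.2 hA]
    have := Nat.card_pos (α := A)
    omega
  obtain ⟨a, ha, haH⟩ := SetLike.not_le_iff_exists.1 hA
  let f : A → (A ⊓ H : Subgroup G) × Bool := fun x =>
    if hx : (x : G) ∈ H then (⟨x, x.2, hx⟩, true)
    else (⟨a⁻¹ * x, A.mul_mem (A.inv_mem ha) x.2, h a ha haH x x.2 hx⟩, false)
  have hinj : Function.Injective f := by
    intro x y hxy
    simp only [f] at hxy
    split_ifs at hxy <;> simp only [Prod.mk.injEq] at hxy <;>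
      first
        | exact Subtype.ext (congrArg Subtype.val hxy.1 :)
        | exact Subtype.ext (mul_left_cancel (congrArg Subtype.val hxy.1 :))
        | exact absurd hxy.2 (by simp)
  have h1 := Nat.card_le_card_of_injective f hinj
  rwa [Nat.card_prod, Nat.card_eq_fintype_card (α := Bool), Fintype.card_bool, mul_comm] at h1

theorem eq_one_or_eq_of_card_two {H : Subgroup G} (h : Nat.card H ≤ 2) {x y : G} (hx : x ∈ H)
    (hx1 : x ≠ 1) (hy : y ∈ H) : y = 1 ∨ y = x := by
  by_contra hc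
  push Not at hc
  classical
  haveI := Fintype.ofFinite H
  rw [Nat.card_eq_fintype_card] at h
  have h3 : ({1, ⟨x, hx⟩, ⟨y, hy⟩} : Finset H).card = 3 :=
    Finset.card_eq_three.2 ⟨1, ⟨x, hx⟩, ⟨y, hy⟩, fun e => hx1 (congrArg Subtype.val e).symm,
      fun e => hc.1 (congrArg Subtype.val e).symm, fun e => hc.2 (congrArg Subtype.val e).symm, rfl⟩
  have := h3 ▸ Finset.card_le_univ _
  omega

variable {T K L R : Subgroup G}

theorem zJ_le_jT (T : Subgroup G) : zJ T ≤ jT T := PLocal.omegaCenterOf_le _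

theorem zJ_comm {z j : G} (hz : z ∈ zJ T) (hj : j ∈ jT T) : j * z = z * j :=
  (Subgroup.mem_centralizer_iff.1 (PLocal.le_centralizer_omegaCenterOf _ hj) z hz).symm

theorem zJ_elemAb (T : Subgroup G) : Cfsg.IsElementaryAbelian 2 (zJ T) :=
  PLocal.omegaCenterOf_elemAb _

theorem not_isPGroup_of_comp (hK : Cfsg.IsJComponent T K) {P : Subgroup G} (hP : IsPGroup 2 P) :
    ¬ K ≤ P := by
  intro hKP
  have h1 : K ≤ ⊥ := by
    rw [← hK.1]
    exact oddGen_le_of_forall fun g hg ho => Subgroup.mem_bot.2 (eq_one_of_odd hP (hKP hg) ho)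
  have h2 := hK.2.2.1
  rw [le_bot_iff.1 h1, Subgroup.relIndex_bot_right] at h2
  omega

/-- A component never centralises `Ω₁Z(S)` for a Sylow subgroup `S` containing `J(T)`. -/
theorem not_le_centralizer_omegaCenter (hG : ZNHyp G) (hK : Cfsg.IsJComponent T K) (S : Sylow 2 G)
    (hJ : jT T ≤ (S : Subgroup G)) :
    ¬ K ≤ Subgroup.centralizer (Cfsg.omegaCenterOf (S : Subgroup G) : Set G) := by
  intro h
  refine not_isPGroup_of_comp hK S.isPGroup' ?_
  calc K = ⁅K, jT T⁆ := hK.2.1.symm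
    _ ≤ ⁅Subgroup.normalizer ((S : Subgroup G) : Set G), (S : Subgroup G)⁆ :=
        Subgroup.commutator_mono (h.trans (hG.z S)) hJ
    _ ≤ _ := by
      rw [Subgroup.commutator_comm]
      exact Subgroup.le_normalizer_iff_commutator_le_left.1 le_rfl

theorem cK_inf_wOf (hp : PreComp T K) : cK T K ⊓ Cfsg.wOf K = ⊥ := by
  obtain ⟨d, hd, -, hd3, hgen⟩ := hp.exists_three
  exact le_bot_iff.1 fun x hx => Subgroup.mem_bot.2
    (hp.no_fixed hd hd3 hgen x hx.2 (Subgroup.mem_centralizer_iff.1 hx.1.2 d hd))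

theorem zJ_eq (hT : IsPGroup 2 T) (hK : Cfsg.IsJComponent T K) : cK T K ⊔ wZ T K = zJ T := by
  refine le_antisymm (sup_le inf_le_left inf_le_left) ?_
  refine (split hT hK).2.2.ge.trans ?_
  refine sup_le_sup_right (inf_le_inf_left _ (inf_le_right.trans (Subgroup.centralizer_le ?_))) _
  exact SetLike.coe_subset_coe.2 le_sup_left

theorem card_zJ (hT : IsPGroup 2 T) (hK : Cfsg.IsJComponent T K) :
    Nat.card (zJ T) = 2 * Nat.card (cK T K) := by
  have hn : cK T K ≤ Subgroup.normalizer (wZ T K : Set G) := fun x hx =>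
    Subgroup.centralizer_le_normalizer _ (Subgroup.mem_centralizer_iff.2 fun y hy =>
      PGroups.elemAb_comm (zJ_elemAb T) hy.1 hx.1)
  have h := PLocal.card_sup_mul_card_inf hn
  have hbot : cK T K ⊓ wZ T K = ⊥ :=
    le_bot_iff.1 ((inf_le_inf_left _ inf_le_right).trans (cK_inf_wOf (preComp_of hT hK)).le)
  have hzJ := zJ_eq hT hK
  rw [hzJ, hbot, Subgroup.card_bot, mul_one, (split hT hK).2.1, mul_comm] at h
  exact h

theorem exists_wZ (hT : IsPGroup 2 T) (hK : Cfsg.IsJComponent T K) :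
    ∃ w ∈ wZ T K, w ≠ 1 ∧ w ∉ cK T K := by
  have hne : wZ T K ≠ ⊥ := fun e => by
    have := (split hT hK).2.1
    rw [show Cfsg.omegaCenterOf (jT T) ⊓ Cfsg.wOf K = ⊥ from e, Subgroup.card_bot] at this
    omega
  obtain ⟨w, hw, hw1⟩ := (Subgroup.bot_or_exists_ne_one _).resolve_left hne
  exact ⟨w, hw, hw1, fun h => hw1 (Subgroup.mem_bot.1 (cK_inf_wOf (preComp_of hT hK) ▸ ⟨h, hw.2⟩))⟩

theorem mem_zJ_cases (hT : IsPGroup 2 T) (hK : Cfsg.IsJComponent T K) {w z : G} (hw : w ∈ wZ T K)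
    (hw1 : w ≠ 1) (hz : z ∈ zJ T) : ∃ c ∈ cK T K, z = c ∨ z = c * w := by
  rw [← zJ_eq hT hK] at hz
  have hn : cK T K ≤ Subgroup.normalizer (wZ T K : Set G) := fun x hx =>
    Subgroup.centralizer_le_normalizer _ (Subgroup.mem_centralizer_iff.2 fun y hy =>
      PGroups.elemAb_comm (zJ_elemAb T) hy.1 hx.1)
  have hz' : z ∈ ((cK T K ⊔ wZ T K : Subgroup G) : Set G) := hz
  rw [Subgroup.coe_mul_of_left_le_normalizer_right _ _ hn] at hz'
  obtain ⟨c, hc, u, hu, rfl⟩ := hz'
  refine ⟨c, hc, ?_⟩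
  rcases eq_one_or_eq_of_card_two (split hT hK).2.1.le hw hw1 hu with rfl | rfl
  · exact Or.inl (mul_one c)
  · exact Or.inr rfl

/-- `z` fixed by `d` lies in the part centralised by `K`. -/
theorem mem_cK_of_commute (hT : IsPGroup 2 T) (hK : Cfsg.IsJComponent T K) {d z : G} (hd : d ∈ K)
    (hd3 : d ^ 3 = 1) (hgen : Cfsg.pCoreOf 2 K ⊔ Subgroup.zpowers d = K) (hz : z ∈ zJ T)
    (hzd : d * z = z * d) : z ∈ cK T K := by
  obtain ⟨w, hw, hw1, -⟩ := exists_wZ hT hK
  obtain ⟨c, hc, rfl | rfl⟩ := mem_zJ_cases hT hK hw hw1 hz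
  · exact hc
  exfalso
  have hdc : Commute d c := Subgroup.mem_centralizer_iff.1 hc.2 d hd
  refine hw1 ((preComp_of hT hK).no_fixed hd hd3 hgen w hw.2 ?_)
  have h1 : Commute d (c⁻¹ * (c * w)) := hdc.inv_right.mul_right hzd
  rwa [inv_mul_cancel_left] at h1

/-- A component with the unique maximal 2-local `L` over `⟨K, J(T)⟩`. -/
structure Vertex (T K L : Subgroup G) : Prop where
  maximal : Cfsg.IsMaximalTwoLocal L
  mem : L ∈ Cfsg.jOvergroups T
  comp : Cfsg.IsJComponent T K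
  le : K ≤ L
  uniq : ∀ L' : Subgroup G, Cfsg.IsMaximalTwoLocal L' → K ⊔ jT T ≤ L' → L' = L

theorem isTwoLocal_map (a : G) {X : Subgroup G} (h : Cfsg.IsTwoLocal X) :
    Cfsg.IsTwoLocal (X.map (MulAut.conj a).toMonoidHom) := by
  obtain ⟨P, hP, hP1, rfl⟩ := h
  refine ⟨P.map (MulAut.conj a).toMonoidHom, hP.map _,
    fun e => hP1 ((Subgroup.map_eq_bot_iff_of_injective _ (MulAut.conj a).injective).1 e), ?_⟩
  exact Subgroup.map_equiv_normalizer_eq P (MulAut.conj a)

theorem isMaximalTwoLocal_map (a : G) {X : Subgroup G} (h : Cfsg.IsMaximalTwoLocal X) :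
    Cfsg.IsMaximalTwoLocal (X.map (MulAut.conj a).toMonoidHom) := by
  refine ⟨isTwoLocal_map a h.1, fun Y hY hle => ?_⟩
  have h1 := h.2 _ (isTwoLocal_map a⁻¹ hY) fun l hl => ⟨_, hle ⟨l, hl, rfl⟩, by simp [mul_assoc]⟩
  rw [← h1, map_conj_inv]

theorem mem_jOvergroups_map (a : G) (h : L ∈ Cfsg.jOvergroups T) :
    L.map (MulAut.conj a).toMonoidHom ∈ Cfsg.jOvergroups (T.map (MulAut.conj a).toMonoidHom) := by
  have hQ := CosetGraph.SylowIn.pCoreOf_map 2 L (MulAut.conj a).toMonoidHom (MulAut.conj a).injective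
  refine ⟨isSylowTwoIn_map a h.1, fun hle => h.2.1 ?_, ?_⟩
  · rw [← hQ, ← PGroups.thompsonSubgroupOf_conj] at hle
    exact (Subgroup.map_le_map_iff_of_injective (MulAut.conj a).injective).1 hle
  · rw [← hQ]
    intro x hx
    refine ⟨a⁻¹ * x * a, h.2.2 (Subgroup.mem_centralizer_iff.2 fun q hq => ?_), by simp [mul_assoc]⟩
    have h1 : (a * q * a⁻¹) * x = x * (a * q * a⁻¹) := Subgroup.mem_centralizer_iff.1 hx _ ⟨q, hq, rfl⟩
    calc q * (a⁻¹ * x * a) = a⁻¹ * ((a * q * a⁻¹) * x) * a := by group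
      _ = a⁻¹ * (x * (a * q * a⁻¹)) * a := by rw [h1]
      _ = _ := by group

namespace Vertex

theorem two (v : Vertex T K L) : IsPGroup 2 T := v.mem.1.2.1

theorem sup_le (v : Vertex T K L) : K ⊔ jT T ≤ L := _root_.sup_le v.le (LocalData.jT_le v.mem)

theorem map (v : Vertex T K L) (a : G) :
    Vertex (T.map (MulAut.conj a).toMonoidHom) (K.map (MulAut.conj a).toMonoidHom)
      (L.map (MulAut.conj a).toMonoidHom) := by
  refine ⟨isMaximalTwoLocal_map a v.maximal, mem_jOvergroups_map a v.mem, isJComponent_map a v.comp,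
    Subgroup.map_mono v.le, fun L' hL' hle => ?_⟩
  rw [← map_jT, ← Subgroup.map_sup] at hle
  have h1 := v.uniq _ (isMaximalTwoLocal_map a⁻¹ hL') fun x hx =>
    ⟨_, hle ⟨x, hx, rfl⟩, by simp [mul_assoc]⟩
  rw [← h1, map_conj_inv]

theorem eq_of_le (v : Vertex T K L) {L' : Subgroup G} (h : Cfsg.IsTwoLocal L')
    (hle : K ⊔ jT T ≤ L') : L' ≤ L := by
  obtain ⟨M', hM', hLM'⟩ := exists_maximal_ge h
  exact hLM'.trans (v.uniq M' hM' (hle.trans hLM')).le

theorem centralizer_le (v : Vertex T K L) {c : G} (hc : c ∈ cK T K) (hc1 : c ≠ 1) :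
    Subgroup.centralizer ({c} : Set G) ≤ L := by
  have hp : IsPGroup 2 (Subgroup.zpowers c) :=
    (v.two.to_le ((zJ_le_jT T).trans (PGroups.thompsonSubgroupOf_le 2 T))).to_le (Subgroup.zpowers_le.2 hc.1)
  have hle : Subgroup.centralizer ({c} : Set G) ≤ Subgroup.normalizer (Subgroup.zpowers c : Set G) := by
    refine le_trans (fun x hx => ?_) (Subgroup.centralizer_le_normalizer _)
    refine Subgroup.mem_centralizer_iff.2 ?_
    rintro _ ⟨k, rfl⟩
    exact ((show Commute c x from (Subgroup.mem_centralizer_singleton_iff.1 hx).symm).zpow_left k).eq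
  refine hle.trans (v.eq_of_le (isTwoLocal_normalizer hp (Subgroup.zpowers_ne_bot.2 hc1)) (le_trans ?_ hle))
  exact _root_.sup_le (fun k hk => Subgroup.mem_centralizer_singleton_iff.2 (Subgroup.mem_centralizer_iff.1 hc.2 k hk))
    (fun j hj => Subgroup.mem_centralizer_singleton_iff.2 (zJ_comm hc.1 hj))

theorem centralizer_T_le (v : Vertex T K L) : Subgroup.centralizer (T : Set G) ≤ T :=
  (Subgroup.centralizer_le (SetLike.coe_subset_coe.2 (LocalData.core_le_T v.mem))).trans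
    (v.mem.2.2.trans (LocalData.core_le_T v.mem))

theorem omegaCenter_sylow_le (v : Vertex T K L) (S : Sylow 2 G) (hTS : T ≤ (S : Subgroup G)) :
    Cfsg.omegaCenterOf (S : Subgroup G) ≤ Cfsg.omegaCenterOf T := by
  intro z hz
  have hzC : z ∈ Subgroup.centralizer (T : Set G) := Subgroup.centralizer_le (SetLike.coe_subset_coe.2 hTS)
    (Subgroup.le_centralizer_iff.1 (PLocal.le_centralizer_omegaCenterOf _) hz)
  exact PGroups.mem_omegaOne_of_pow ⟨v.centralizer_T_le hzC, hzC⟩ ((PLocal.omegaCenterOf_elemAb _).2 z hz)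

theorem omegaCenter_le (v : Vertex T K L) : Cfsg.omegaCenterOf T ≤ zJ T := by
  intro z hz
  obtain ⟨A, hA⟩ := PGroups.maxElemAbIn_nonempty 2 T
  have hc : ∀ t ∈ T, t * z = z * t := fun t ht =>
    (Subgroup.mem_centralizer_iff.1 (PLocal.le_centralizer_omegaCenterOf T ht) z hz).symm
  have hz2 := (PLocal.omegaCenterOf_elemAb (p := 2) T).2 z hz
  refine PGroups.mem_omegaOne_of_pow ⟨?_, Subgroup.mem_centralizer_iff.2 fun j hj =>
    hc j (PGroups.thompsonSubgroupOf_le 2 T hj)⟩ hz2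
  exact PGroups.le_thompsonSubgroupOf hA (mem_of_bound hA.2.1 hA.1 le_rfl hA.2.2
    (PLocal.omegaCenterOf_le T hz) hz2 fun a ha => hc a (hA.1 ha))

end Vertex

/-- Two vertices over one `T`. -/
structure Pair (T K L K' L' : Subgroup G) : Prop where
  left : Vertex T K L
  right : Vertex T K' L'
  ne : L ≠ L'

namespace Pair

variable {K' L' : Subgroup G}

theorem symm (p : Pair T K L K' L') : Pair T K' L' K L := ⟨p.right, p.left, p.ne.symm⟩

theorem map (p : Pair T K L K' L') (a : G) :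
    Pair (T.map (MulAut.conj a).toMonoidHom) (K.map (MulAut.conj a).toMonoidHom)
      (L.map (MulAut.conj a).toMonoidHom) (K'.map (MulAut.conj a).toMonoidHom)
      (L'.map (MulAut.conj a).toMonoidHom) :=
  ⟨p.left.map a, p.right.map a, fun e => p.ne (Subgroup.map_injective (MulAut.conj a).injective e)⟩

theorem cK_disjoint (p : Pair T K L K' L') {c : G} (h : c ∈ cK T K) (h' : c ∈ cK T K') : c = 1 := by
  by_contra hc
  refine p.ne (p.left.uniq L' p.right.maximal (le_trans ?_ (p.right.centralizer_le h' hc))).symm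
  exact sup_le (fun k hk => Subgroup.mem_centralizer_singleton_iff.2 (Subgroup.mem_centralizer_iff.1 h.2 k hk))
    (fun j hj => Subgroup.mem_centralizer_singleton_iff.2 (zJ_comm h.1 hj))

theorem card_cK_le (p : Pair T K L K' L') : Nat.card (cK T K) ≤ 2 := by
  have hn : cK T K ≤ Subgroup.normalizer (cK T K' : Set G) := fun x hx =>
    Subgroup.centralizer_le_normalizer _ (Subgroup.mem_centralizer_iff.2 fun y hy =>
      PGroups.elemAb_comm (zJ_elemAb T) hy.1 hx.1)
  have h := PLocal.card_sup_mul_card_inf hn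
  have hbot : cK T K ⊓ cK T K' = ⊥ :=
    le_bot_iff.1 fun x hx => Subgroup.mem_bot.2 (p.cK_disjoint hx.1 hx.2)
  rw [hbot, Subgroup.card_bot, mul_one] at h
  have h1 : Nat.card (cK T K ⊔ cK T K' : Subgroup G) ≤ Nat.card (zJ T) :=
    Subgroup.card_le_of_le (sup_le inf_le_left inf_le_left)
  rw [h, card_zJ p.right.two p.right.comp, mul_comm 2] at h1
  exact Nat.le_of_mul_le_mul_left (by rwa [mul_comm] at h1) (Nat.card_pos (α := cK T K'))

theorem card_zJ_le (p : Pair T K L K' L') : Nat.card (zJ T) ≤ 4 := by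
  rw [card_zJ p.left.two p.left.comp]
  have := p.card_cK_le
  omega

theorem le_normalizer (p : Pair T K L K' L') (hG : ZNHyp G) : T ≤ Subgroup.normalizer (K : Set G) := by
  haveI : Fact (Nat.Prime 2) := ⟨Nat.prime_two⟩
  intro t ht
  rw [mem_normalizer_iff_map]
  by_contra hne
  set f := (MulAut.conj t).toMonoidHom with hf
  set K2 := K.map f with hK2def
  have hT := p.left.two
  have hTt : T.map f = T := mem_normalizer_iff_map.1 (Subgroup.le_normalizer ht)
  have htL : t ∈ L := p.left.mem.1.1 ht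
  have hLt : L.map f = L := mem_normalizer_iff_map.1 (Subgroup.le_normalizer htL)
  have v2 : Vertex T K2 L := by
    have := p.left.map t
    rwa [hTt, hLt] at this
  have p2 : Pair T K2 L K' L' := ⟨v2, p.right, p.ne⟩
  obtain ⟨R, D⟩ := exists_localData hG p.left.mem
  have hcent : ∀ {A B : Subgroup G}, Cfsg.IsJComponent T A → A ≤ L → Cfsg.IsJComponent T B → B ≤ L →
      A ≠ B → wZ T B ≤ cK T A := by
    intro A B hA hAL hB hBL hAB x hx
    obtain ⟨d, hd, hd3, hgen, hline, hsup⟩ := D.exists_line p.left.mem hA hAL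
    exact mem_cK_of_commute hT hA hd hd3 hgen hx.1
      (Subgroup.mem_centralizer_iff.1 (D.comp_centralizes hG p.left.mem hA hAL hB hBL hAB hd hd3 hline hsup)
        x hx.2).symm
  obtain ⟨w, hw, hw1, hwc⟩ := exists_wZ hT p.left.comp
  set w2 := t * w * t⁻¹ with hw2
  have htZ : t ∈ Subgroup.normalizer (zJ T : Set G) := by
    rw [mem_normalizer_iff_map]
    change (PLocal.omegaCenterOf 2 (jT T)).map _ = _
    rw [PLocal.map_omegaCenterOf _ (MulAut.conj t).injective, map_jT, hTt]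
    rfl
  have hw2W : w2 ∈ wZ T K2 := by
    refine ⟨(Subgroup.mem_normalizer_iff.1 htZ w).1 hw.1, ?_⟩
    rw [hK2def, ← map_wOf f (MulAut.conj t).injective]
    exact ⟨w, hw.2, rfl⟩
  have hw21 : w2 ≠ 1 := fun e => hw1 (conj_eq_one_iff.1 e)
  have hw2c : w2 ∈ cK T K := hcent p.left.comp p.left.le v2.comp v2.le (Ne.symm hne) hw2W
  have hwc2 : w ∈ cK T K2 := hcent v2.comp v2.le p.left.comp p.left.le hne hw
  -- every element of `Ω₁Z(S)` is centralised by `K'`
  obtain ⟨S, hTS⟩ := hT.exists_le_sylow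
  refine not_le_centralizer_omegaCenter hG p.right.comp S
    ((PGroups.thompsonSubgroupOf_le 2 T).trans hTS) (Subgroup.le_centralizer_iff.1 fun z hz => ?_)
  have hzT := p.left.omegaCenter_sylow_le S hTS hz
  have hzJ := p.left.omegaCenter_le hzT
  have hzt : t * z * t⁻¹ = z := by
    rw [(Subgroup.mem_centralizer_iff.1 (PLocal.le_centralizer_omegaCenterOf T ht) z hzT).symm,
      mul_inv_cancel_right]
  -- the element of `cK T K'` is `w * w₂`
  have hc' : ∀ c ∈ cK T K', c ≠ 1 → c = w2 * w := by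
    intro c hc hc1
    obtain ⟨c0, hc0, h | h⟩ := mem_zJ_cases hT p.left.comp hw hw1 hc.1
    · exact absurd (p.cK_disjoint (h ▸ hc0) hc) hc1
    rcases eq_one_or_eq_of_card_two p.card_cK_le hw2c hw21 hc0 with e | e
    · rw [e, one_mul] at h
      exact absurd (p2.cK_disjoint (h ▸ hwc2) hc) hc1
    · rw [h, e]
  obtain ⟨c', hc', hc'1⟩ : ∃ c' ∈ cK T K', c' ≠ 1 := by
    refine (Subgroup.bot_or_exists_ne_one _).resolve_left fun e => ?_
    have h1 := card_zJ hT p.left.comp
    rw [card_zJ hT p.right.comp, e, Subgroup.card_bot] at h1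
    have h2 : Nat.card (cK T K) ≠ 1 := fun e => hw21 (Subgroup.mem_bot.1 (Subgroup.card_eq_one.1 e ▸ hw2c))
    omega
  obtain ⟨c0, hc0, h | h⟩ := mem_zJ_cases hT p.left.comp hw hw1 hzJ
  · rcases eq_one_or_eq_of_card_two p.card_cK_le hw2c hw21 hc0 with e | e
    · rw [h, e]; exact (Subgroup.centralizer (K' : Set G)).one_mem
    · exfalso
      rw [h, e] at hzt
      have h3 : w2 = w := by
        have : t⁻¹ * w2 * t = w2 := by
          conv_lhs => rw [← hzt]
          group
        rw [← this, hw2]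
        group
      exact hw1 (Subgroup.mem_bot.1 (cK_inf_wOf (preComp_of hT p.left.comp) ▸ ⟨h3 ▸ hw2c, hw.2⟩))
  · rcases eq_one_or_eq_of_card_two p.card_cK_le hw2c hw21 hc0 with e | e
    · exfalso
      rw [h, e, one_mul] at hzt
      exact hw1 (Subgroup.mem_bot.1
        (cK_inf_wOf (preComp_of hT p.left.comp) ▸ ⟨(show w2 = w from hzt) ▸ hw2c, hw.2⟩))
    · rw [h, e, ← ‹∀ c ∈ cK T K', c ≠ 1 → c = w2 * w› c' hc' hc'1]
      exact hc'.2

theorem centralizes_zJ (p : Pair T K L K' L') (hG : ZNHyp G) :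
    T ≤ Subgroup.centralizer (zJ T : Set G) := by
  intro t ht
  have hT := p.left.two
  have htK := p.le_normalizer hG ht
  have htZ : t ∈ Subgroup.normalizer (zJ T : Set G) := by
    rw [mem_normalizer_iff_map]
    change (PLocal.omegaCenterOf 2 (jT T)).map _ = _
    rw [PLocal.map_omegaCenterOf _ (MulAut.conj t).injective, mem_normalizer_iff_map.1 (le_normalizer_jT T ht)]; rfl
  have hfix : ∀ H : Subgroup G, t ∈ Subgroup.normalizer (H : Set G) → Nat.card H ≤ 2 → ∀ x ∈ H, t * x = x * t := by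
    intro H htH hH x hx
    rcases eq_or_ne x 1 with rfl | hx1
    · simp
    rcases eq_one_or_eq_of_card_two hH hx hx1 ((Subgroup.mem_normalizer_iff.1 htH x).1 hx) with e | e
    · exact absurd (conj_eq_one_iff.1 e) hx1
    · exact mul_inv_eq_iff_eq_mul.1 e
  have h1 := hfix (wZ T K) (Subgroup.inf_normalizer_le_normalizer_inf
    ⟨htZ, normalizer_le_normalizer_wOf K htK⟩) (split hT p.left.comp).2.1.le
  have h2 := hfix (cK T K) (Subgroup.inf_normalizer_le_normalizer_inf
    ⟨htZ, Balance.normalizer_le_normalizer_centralizer _ htK⟩) p.card_cK_le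
  obtain ⟨w, hw, hw1, -⟩ := exists_wZ hT p.left.comp
  refine Subgroup.mem_centralizer_iff.2 fun z hz => ?_
  obtain ⟨c, hc, rfl | rfl⟩ := mem_zJ_cases hT p.left.comp hw hw1 hz
  · exact (h2 _ hc).symm
  · exact ((show Commute t c from h2 c hc).mul_right (show Commute t w from h1 w hw)).eq.symm

theorem omegaCenter_eq (p : Pair T K L K' L') (hG : ZNHyp G) : Cfsg.omegaCenterOf T = zJ T := by
  refine le_antisymm p.left.omegaCenter_le fun z hz => PGroups.mem_omegaOne_of_pow
    ⟨PGroups.thompsonSubgroupOf_le 2 T (zJ_le_jT T hz), ?_⟩ ((zJ_elemAb T).2 z hz)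
  exact Subgroup.le_centralizer_iff.1 (p.centralizes_zJ hG) hz

end Pair

end Cfsg.Agent.Lib.LAEven56.JComp
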